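/-
Small tools for exceptional character arguments: generalised characters of norm three, pairs
from a normal subset summed against an irreducible character, values at involutions.
-/
import Cfsg.Agent.Lib.Characters.Basic
import Mathlib.RepresentationTheory.Irreducible
import Mathlib.Analysis.Complex.Polynomial.Basic
import Mathlib.Algebra.Order.BigOperators.Group.Finset

set_option autoImplicit false
set_option linter.style.haveILetI false

namespace Cfsg.Agent.Lib.Fg6.NormThree

open Cfsg.Agent.Lib.Characters.Basic Cfsg.Agent.Lib.Induced.Basic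
open scoped ComplexConjugate

universe u

variable {G : Type u} [Group G] [Fintype G]

/-- Expansion of a generalised character, with integer coefficients. -/
theorem exists_int_expansion [Fintype (Cfsg.IrrCharacter G)] {f : G → ℂ}
    (hf : Cfsg.IsGeneralizedCharacter G f) :
    ∃ a : Cfsg.IrrCharacter G → ℤ, f = ∑ ψ, (a ψ : ℂ) • (ψ : G → ℂ) ∧
      ∀ ψ : Cfsg.IrrCharacter G, (a ψ : ℂ) = Cfsg.classInner f ψ := by
  obtain ⟨χ, φ, hχ, hφ, rfl⟩ := hf
  have h1 : ∀ ψ : Cfsg.IrrCharacter G, ∃ m : ℤ, (m : ℂ) = Cfsg.classInner (χ - φ) ψ := by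
    intro ψ
    obtain ⟨m, hm⟩ := exists_classInner_nat hχ (isCharacter_irr ψ)
    obtain ⟨k, hk⟩ := exists_classInner_nat hφ (isCharacter_irr ψ)
    exact ⟨(m : ℤ) - k, by rw [classInner_sub_left, hm, hk]; push_cast; rfl⟩
  choose a ha using h1
  refine ⟨a, ?_, ha⟩
  simp only [ha, classInner_sub_left, sub_smul, Finset.sum_sub_distrib]
  rw [← finsum_eq_sum_of_fintype, ← finsum_eq_sum_of_fintype, ← character_eq_finsum hχ,
    ← character_eq_finsum hφ]

/-- A generalised character of norm three, containing the trivial character once and vanishing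
at the identity, is `1 + χ - ξ`. -/
theorem exists_eq_of_norm_three {f : G → ℂ} (hf : Cfsg.IsGeneralizedCharacter G f)
    (hnorm : Cfsg.classInner f f = 3) (hone : Cfsg.classInner f (fun _ => 1) = 1) (h0 : f 1 = 0) :
    ∃ χ ξ : Cfsg.IrrCharacter G, f = fun g => 1 + (χ : G → ℂ) g - (ξ : G → ℂ) g := by
  classical
  haveI := Fintype.ofFinite (Cfsg.IrrCharacter G)
  obtain ⟨a, hfe, ha⟩ := exists_int_expansion hf
  have hsq : ∑ ψ, (a ψ) * (a ψ) = 3 := by
    have h : Cfsg.classInner f f = ∑ ψ, ((a ψ * a ψ : ℤ) : ℂ) := by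
      conv_lhs => arg 1; rw [hfe]
      rw [classInner_sum_left]
      refine Finset.sum_congr rfl fun ψ _ => ?_
      rw [classInner_smul_left, ← classInner_conj_symm f (ψ : G → ℂ), ← ha]
      simp
    rw [hnorm] at h
    exact_mod_cast h.symm
  have ha1 : a (oneChar G) = 1 := by
    have h := ha (oneChar G)
    rw [show ((oneChar G : Cfsg.IrrCharacter G) : G → ℂ) = fun _ => 1 from rfl, hone] at h
    exact_mod_cast h
  set S := ((Finset.univ : Finset (Cfsg.IrrCharacter G)).erase (oneChar G)).filter fun ψ => a ψ ≠ 0 with hS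
  have hrest : ∑ ψ ∈ S, a ψ * a ψ = 2 := by
    rw [hS, Finset.sum_filter_of_ne (p := fun ψ => a ψ ≠ 0) fun ψ _ h => fun hz => h (by rw [hz, mul_zero])]
    have := Finset.add_sum_erase Finset.univ (fun ψ => a ψ * a ψ) (Finset.mem_univ (oneChar G))
    rw [hsq, ha1] at this
    linarith
  have hge : ∀ ψ ∈ S, 1 ≤ a ψ * a ψ := fun ψ hψ => by
    have := (Finset.mem_filter.1 hψ).2
    nlinarith [Int.one_le_abs this, sq_abs (a ψ)]
  have hcard : S.card = 2 := by
    have h2 : (S.card : ℤ) ≤ 2 := by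
      have := Finset.card_nsmul_le_sum S _ 1 hge
      rw [nsmul_eq_mul, mul_one, hrest] at this
      exact this
    have h0' : S.card ≠ 0 := fun h => by
      rw [Finset.card_eq_zero.1 h, Finset.sum_empty] at hrest
      omega
    have h1' : S.card ≠ 1 := fun h => by
      obtain ⟨x, hx⟩ := Finset.card_eq_one.1 h
      rw [hx, Finset.sum_singleton] at hrest
      have hb : a x ≤ 1 ∧ -1 ≤ a x := ⟨by nlinarith, by nlinarith⟩
      obtain ⟨h', h''⟩ := hb
      interval_cases a x <;> omega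
    omega
  obtain ⟨χ, ξ, hne, hSe⟩ := Finset.card_eq_two.1 hcard
  have hsum2 := hrest
  rw [hSe, Finset.sum_pair hne] at hsum2
  have hχ := hge χ (hSe ▸ by simp)
  have hξ := hge ξ (hSe ▸ by simp)
  have hfe2 : f = fun g => 1 + (a χ : ℂ) * (χ : G → ℂ) g + (a ξ : ℂ) * (ξ : G → ℂ) g := by
    funext g
    conv_lhs => rw [hfe]
    rw [Finset.sum_apply, ← Finset.add_sum_erase _ _ (Finset.mem_univ (oneChar G)), ha1]
    have : ∑ ψ ∈ (Finset.univ : Finset (Cfsg.IrrCharacter G)).erase (oneChar G),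
        ((a ψ : ℂ) • (ψ : G → ℂ)) g = ∑ ψ ∈ S, ((a ψ : ℂ) • (ψ : G → ℂ)) g := by
      rw [hS, Finset.sum_filter_of_ne (p := fun ψ => a ψ ≠ 0) fun ψ _ h => fun hz => h (by simp [hz])]
    rw [this, hSe, Finset.sum_pair hne]
    simp [oneChar_apply, add_assoc]
  obtain ⟨d, hd, hdχ⟩ := exists_degree_pos χ
  obtain ⟨e, he, heξ⟩ := exists_degree_pos ξ
  have hdeg : (0 : ℤ) = 1 + a χ * d + a ξ * e := by
    have := congrFun hfe2 1
    simp only [h0, hdχ, heξ] at this
    exact_mod_cast this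
  have hχ1 : a χ = 1 ∨ a χ = -1 := mul_self_eq_one_iff.1 (by linarith)
  have hξ1 : a ξ = 1 ∨ a ξ = -1 := mul_self_eq_one_iff.1 (by linarith)
  rcases hχ1 with hx | hx <;> rcases hξ1 with hy | hy
  · rw [hx, hy] at hdeg; omega
  · refine ⟨χ, ξ, hfe2.trans ?_⟩
    funext g; simp [hx, hy, sub_eq_add_neg]
  · refine ⟨ξ, χ, hfe2.trans ?_⟩
    funext g; simp [hx, hy]; ring
  · rw [hx, hy] at hdeg; omega

/-- Sum of an irreducible character over products of pairs from a normal subset. -/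
theorem sum_pairs_mul_degree (χ : Cfsg.IrrCharacter G) (S : Finset G)
    (hS : ∀ g s, s ∈ S → g * s * g⁻¹ ∈ S) :
    (χ : G → ℂ) 1 * ∑ s ∈ S, ∑ s' ∈ S, (χ : G → ℂ) (s * s') = (∑ s ∈ S, (χ : G → ℂ) s) ^ 2 := by
  obtain ⟨n, ρ, hρ, hχ⟩ := exists_rep χ
  rw [← hχ]
  set T : Module.End ℂ (Fin n → ℂ) := ∑ y ∈ S, ρ y with hT
  have hcomm : ∀ h : G, T * ρ h = ρ h * T := by
    intro h
    rw [hT, Finset.sum_mul, Finset.mul_sum]
    refine Finset.sum_equiv (MulAut.conj h⁻¹).toEquiv (fun y => ?_) (fun y _ => ?_)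
    · refine ⟨fun hy => by simpa using hS h⁻¹ y hy, fun hy => ?_⟩
      have := hS h _ hy
      simpa [mul_assoc] using this
    · rw [← map_mul, ← map_mul]
      simp [mul_assoc]
  let F : Representation.IntertwiningMap ρ ρ :=
    { toLinearMap := T
      isIntertwining' := fun h => hcomm h }
  obtain ⟨ω, hω⟩ :=
    (Representation.IsIrreducible.algebraMap_intertwiningMap_bijective_of_isAlgClosed (ρ := ρ)).2 F
  have hTω : T = algebraMap ℂ (Module.End ℂ (Fin n → ℂ)) ω := by
    have := congrArg Representation.IntertwiningMap.toLinearMap hω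
    exact this.symm
  have h1 : ∑ s ∈ S, ρ.character s = LinearMap.trace ℂ _ T := by
    rw [hT, map_sum]; rfl
  have h2 : ∑ s ∈ S, ∑ s' ∈ S, ρ.character (s * s') = LinearMap.trace ℂ _ (T * T) := by
    rw [hT, Finset.sum_mul_sum]
    simp only [map_sum, ← map_mul]
    rfl
  rw [h1, h2, hTω, ← map_mul, Representation.char_one, Algebra.algebraMap_eq_smul_one,
    Algebra.algebraMap_eq_smul_one, map_smul, map_smul, LinearMap.trace_one, smul_eq_mul, smul_eq_mul]
  ring

/-- The value of a character at an involution is an integer. -/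
theorem exists_int_involution (χ : Cfsg.IrrCharacter G) {t : G} (ht : t * t = 1) :
    ∃ c : ℤ, (χ : G → ℂ) t = c := by
  obtain ⟨n, ρ, -, hχ⟩ := exists_rep χ
  obtain ⟨ι, hι, b, ζ, hζ, -, htr⟩ :=
    Cfsg.Agent.Lib.Characters.Diag.exists_eigenbasis ρ t two_ne_zero (by rw [pow_two, ht])
  have : ∀ i, ∃ c : ℤ, ζ i = c := fun i => by
    rcases sq_eq_one_iff.1 (hζ i).2 with h | h
    · exact ⟨1, by simp [h]⟩
    · exact ⟨-1, by simp [h]⟩
  choose c hc using this
  exact ⟨∑ i, c i, by rw [← hχ, htr]; simp [hc]⟩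

/-- Norm one bounds the values on any subset. -/
theorem card_mul_sq_le (χ : Cfsg.IrrCharacter G) (S : Finset G) (c : ℤ)
    (hS : ∀ s ∈ S, (χ : G → ℂ) s = c) : (S.card : ℤ) * c ^ 2 ≤ Nat.card G := by
  have hne : (Nat.card G : ℂ) ≠ 0 := natCard_ne_zero
  have h : ∑ g : G, ((Complex.normSq ((χ : G → ℂ) g) : ℝ) : ℂ) = (Nat.card G : ℂ) := by
    have := classInner_self_irr χ
    rw [Cfsg.classInner, inv_mul_eq_one₀ hne] at this
    rw [this]
    exact Finset.sum_congr rfl fun g _ => by rw [Complex.mul_conj]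
  rw [← Complex.ofReal_sum, ← Complex.ofReal_natCast, Complex.ofReal_inj] at h
  have hle : ∑ g ∈ S, Complex.normSq ((χ : G → ℂ) g) ≤ (Nat.card G : ℝ) := by
    rw [← h]
    exact Finset.sum_le_sum_of_subset_of_nonneg (Finset.subset_univ _) fun g _ _ => Complex.normSq_nonneg _
  rw [Finset.sum_congr rfl fun g hg => by rw [hS g hg], Finset.sum_const, nsmul_eq_mul] at hle
  have hc : Complex.normSq ((c : ℤ) : ℂ) = ((c ^ 2 : ℤ) : ℝ) := by
    rw [show ((c : ℤ) : ℂ) = ((c : ℝ) : ℂ) by simp, Complex.normSq_ofReal]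
    push_cast; ring
  rw [hc] at hle
  exact_mod_cast hle

end Cfsg.Agent.Lib.Fg6.NormThree
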