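/-
Schur's theorem on permutation groups with a cyclic regular subgroup of prime power order:
the additive-combinatorial core.
-/
import Mathlib.Algebra.MonoidAlgebra.Basic
import Mathlib.Algebra.CharP.Lemmas
import Mathlib.Algebra.CharP.Algebra
import Mathlib.Data.ZMod.Basic
import Mathlib.Algebra.Field.ZMod
import Mathlib.GroupTheory.SpecificGroups.Cyclic
import Mathlib.Algebra.Group.Subgroup.Finite

set_option autoImplicit false
set_option linter.style.haveILetI false

namespace Cfsg.Agent.Lib.Fg6.SchurCyclic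

open Finset

variable {A : Type*} [AddCommGroup A]

/-- A family of permutations fixing `0` that moves differences coherently. -/
structure Coherent (Ps : Set (Equiv.Perm A)) : Prop where
  zero : ∀ π ∈ Ps, π 0 = 0
  shift : ∀ π ∈ Ps, ∀ w, ∃ π' ∈ Ps, ∀ z, π z - π w = π' (z - w)

/-- Sets preserved by all members. -/
def Invariant (Ps : Set (Equiv.Perm A)) (S : Set A) : Prop := ∀ π ∈ Ps, ∀ x, π x ∈ S ↔ x ∈ S

variable {Ps : Set (Equiv.Perm A)}

theorem Invariant.closure (hPs : Coherent Ps) {S : Set A} (hS : Invariant Ps S) :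
    ∀ π ∈ Ps, ∀ x ∈ AddSubgroup.closure S, π x ∈ AddSubgroup.closure S := by
  intro π hπ x hx
  induction hx using AddSubgroup.closure_induction generalizing π with
  | mem x hx => exact AddSubgroup.subset_closure ((hS π hπ x).2 hx)
  | zero => rw [hPs.zero π hπ]; exact zero_mem _
  | add x y _ _ hx hy =>
    obtain ⟨π', hπ', h⟩ := hPs.shift π hπ x
    have h1 := h (x + y)
    rw [add_sub_cancel_left, sub_eq_iff_eq_add] at h1
    rw [h1]
    exact add_mem (hy π' hπ') (hx π hπ)
  | neg x _ hx =>
    obtain ⟨π', hπ', h⟩ := hPs.shift π hπ (-x)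
    have h1 := h 0
    rw [hPs.zero π hπ, zero_sub, zero_sub, neg_neg] at h1
    rw [neg_eq_iff_eq_neg.1 h1]
    exact neg_mem (hx π' hπ')

/-- The period subgroup of an invariant set is preserved. -/
theorem Invariant.period (hPs : Coherent Ps) {S : Set A} (hS : Invariant Ps S) {h : A}
    (hh : ∀ s, s + h ∈ S ↔ s ∈ S) : ∀ π ∈ Ps, ∀ s, s + π h ∈ S ↔ s ∈ S := by
  intro π hπ s
  obtain ⟨π', hπ', e⟩ := hPs.shift π hπ h
  obtain ⟨v, rfl⟩ := π'.surjective s
  have h1 := e (v + h)
  rw [add_sub_cancel_right, sub_eq_iff_eq_add] at h1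
  rw [← h1, hS π hπ, hS π' hπ']
  exact hh v

section Count

variable [DecidableEq A]

/-- Self-intersection numbers are constant on orbits. -/
theorem overlap_eq (hPs : Coherent Ps) {S : Finset A} (hS : Invariant Ps (S : Set A))
    {π : Equiv.Perm A} (hπ : π ∈ Ps) (h : A) :
    (S.filter fun v => π h + v ∈ S).card = (S.filter fun v => h + v ∈ S).card := by
  obtain ⟨π', hπ', e⟩ := hPs.shift π hπ h
  have e' : ∀ v, π (h + v) = π h + π' v := fun v => by
    have h1 := e (h + v)
    rw [add_sub_cancel_left, sub_eq_iff_eq_add] at h1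
    rw [h1, add_comm]
  symm
  refine Finset.card_bij' (fun v _ => π' v) (fun v _ => π'.symm v) ?_ ?_ ?_ ?_
  · intro v hv
    simp only [Finset.mem_filter] at hv ⊢
    exact ⟨(hS π' hπ' v).2 hv.1, by rw [← e' v]; exact (hS π hπ _).2 hv.2⟩
  · intro v hv
    simp only [Finset.mem_filter] at hv ⊢
    refine ⟨(hS π' hπ' _).1 (by rw [Equiv.apply_symm_apply]; exact hv.1), (hS π hπ _).1 ?_⟩
    rw [e', Equiv.apply_symm_apply]
    exact hv.2
  · intros; simp
  · intros; simp

variable [Fintype A] {p : ℕ} [hp : Fact p.Prime]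

/-- Modulo `p` the fibres of multiplication by `p` are constant on orbits. -/
theorem fibre_eq (hPs : Coherent Ps) {S : Finset A} (hS : Invariant Ps (S : Set A))
    {π : Equiv.Perm A} (hπ : π ∈ Ps) (y : A) :
    ((S.filter fun s => p • s = π y).card : ZMod p) = ((S.filter fun s => p • s = y).card : ZMod p) := by
  have hchar : CharP (AddMonoidAlgebra (ZMod p) A) p :=
    charP_of_injective_algebraMap (R := ZMod p) (A := AddMonoidAlgebra (ZMod p) A)
      (RingHom.injective _) p
  have : ExpChar (AddMonoidAlgebra (ZMod p) A) p := ExpChar.prime (Fact.out : p.Prime)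
  let F : AddMonoidAlgebra (ZMod p) A := ∑ s ∈ S, AddMonoidAlgebra.single s 1
  have hF : ∀ (x : AddMonoidAlgebra (ZMod p) A) (y : A), (x * F).coeff y = ∑ s ∈ S, x.coeff (y - s) := by
    intro x y
    simp [F, Finset.mul_sum, AddMonoidAlgebra.coeff_sum, AddMonoidAlgebra.coeff_mul_single_apply,
      sub_eq_add_neg]
  have key : ∀ (n : ℕ), ∀ π ∈ Ps, ∀ y, (F ^ n).coeff (π y) = (F ^ n).coeff y := by
    intro n
    induction n with
    | zero =>
      intro π hπ y
      rw [pow_zero, AddMonoidAlgebra.one_def]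
      simp only [AddMonoidAlgebra.coeff_single_apply]
      by_cases hy : (0 : A) = y
      · rw [if_pos hy, if_pos (by rw [← hy, hPs.zero π hπ])]
      · rw [if_neg hy, if_neg fun h => hy (π.injective ((hPs.zero π hπ).trans h))]
    | succ n ih =>
      intro π hπ y
      rw [pow_succ, hF, hF]
      symm
      refine Finset.sum_bij' (fun s _ => π s) (fun s _ => π.symm s) ?_ ?_ ?_ ?_ ?_
      · intro s hs; exact (hS π hπ s).2 hs
      · intro s hs
        exact (hS π hπ _).1 (by rw [Equiv.apply_symm_apply]; exact hs)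
      · intros; simp
      · intros; simp
      · intro s _
        obtain ⟨π', hπ', e⟩ := hPs.shift π hπ s
        rw [e y, ih π' hπ']
  have hpow : ∀ y, (F ^ p).coeff y = ((S.filter fun s => p • s = y).card : ZMod p) := by
    intro y
    simp only [F, sum_pow_char p, AddMonoidAlgebra.single_pow, one_pow, AddMonoidAlgebra.coeff_sum,
      Finsupp.finset_sum_apply, AddMonoidAlgebra.coeff_single_apply, Finset.sum_boole]
  rw [← hpow, ← hpow, key p π hπ y]

/-- The core of Schur's theorem. -/
theorem exists_invariant_subgroup (hPs : Coherent Ps) {K : AddSubgroup A}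
    (hK : ∀ x, x ∈ K ↔ p • x = 0) (hKc : Nat.card K = p) (hKtop : K ≠ ⊤)
    (O : A → Finset A) (hO : ∀ x, Invariant Ps (O x : Set A)) (hmem : ∀ x, x ∈ O x)
    (hdisj : ∀ x y, ∀ z ∈ O x, z ∈ O y → O x = O y)
    (hreach : ∀ x, ∀ y ∈ O x, ∃ π ∈ Ps, π x = y) (hO0 : ∀ x, x ≠ 0 → (0 : A) ∉ O x)
    {x₁ x₂ : A} (hx₁ : x₁ ≠ 0) (hx₂ : x₂ ≠ 0) (hne : O x₁ ≠ O x₂) :
    ∃ L : AddSubgroup A, L ≠ ⊥ ∧ L ≠ ⊤ ∧ ∀ π ∈ Ps, ∀ x ∈ L, π x ∈ L := by
  classical
  by_contra hnone
  push Not at hnone
  have no : ∀ L : AddSubgroup A, L ≠ ⊥ → L ≠ ⊤ → (∀ π ∈ Ps, ∀ x ∈ L, π x ∈ L) → False := by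
    intro L h1 h2 h3
    obtain ⟨π, hπ, x, hx, hx'⟩ := hnone L h1 h2
    exact hx' (h3 π hπ x hx)
  have hpp : p.Prime := Fact.out
  have hKbot : K ≠ ⊥ := fun h => by
    rw [h] at hKc
    simp at hKc
    exact hpp.one_lt.ne hKc
  let pA : AddSubgroup A := (nsmulAddMonoidHom (α := A) p).range
  have hpA : pA ≠ ⊤ := by
    intro h
    have hs : Function.Surjective (nsmulAddMonoidHom (α := A) p) := AddMonoidHom.range_eq_top.1 h
    have hi := Finite.injective_iff_surjective.2 hs
    refine hKbot ((AddSubgroup.eq_bot_iff_forall _).2 fun x hx => hi ?_)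
    show p • x = p • (0 : A)
    rw [(hK x).1 hx, nsmul_zero]
  -- fibres over nonzero points are empty or full
  have hfull : ∀ (x₀ x : A), x ∈ O x₀ → x ∉ K → ∀ k ∈ K, x + k ∈ O x₀ := by
    intro x₀ x hx hxK k hk
    let c : A → ZMod p := fun y => (((O x₀).filter fun s => p • s = y).card : ZMod p)
    let T : Set A := {y | y ≠ 0 ∧ c y ≠ 0}
    have hT : Invariant Ps T := fun π hπ y => by
      have h1 : c (π y) = c y := fibre_eq hPs (hO x₀) hπ y
      show (π y ≠ 0 ∧ c (π y) ≠ 0) ↔ (y ≠ 0 ∧ c y ≠ 0)
      rw [h1]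
      exact and_congr_left fun _ =>
        ⟨fun h h0 => h (by rw [h0, hPs.zero π hπ]), fun h h0 => h (π.injective (h0.trans (hPs.zero π hπ).symm))⟩
    by_contra hxk
    have hy0 : p • x ≠ 0 := fun h => hxK ((hK x).2 h)
    have hc : c (p • x) ≠ 0 := by
      intro h0
      have hd : p ∣ ((O x₀).filter fun s => p • s = p • x).card := (ZMod.natCast_eq_zero_iff _ _).1 h0
      have hsub : ((O x₀).filter fun s => p • s = p • x) ⊆
          (Finset.univ.filter fun k => k ∈ K).image (x + ·) := by
        intro s hs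
        refine Finset.mem_image.2 ⟨-x + s, ?_, add_neg_cancel_left x s⟩
        simp only [Finset.mem_filter, Finset.mem_univ, true_and] at hs ⊢
        rw [hK, nsmul_add, hs.2, smul_neg, neg_add_cancel]
      have hcardK : (Finset.univ.filter fun k => k ∈ K).card = p := by
        rw [← hKc, Nat.card_eq_fintype_card, Fintype.card_subtype]
      have hle := Finset.card_le_card hsub
      rw [Finset.card_image_of_injective _ (add_right_injective x), hcardK] at hle
      have hpos : 0 < ((O x₀).filter fun s => p • s = p • x).card :=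
        Finset.card_pos.2 ⟨x, Finset.mem_filter.2 ⟨hx, rfl⟩⟩
      have hge := Nat.le_of_dvd hpos hd
      have heq := Finset.eq_of_subset_of_card_le hsub (by
        rw [Finset.card_image_of_injective _ (add_right_injective x), hcardK]; exact hge)
      have h2 : x + k ∈ (Finset.univ.filter fun k => k ∈ K).image (x + ·) :=
        Finset.mem_image.2 ⟨k, by simpa using hk, rfl⟩
      rw [← heq] at h2
      exact hxk (Finset.mem_filter.1 h2).1
    have hTne : p • x ∈ T := ⟨hy0, hc⟩
    refine no (AddSubgroup.closure T) (fun h => hy0 ?_) (fun h => hpA ?_) (hT.closure hPs)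
    · have := AddSubgroup.subset_closure hTne
      rw [h] at this
      exact this
    · refine top_le_iff.1 (h.ge.trans ((AddSubgroup.closure_le _).2 ?_))
      rintro y ⟨-, hy⟩
      have hne0 : ((O x₀).filter fun s => p • s = y).card ≠ 0 := fun h0 => hy (by simp [c, h0])
      obtain ⟨s, hs⟩ := Finset.card_ne_zero.1 hne0
      exact ⟨s, (Finset.mem_filter.1 hs).2⟩
  -- every nonzero orbit meets `K` in more than half of it
  have hhalf : ∀ x₀ : A, x₀ ≠ 0 → p ≤ 2 * ((O x₀).filter fun s => s ∈ K).card := by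
    intro x₀ hx₀
    set S := O x₀ with hSdef
    set A₀ := S.filter fun s => s ∈ K with hA₀
    by_contra hlt
    push Not at hlt
    obtain ⟨k, hkS, hkK⟩ : ∃ k ∈ S, k ∈ K := by
      by_contra hcon
      push Not at hcon
      let L : AddSubgroup A :=
        { carrier := {h | ∀ s, s + h ∈ S ↔ s ∈ S}
          zero_mem' := fun s => by rw [add_zero]
          add_mem' := fun {a b} ha hb s => by rw [← add_assoc, hb, ha]
          neg_mem' := fun {a} ha s => by rw [← ha (s + -a), neg_add_cancel_right] }
      refine no L (fun hL => hKbot (le_bot_iff.1 (hL ▸ ?_))) (fun hL => ?_) ?_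
      · intro k hk s
        constructor
        · intro h
          have h1 := hfull x₀ _ h (hcon _ h) (-k) (neg_mem hk)
          rwa [add_neg_cancel_right] at h1
        · exact fun h => hfull x₀ s h (hcon _ h) k hk
      · have h1 : -x₀ ∈ L := hL ▸ AddSubgroup.mem_top _
        have h2 := (h1 x₀).2 (hmem x₀)
        rw [add_neg_cancel] at h2
        exact hO0 x₀ hx₀ h2
      · intro π hπ h hh s
        exact (hO x₀).period hPs (S := (S : Set A)) hh π hπ s
    obtain ⟨x, hxS, hxK⟩ : ∃ x ∈ S, x ∉ K := by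
      by_contra hcon
      push Not at hcon
      refine no (AddSubgroup.closure (S : Set A)) (fun h => ?_) (fun h => hKtop ?_)
        ((hO x₀).closure hPs)
      · have := AddSubgroup.subset_closure (k := (S : Set A)) (hmem x₀)
        rw [h] at this
        exact hx₀ this
      · exact top_le_iff.1 (h.ge.trans ((AddSubgroup.closure_le _).2 fun s hs => hcon s hs))
    have hk0 : k ≠ 0 := fun h => hO0 x₀ hx₀ (h ▸ hkS)
    have hblock : ∀ (T : Finset A), (∀ t ∈ T, ∀ j ∈ K, t + j ∈ T) → p ∣ T.card := by
      intro T hT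
      rw [Finset.card_eq_sum_card_fiberwise (f := fun t => p • t) (t := T.image fun t => p • t)
        (fun t ht => Finset.mem_image_of_mem _ ht)]
      refine Finset.dvd_sum fun y hy => dvd_of_eq ?_
      obtain ⟨t, ht, rfl⟩ := Finset.mem_image.1 hy
      rw [show (T.filter fun u => p • u = p • t) = (Finset.univ.filter fun j => j ∈ K).image (t + ·) from ?_,
        Finset.card_image_of_injective _ (add_right_injective t), ← hKc, Nat.card_eq_fintype_card,
        Fintype.card_subtype]
      ext u
      simp only [Finset.mem_filter, Finset.mem_image, Finset.mem_univ, true_and]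
      constructor
      · rintro ⟨-, hu⟩
        exact ⟨-t + u, by rw [hK, nsmul_add, hu, smul_neg, neg_add_cancel], add_neg_cancel_left t u⟩
      · rintro ⟨j, hj, rfl⟩
        exact ⟨hT t ht j hj, by rw [nsmul_add, (hK j).1 hj, add_zero]⟩
    set B := S.filter fun s => s ∉ K with hB
    have hBk : ∀ b ∈ B, ∀ j ∈ K, b + j ∈ B := fun b hb j hj => by
      simp only [hB, Finset.mem_filter] at hb ⊢
      exact ⟨hfull x₀ b hb.1 hb.2 j hj, fun h => hb.2 (by
        have := K.sub_mem h hj
        rwa [add_sub_cancel_right] at this)⟩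
    have hsplit : ∀ h : A, (S.filter fun v => h + v ∈ S).card =
        (A₀.filter fun v => h + v ∈ S).card + (B.filter fun v => h + v ∈ S).card := fun h => by
      rw [← Finset.card_filter_add_card_filter_not (s := S.filter fun v => h + v ∈ S) (fun v => v ∈ K)]
      simp only [hA₀, hB, Finset.filter_filter, and_comm]
    -- the overlap at `k`
    have hNk : ((S.filter fun v => k + v ∈ S).card : ZMod p) =
        ((A₀.filter fun v => k + v ∈ A₀).card : ZMod p) := by
      rw [hsplit, Nat.cast_add,
        (ZMod.natCast_eq_zero_iff (B.filter fun v => k + v ∈ S).card _).2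
          (hblock _ (fun b hb j hj => ?_)), add_zero]
      · refine congrArg (fun T : Finset A => ((T.card : ℕ) : ZMod p)) (Finset.filter_congr fun v hv => ?_)
        simp only [hA₀, Finset.mem_filter] at hv ⊢
        exact ⟨fun h => ⟨h, K.add_mem hkK hv.2⟩, fun h => h.1⟩
      · simp only [Finset.mem_filter] at hb ⊢
        refine ⟨hBk b hb.1 j hj, ?_⟩
        rw [← add_assoc]
        refine hfull x₀ _ hb.2 (fun h => ?_) j hj
        have hbK := (Finset.mem_filter.1 hb.1).2
        exact hbK ((AddSubgroup.add_mem_cancel_left K hkK).1 h)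
    -- the overlap at `x`
    have hxB : ∀ j ∈ K, x + j ∈ S := fun j hj => hfull x₀ x hxS hxK j hj
    have hNx : ((S.filter fun v => x + v ∈ S).card : ZMod p) =
        (A₀.card : ZMod p) + if -x ∈ S then (A₀.card : ZMod p) else 0 := by
      rw [hsplit, Nat.cast_add]
      congr 1
      · congr 2
        exact Finset.filter_true_of_mem fun v hv => hxB v (Finset.mem_filter.1 hv).2
      rw [← Finset.card_filter_add_card_filter_not (s := B.filter fun v => x + v ∈ S)
        (fun v => x + v ∈ K), Nat.cast_add,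
        (ZMod.natCast_eq_zero_iff (Finset.card (Finset.filter (fun v => ¬ x + v ∈ K) _)) _).2
          (hblock _ (fun b hb j hj => ?_)), add_zero]
      · split_ifs with hneg
        · refine congrArg Nat.cast (Finset.card_bij' (fun v _ => x + v) (fun a _ => -x + a) ?_ ?_ ?_ ?_)
          · intro v hv
            simp only [Finset.mem_filter, hA₀] at hv ⊢
            exact ⟨hv.1.2, hv.2⟩
          · intro a ha
            simp only [Finset.mem_filter, hA₀, hB, add_neg_cancel_left] at ha ⊢
            refine ⟨⟨⟨hfull x₀ (-x) hneg (fun h => hxK (neg_mem_iff.1 h)) a ha.2, fun h => ?_⟩, ha.1⟩, ha.2⟩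
            exact hxK (neg_mem_iff.1 ((AddSubgroup.add_mem_cancel_right K ha.2).1 h))
          · intros; simp
          · intros; simp
        · rw [show ((B.filter fun v => x + v ∈ S).filter fun v => x + v ∈ K) = ∅ from ?_,
            Finset.card_empty, Nat.cast_zero]
          refine Finset.eq_empty_of_forall_notMem fun v hv => hneg ?_
          simp only [Finset.mem_filter] at hv
          have h1 := (hBk v hv.1.1 (-(x + v)) (neg_mem hv.2))
          rw [neg_add, ← add_assoc, add_comm v (-x), add_assoc, add_neg_cancel, add_zero] at h1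
          exact (Finset.mem_filter.1 h1).1
      · simp only [Finset.mem_filter] at hb ⊢
        refine ⟨⟨hBk b hb.1.1 j hj, ?_⟩, ?_⟩
        · rw [← add_assoc]; exact hfull x₀ _ hb.1.2 hb.2 j hj
        · rw [← add_assoc]
          exact fun h => hb.2 ((AddSubgroup.add_mem_cancel_right K hj).1 h)
    -- the overlaps agree
    have hconst : ∀ u ∈ S,
        (S.filter fun w => u + w ∈ S).card = (S.filter fun w => x₀ + w ∈ S).card := by
      intro u hu
      obtain ⟨π, hπ, rfl⟩ := hreach x₀ u hu
      exact overlap_eq hPs (hO x₀) hπ x₀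
    have hagree : (S.filter fun v => x + v ∈ S).card = (S.filter fun v => k + v ∈ S).card :=
      (hconst x hxS).trans (hconst k hkS).symm
    have hc : (A₀.filter fun v => k + v ∈ A₀).card < A₀.card := by
      refine Finset.card_lt_card (Finset.filter_ssubset.2 ?_)
      by_contra! hall
      have hit : ∀ i : ℕ, k + i • k ∈ A₀ := by
        intro i
        induction i with
        | zero =>
          rw [zero_smul, add_zero]
          exact Finset.mem_filter.2 ⟨hkS, hkK⟩
        | succ i ih => rw [succ_nsmul']; exact hall _ ih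
      have h1 := hit (p - 1)
      rw [← succ_nsmul', Nat.sub_add_cancel hpp.one_le, (hK k).1 hkK] at h1
      exact hO0 x₀ hx₀ (Finset.mem_filter.1 h1).1
    rw [hagree, hNk] at hNx
    have hApos : 0 < A₀.card := Finset.card_pos.2 ⟨k, Finset.mem_filter.2 ⟨hkS, hkK⟩⟩
    split_ifs at hNx with hneg
    · rw [← two_mul, ← Nat.cast_two, ← Nat.cast_mul] at hNx
      have h2 := (ZMod.natCast_eq_natCast_iff' _ _ _).1 hNx
      rw [Nat.mod_eq_of_lt (show (A₀.filter fun v => k + v ∈ A₀).card < p by omega),
        Nat.mod_eq_of_lt hlt] at h2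
      omega
    · rw [add_zero] at hNx
      have h2 := (ZMod.natCast_eq_natCast_iff' _ _ _).1 hNx
      rw [Nat.mod_eq_of_lt (show (A₀.filter fun v => k + v ∈ A₀).card < p by omega),
        Nat.mod_eq_of_lt (show A₀.card < p by omega)] at h2
      omega
  -- two such orbits do not fit
  have h1 := hhalf x₁ hx₁
  have h2 := hhalf x₂ hx₂
  have hd : Disjoint ((O x₁).filter fun s => s ∈ K) ((O x₂).filter fun s => s ∈ K) :=
    Finset.disjoint_left.2 fun z hz hz' =>
      hne (hdisj x₁ x₂ z (Finset.mem_filter.1 hz).1 (Finset.mem_filter.1 hz').1)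
  have h3 := Finset.card_le_card (show ((O x₁).filter fun s => s ∈ K) ∪ ((O x₂).filter fun s => s ∈ K) ⊆
      (Finset.univ.filter fun j => j ∈ K).erase 0 from fun z hz => by
    simp only [Finset.mem_union, Finset.mem_filter, Finset.mem_erase, Finset.mem_univ, true_and] at hz ⊢
    rcases hz with ⟨ha, hb⟩ | ⟨ha, hb⟩
    · exact ⟨fun h => hO0 x₁ hx₁ (h ▸ ha), hb⟩
    · exact ⟨fun h => hO0 x₂ hx₂ (h ▸ ha), hb⟩)
  rw [Finset.card_union_of_disjoint hd, Finset.card_erase_of_mem (by simp),
    ← Fintype.card_subtype, ← Nat.card_eq_fintype_card, hKc] at h3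
  have := hpp.two_le
  omega

end Count

end Cfsg.Agent.Lib.Fg6.SchurCyclic
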