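/-
2-Frobenius groups.
-/
import Cfsg.Agent.S0042
import Cfsg.Agent.Lib.Frobenius.Complement
import Cfsg.Agent.Lib.PGroups.UniqueInvolution
import Cfsg.Agent.Lib.Brauer.Monomial
import Mathlib.GroupTheory.SpecificGroups.ZGroup
import Mathlib.GroupTheory.Sylow
import Mathlib.Algebra.BigOperators.Group.Finset.Sigma

set_option autoImplicit false
set_option linter.style.haveILetI false

namespace Cfsg.Agent.Lib.Fg6.TwoFrobenius

open scoped commutatorElement
open Lib.Frobenius

/-- The centraliser of a nonidentity kernel element lies in the kernel. -/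
theorem kernel_centralizer {G : Type*} [Group G] [Finite G] {N H : Subgroup G}
    (hH : Cfsg.IsFrobeniusComplement H) (hN : (N : Set G) = Cfsg.frobeniusKernel H) {x g : G}
    (hx : x ∈ N) (hx1 : x ≠ 1) (hc : x * g = g * x) : g ∈ N := by
  by_contra hg
  have hg1 : g ≠ 1 := fun e => hg (e ▸ N.one_mem)
  have h1 : g ∉ Cfsg.frobeniusKernel H := fun h => hg (hN.ge h)
  rw [frobeniusKernel_eq_compl, Set.mem_compl_iff, not_not] at h1
  obtain ⟨-, a, ha⟩ := h1
  refine mem_frobeniusKernel.mp (hN.le hx) hx1 a ?_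
  exact conj_mem_of_commute hH ha hg1 hc.symm

/-- Disjoint orders commute in a nilpotent group. -/
theorem commute_of_nilpotent {N : Type*} [Group N] [Finite N] [Group.IsNilpotent N] {p q : ℕ}
    (hp : p.Prime) (hq : q.Prime) (hpq : p ≠ q) {x y : N} (hx : orderOf x = p)
    (hy : orderOf y = q) : Commute x y := by
  have := Fact.mk hp
  have := Fact.mk hq
  have hgen : ∀ {r : ℕ} [Fact r.Prime] (z : N), orderOf z = r → ∃ P : Sylow r N,
      z ∈ (P : Subgroup N) ∧ (P : Subgroup N).Normal := by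
    intro r _ z hz
    obtain ⟨P, hP⟩ := (IsPGroup.of_card (p := r) (n := 1)
      (show Nat.card (Subgroup.zpowers z) = r ^ 1 by rw [Nat.card_zpowers, hz, pow_one])).exists_le_sylow
    exact ⟨P, hP (Subgroup.mem_zpowers z),
      P.normal_of_normalizerCondition Group.normalizerCondition_of_isNilpotent⟩
  obtain ⟨P, hxP, hPn⟩ := hgen x hx
  obtain ⟨Q, hyQ, hQn⟩ := hgen y hy
  exact Subgroup.commute_of_normal_of_disjoint _ _ hPn hQn
    (IsPGroup.disjoint_of_ne p q hpq _ _ P.2 Q.2) x y hxP hyQ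

theorem mulAut_comm {A : Type*} [Group A] [IsCyclic A] (φ ψ : MulAut A) : φ * ψ = ψ * φ := by
  obtain ⟨g, hg⟩ := IsCyclic.exists_generator (α := A)
  obtain ⟨i, hi⟩ := Subgroup.mem_zpowers_iff.1 (hg (φ g))
  obtain ⟨j, hj⟩ := Subgroup.mem_zpowers_iff.1 (hg (ψ g))
  refine MulEquiv.ext fun x => ?_
  obtain ⟨k, rfl⟩ := Subgroup.mem_zpowers_iff.1 (hg x)
  simp only [MulAut.mul_apply, map_zpow]
  rw [← hj, map_zpow, ← hi, map_zpow, ← hj]
  simp only [← zpow_mul]
  congr 1
  ring

/-- If the kernel fixes nothing and a complement element has vanishing norm then the kernel's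
order kills the module. -/
theorem nsmul_eq_zero_of_norm {Q : Type*} [Group Q] [Finite Q] {V : Type*} [AddCommGroup V]
    (ρ : Q →* AddMonoid.End V) (A : Subgroup Q) [A.Normal] (y : Q) {q : ℕ} (hq0 : 0 < q)
    (hfree : ∀ i, 0 < i → i < q → ∀ a ∈ A, a * y ^ i = y ^ i * a → a = 1)
    (hA : ∀ v, (∀ a ∈ A, ρ a v = v) → v = 0)
    (hnorm : ∀ v, ∑ i ∈ Finset.range q, ρ (y ^ i) v = 0) : ∀ v : V, Nat.card A • v = 0 := by
  classical
  have hcomp : ∀ (a b : Q) (v : V), ρ a (ρ b v) = ρ (a * b) v := fun a b v => by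
    rw [map_mul]; rfl
  have := Fintype.ofFinite A
  have hAsum : ∀ w : V, ∑ a : A, ρ (a : Q) w = 0 := by
    intro w
    refine hA _ fun b hb => ?_
    rw [map_sum]
    simp only [hcomp]
    exact Fintype.sum_equiv (Equiv.mulLeft (⟨b, hb⟩ : A)) _ (fun a : A => ρ (a : Q) w) (fun a => rfl)
  intro v
  rw [Nat.card_eq_fintype_card]
  have key : Fintype.card A • v = 0 := by
    have h0 : ∑ a : A, ∑ i ∈ Finset.range q, ρ ((a : Q) * y ^ i * (a : Q)⁻¹) v = 0 := by
      refine Finset.sum_eq_zero fun a _ => ?_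
      simp only [← hcomp]
      rw [← map_sum, hnorm, map_zero]
    rw [Finset.sum_comm, Finset.sum_eq_single_of_mem 0 (Finset.mem_range.2 hq0)] at h0
    · simpa using h0
    · intro i hi hi0
      let ψ : A → A := fun a => ⟨(a : Q) * y ^ i * (a : Q)⁻¹ * (y ^ i)⁻¹, by
        have h1 := Subgroup.Normal.conj_mem (inferInstance : A.Normal) _ (A.inv_mem a.2) (y ^ i)
        simpa [mul_assoc] using A.mul_mem a.2 h1⟩
      have hψ : Function.Bijective ψ := by
        refine Finite.injective_iff_bijective.1 fun a b hab => ?_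
        have h1 : (a : Q) * y ^ i * (a : Q)⁻¹ = (b : Q) * y ^ i * (b : Q)⁻¹ :=
          mul_right_cancel (congrArg Subtype.val hab)
        have h2 : ((b : Q)⁻¹ * a) * y ^ i = y ^ i * ((b : Q)⁻¹ * a) := by
          have := congrArg (fun t => (b : Q)⁻¹ * t * (a : Q)) h1
          simpa [mul_assoc] using this
        exact Subtype.ext (inv_mul_eq_one.1 (hfree i (Nat.pos_of_ne_zero hi0) (Finset.mem_range.1 hi)
          _ (A.mul_mem (A.inv_mem b.2) a.2) h2)).symm
      rw [← hAsum (ρ (y ^ i) v)]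
      refine Fintype.sum_equiv (Equiv.ofBijective ψ hψ) _ (fun a : A => ρ (a : Q) (ρ (y ^ i) v))
        fun a => ?_
      rw [hcomp]
      refine DFunLike.congr_fun (congrArg ρ ?_) v
      show _ = (a : Q) * y ^ i * (a : Q)⁻¹ * (y ^ i)⁻¹ * y ^ i
      rw [inv_mul_cancel_right]
  exact key

/-- A complement element fixes a vector when the kernel fixes none. -/
theorem exists_fixed {Q : Type*} [Group Q] [Finite Q] {V : Type*} [AddCommGroup V] [Finite V]
    [Nontrivial V] (ρ : Q →* AddMonoid.End V) (A : Subgroup Q) [A.Normal] (y : Q) {q : ℕ}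
    (hq0 : 0 < q) (hy : y ^ q = 1)
    (hfree : ∀ i, 0 < i → i < q → ∀ a ∈ A, a * y ^ i = y ^ i * a → a = 1)
    (hA : ∀ v, (∀ a ∈ A, ρ a v = v) → v = 0) (hcop : (Nat.card A).Coprime (Nat.card V)) :
    ∃ v : V, v ≠ 0 ∧ ρ y v = v := by
  classical
  by_contra hcon
  have hnf : ∀ v, ρ y v = v → v = 0 := fun v hv => by
    by_contra hv0
    exact hcon ⟨v, hv0, hv⟩
  have hcomp : ∀ (a b : Q) (v : V), ρ a (ρ b v) = ρ (a * b) v := fun a b v => by
    rw [map_mul]; rfl
  have hnorm : ∀ v, ∑ i ∈ Finset.range q, ρ (y ^ i) v = 0 := by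
    intro v
    refine hnf _ ?_
    rw [map_sum]
    simp only [hcomp, ← pow_succ']
    have h1 := Finset.sum_range_succ' (fun i => ρ (y ^ i) v) q
    have h2 := Finset.sum_range_succ (fun i => ρ (y ^ i) v) q
    rw [h1, hy, pow_zero] at h2
    exact add_right_cancel h2
  have key := nsmul_eq_zero_of_norm ρ A y hq0 hfree hA hnorm
  obtain ⟨v, hv⟩ := exists_ne (0 : V)
  refine hv (AddMonoid.addOrderOf_eq_one_iff.1 (Nat.eq_one_of_dvd_coprimes hcop ?_
    (addOrderOf_dvd_natCard v)))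
  exact addOrderOf_dvd_of_nsmul_eq_zero (key v)

theorem isSolvable_of_normal {G : Type*} [Group G] (N : Subgroup G) [N.Normal]
    (h1 : Group.IsSolvable N) (h2 : Group.IsSolvable (G ⧸ N)) : Group.IsSolvable G :=
  haveI := h1
  haveI := h2
  Group.isSolvable_of_ker_le_range N.subtype (QuotientGroup.mk' N)
    (by rw [QuotientGroup.ker_mk', Subgroup.range_subtype])

end Cfsg.Agent.Lib.Fg6.TwoFrobenius
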