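import Cfsg.Agent.Lib.PLocal.OffenderStructure
import Cfsg.Agent.Lib.PLocal.ActionQuotient
import Cfsg.Agent.Lib.PLocal.CoprimeOperator
import Cfsg.Agent.Lib.Balance.OddInvariant
import Cfsg.Agent.Lib.Cores.Basic

/-!
Abelian 2-subgroups of maximal measure in a faithful solvable group `L` with `O_2(L) = 1` acting on
an elementary abelian 2-group have exponent 2, hence are best offenders.
-/

set_option autoImplicit false
set_option linter.style.haveILetI false

namespace Cfsg.Agent.Lib.Fg6.AbelianOffender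

open Subgroup PLocal
open scoped commutatorElement

variable {G : Type*} [Group G] [Finite G] {V L : Subgroup G}

/-- The subgroup generated by the best offenders inside `L`. -/
def offenders (V L : Subgroup G) : Subgroup G :=
  ⨆ A : {A : Subgroup G // A ≤ L ∧ Cfsg.IsBestOffenderOn 2 V A}, (A : Subgroup G)

theorem offenders_le : offenders V L ≤ L := iSup_le fun A => A.2.1

theorem le_offenders {A : Subgroup G} (h : A ≤ L) (hA : Cfsg.IsBestOffenderOn 2 V A) :
    A ≤ offenders V L :=
  le_iSup (fun A : {A : Subgroup G // A ≤ L ∧ Cfsg.IsBestOffenderOn 2 V A} => (A : Subgroup G))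
    ⟨A, h, hA⟩

theorem le_normalizer_offenders (hLV : L ≤ normalizer (V : Set G)) :
    L ≤ normalizer (offenders V L : Set G) := by
  intro g hg
  rw [mem_normalizer_iff_map_conj_eq]
  refine eq_of_le_of_card_ge ?_ (card_map_of_injective (MulAut.conj g).injective).ge
  rw [offenders, Subgroup.map_iSup]
  refine iSup_le fun A => le_offenders ?_ ?_
  · rintro _ ⟨a, ha, rfl⟩
    exact mul_mem (mul_mem hg (A.2.1 ha)) (inv_mem hg)
  · have h := bestOffender_map (p := 2) (MulAut.conj g).toMonoidHom (MulAut.conj g).injective A.2.2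
    rwa [map_conj_self (hLV hg)] at h

/-- `L` and the subgroup generated by its best offenders give an offender setup. -/
theorem setup [Group.IsSolvable L] (hV : Cfsg.IsElementaryAbelian 2 V)
    (hLV : L ≤ normalizer (V : Set G)) (hf : L ⊓ centralizer (V : Set G) = ⊥)
    (hO : Cfsg.pCore 2 ↥L = ⊥) :
    Subgroup.centralizer (Cfsg.pPrimeCore 2 ↥(offenders V L) : Set ↥(offenders V L)) ≤
      Cfsg.pPrimeCore 2 ↥(offenders V L) ∧
    OffenderSetup 2 V (offenders V L)
      ((Cfsg.pPrimeCore 2 ↥(offenders V L)).map (offenders V L).subtype) := by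
  haveI : Fact (Nat.Prime 2) := ⟨Nat.prime_two⟩
  set H := offenders V L
  haveI : (H.subgroupOf L).Normal := normal_subgroupOf_of_le_normalizer (le_normalizer_offenders hLV)
  let e := subgroupOfEquivOfLe (offenders_le (V := V) (L := L))
  have hO' : Cfsg.pCore 2 ↥(H.subgroupOf L) = ⊥ := by
    have h := Cores.map_subtype_pCore 2 (H.subgroupOf L)
    rw [hO, inf_bot_eq] at h
    exact (map_eq_bot_iff_of_injective _ (H.subgroupOf L).subtype_injective).1 h
  have hO'' : Cfsg.pCore 2 ↥H = ⊥ := by
    rw [← Cores.map_pCore_equiv e, hO', Subgroup.map_bot]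
  haveI : Group.IsSolvable H := solvable_of_surjective (f := e.toMonoidHom) e.surjective
  have hS1 := centralizer_pPrimeCore_le (PSolvable.isPSolvable_of_isSolvable (p := 2)) hO''
  exact ⟨hS1, offenderSetup_of_pPrimeCore hV (offenders_le.trans hLV)
    (le_bot_iff.1 (hf ▸ inf_le_inf_right _ offenders_le)) hS1⟩

theorem exists_sl_noncomm :
    ∃ u w : Matrix.SpecialLinearGroup (Fin 2) (ZMod 2), u * w ≠ w * u := by
  refine ⟨⟨!![1, 1; 0, 1], by decide⟩, ⟨!![1, 0; 1, 1], by decide⟩, fun h => ?_⟩
  exact absurd (congrArg (fun z : Matrix.SpecialLinearGroup (Fin 2) (ZMod 2) =>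
    (z : Matrix (Fin 2) (Fin 2) (ZMod 2)) 0 0) h) (by decide)

/-- Abelian 2-subgroups of maximal measure have exponent two. -/
theorem sq_eq_one [Group.IsSolvable L] (hV : Cfsg.IsElementaryAbelian 2 V)
    (hLV : L ≤ normalizer (V : Set G)) (hf : L ⊓ centralizer (V : Set G) = ⊥)
    (hO : Cfsg.pCore 2 ↥L = ⊥) :
    ∀ A : Subgroup G, A ≤ L → IsMulCommutative A → IsPGroup 2 A →
      (∀ B : Subgroup G, B ≤ A → meas V B ≤ meas V A) → ∀ a ∈ A, a ^ 2 = 1 := by
  haveI : Fact (Nat.Prime 2) := ⟨Nat.prime_two⟩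
  intro A
  induction' hn : Nat.card A using Nat.strong_induction_on with n ih generalizing A
  intro hAL hAc hA2 hmax
  by_cases hA1 : A = ⊥
  · intro a ha; rw [hA1, mem_bot] at ha; rw [ha, one_pow]
  have hAV : A ≤ normalizer (V : Set G) := hAL.trans hLV
  have hab : ⁅A, A⁆ ≤ centralizer (V : Set G) := by
    rw [commutator_self_eq_bot_iff.2 hAc]; exact bot_le
  have hfaith : ∀ B : Subgroup G, B ≤ L → ⁅V, B⁆ = ⊥ → B = ⊥ := by
    intro B hB h
    rw [← le_bot_iff, ← hf]
    exact le_inf hB (le_centralizer_iff.1 ((commutator_eq_bot_iff_le_centralizer).1 h))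
  -- replacement
  obtain ⟨hBm, hBf⟩ := replacement hV.1 hAV hab hmax (U := V) le_rfl
  set B := A ⊓ centralizer ((⁅V, A⁆ : Subgroup G) : Set G) with hB
  have hBA : B ≤ A := inf_le_left
  have hB1 : B ≠ ⊥ := by
    intro h
    rw [h, fixOn_bot] at hBf
    refine hA1 (hfaith A hAL (commutator_eq_bot_of_sup_eq (p := 2) hV.1
      (PGroups.elemAb_isPGroup hV) hAV (pActsOn_of_isPGroup hA2) hab hBf.le))
  have hBsq : ∀ b ∈ B, b ^ 2 = 1 := by
    intro b hb
    have h : b ^ 2 ∈ L ⊓ centralizer (V : Set G) := by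
      refine ⟨pow_mem (hAL (hBA hb)) 2, mem_centralizer_iff.2 fun v hv => ?_⟩
      have hc : ⁅v, b⁆ ∈ ⁅V, A⁆ := commutator_mem_commutator hv (hBA hb)
      have hcb : Commute ⁅v, b⁆ b := mem_centralizer_iff.1 hb.2 _ hc
      have hc2 : ⁅v, b⁆ ^ 2 = 1 := hV.2 _ (PLocal.commutator_le_self hAV hc)
      have h1 : v * b = ⁅v, b⁆ * (b * v) := by rw [commutatorElement_def]; group
      calc v * b ^ 2 = (v * b) * b := by rw [pow_two, mul_assoc]
        _ = ⁅v, b⁆ * (b * (v * b)) := by conv_lhs => rw [h1]
                                         group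
        _ = ⁅v, b⁆ * b * ⁅v, b⁆ * (b * v) := by conv_lhs => rw [h1]
                                                group
        _ = ⁅v, b⁆ ^ 2 * (b * b * v) := by rw [mul_assoc ⁅v, b⁆ b ⁅v, b⁆, ← hcb.eq, pow_two]; group
        _ = b ^ 2 * v := by rw [hc2, one_mul, pow_two]
    rwa [hf, mem_bot] at h
  have hBo : Cfsg.IsBestOffenderOn 2 V B :=
    ⟨fun C hC => (hmax C (hC.trans hBA)).trans hBm.ge,
      (commutator_mono hBA hBA).trans hab, fun b hb => by rw [hBsq b hb]; exact one_mem _⟩
  obtain ⟨S1, S⟩ := setup hV hLV hf hO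
  set H := offenders V L with hH
  set Q := (Cfsg.pPrimeCore 2 ↥H).map H.subtype with hQ
  -- a transvection group inside `A`
  obtain ⟨T, ⟨hTB, hTo, hTne⟩, hTmin⟩ := exists_minimal_of_wellFoundedLT
    (fun C : Subgroup G => C ≤ B ∧ Cfsg.IsBestOffenderOn 2 V C ∧ ⁅V, C⁆ ≠ ⊥)
    ⟨B, le_rfl, hBo, fun h => hB1 (hfaith B (hBA.trans hAL) h)⟩
  have hTH : T ≤ H := le_offenders ((hTB.trans hBA).trans hAL) hTo
  have hT : IsTransv 2 V H T := isTransv_of_minimal S hTo hTH hTne fun C hC hCo hCne =>
    le_antisymm hC (hTmin ⟨hC.trans hTB, hCo, hCne⟩ hC)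
  obtain ⟨t, htT, ht1⟩ := (bot_or_exists_ne_one T).resolve_left (isTransv_ne_bot hT)
  have htA : t ∈ A := hBA (hTB htT)
  have ht2 : t ^ 2 = 1 := hBsq t (hTB htT)
  have hTt : zpowers t = T := isTransv_eq_zpowers hT htT ht1
  set E := offE Q T with hE
  set R := ⁅Q, T⁆ with hR
  set W : Subgroup G := ⁅V, E⁆ with hW
  obtain ⟨e⟩ := offE_equiv_SL S hT
  have hR3 : Nat.card R = 3 := by
    have h6 : Nat.card E = 6 := by
      rw [Nat.card_congr e.toEquiv]
      rw [Nat.card_eq_fintype_card]
      decide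
    have := card_offE S hT
    rw [← hE, h6] at this
    exact Nat.eq_of_mul_eq_mul_left two_pos (this.symm.trans (rfl : (6 : ℕ) = 2 * 3))
  haveI : Fact (Nat.Prime 3) := ⟨Nat.prime_three⟩
  obtain ⟨r, hr, hr1⟩ := (bot_or_exists_ne_one R).resolve_left fun h => by
    rw [h, card_bot] at hR3; norm_num at hR3
  have hRr : R = zpowers r := by
    refine (eq_of_le_of_card_ge (zpowers_le.2 hr) ?_).symm
    rw [hR3, Nat.card_zpowers]
    have h1 : orderOf r ∣ 3 := hR3 ▸ orderOf_dvd_natCard R hr
    rcases (Nat.dvd_prime Nat.prime_three).1 h1 with h | h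
    · exact absurd (orderOf_eq_one_iff.1 h) hr1
    · exact h.ge
  have hnQ : A ≤ normalizer (Q : Set G) :=
    hAL.trans ((le_normalizer_offenders hLV).trans
      (Balance.le_normalizer_map_characteristic (Cfsg.pPrimeCore 2 ↥H)))
  have hcT : ∀ a ∈ A, a ∈ centralizer (T : Set G) := fun a ha => mem_centralizer_iff.2 fun x hx =>
    congrArg Subtype.val (hAc.is_comm.comm ⟨x, hBA (hTB hx)⟩ ⟨a, ha⟩)
  have hnR : ∀ a ∈ A, ∀ x ∈ R, a * x * a⁻¹ ∈ R := by
    intro a ha x hx
    have h : a ∈ normalizer (R : Set G) := by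
      rw [mem_normalizer_iff_map_conj_eq]
      refine eq_of_le_of_card_ge ?_ (card_map_of_injective (MulAut.conj a).injective).ge
      rw [hR, Subgroup.map_commutator]
      refine commutator_mono ?_ ?_
      · rintro _ ⟨q, hq, rfl⟩; exact (mem_normalizer_iff.1 (hnQ ha) q).1 hq
      · rintro _ ⟨q, hq, rfl⟩
        show a * q * a⁻¹ ∈ T
        rw [← mem_centralizer_iff.1 (hcT a ha) q hq, mul_inv_cancel_right]
        exact hq
    exact (mem_normalizer_iff.1 h x).1 hx
  have htr : t * r * t⁻¹ ≠ r := by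
    intro h
    have hcomm : Commute t r := by
      show t * r = r * t
      calc t * r = t * r * t⁻¹ * t := by group
        _ = r * t := by rw [h]
    have hEc : E = closure {t, r} := by
      rw [hE, PLocal.offE, ← hR, hRr, ← hTt, zpowers_eq_closure, zpowers_eq_closure,
        ← Subgroup.closure_union, Set.union_comm]
      rfl
    haveI hcm : IsMulCommutative (closure ({t, r} : Set G)) := isMulCommutative_closure (by
      rintro x (rfl | rfl) y (rfl | rfl)
      exacts [rfl, hcomm.eq, hcomm.eq.symm, rfl])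
    have hEcomm : ∀ x y : E, x * y = y * x := fun x y => Subtype.ext (show (x : G) * y = y * x from
      (congrArg Subtype.val (hcm.is_comm.comm ⟨x, hEc.le x.2⟩ ⟨y, hEc.le y.2⟩)))
    obtain ⟨u, w, huw⟩ := exists_sl_noncomm
    apply huw
    apply e.symm.injective
    rw [map_mul, map_mul]
    exact hEcomm _ _
  have hcases : ∀ x ∈ R, x ≠ 1 → x = r ∨ x = r⁻¹ := by
    intro x hx hx1
    rw [hRr] at hx
    obtain ⟨i, rfl⟩ := mem_powers_iff_mem_zpowers.2 hx
    simp only at hx1 ⊢
    have h3 : r ^ 3 = 1 := by rw [← hR3]; exact orderOf_dvd_iff_pow_eq_one.1 (orderOf_dvd_natCard R hr)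
    rw [← Nat.div_add_mod i 3, pow_add, pow_mul, h3, one_pow, one_mul] at hx1 ⊢
    have := Nat.mod_lt i (show 3 > 0 by norm_num)
    interval_cases i % 3
    · exact absurd (pow_zero r) hx1
    · exact Or.inl (pow_one r)
    · exact Or.inr (eq_inv_of_mul_eq_one_left (by rw [← pow_succ]; exact h3))
  have htR : t * r * t⁻¹ = r⁻¹ :=
    (hcases _ (hnR t htA r hr) (fun h => hr1 (by rwa [mul_inv_eq_one, mul_eq_left] at h))).resolve_left htr
  set A₁ := A ⊓ centralizer (E : Set G) with hA₁
  have hmemA₁ : ∀ a ∈ A, a * r * a⁻¹ = r → a ∈ A₁ := by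
    intro a ha har
    refine ⟨ha, ?_⟩
    have hEle : E ≤ centralizer {a} := by
      rw [hE, PLocal.offE, ← hR, hRr]
      refine sup_le (zpowers_le.2 (mem_centralizer_singleton_iff.2 ?_)) fun x hx =>
        mem_centralizer_singleton_iff.2 (mem_centralizer_iff.1 (hcT a ha) x hx)
      calc r * a = a * r * a⁻¹ * a := by rw [har]
        _ = a * r := by group
    exact mem_centralizer_iff.2 fun x hx => mem_centralizer_singleton_iff.1 (hEle hx)
  have hsplit : ∀ a ∈ A, a ∈ A₁ ∨ a * t ∈ A₁ := by
    intro a ha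
    rcases hcases _ (hnR a ha r hr) (fun h => hr1 (by rwa [mul_inv_eq_one, mul_eq_left] at h)) with h | h
    · exact Or.inl (hmemA₁ a ha h)
    · refine Or.inr (hmemA₁ _ (mul_mem ha htA) ?_)
      calc a * t * r * (a * t)⁻¹ = a * (t * r * t⁻¹) * a⁻¹ := by group
        _ = (a * r * a⁻¹)⁻¹ := by rw [htR]; group
        _ = r := by rw [h, inv_inv]
  have htA₁ : t ∉ A₁ := fun h => htr (by
    rw [← mem_centralizer_iff.1 h.2 r (le_sup_left (a := R) (b := T) hr)]; group)
  have hlt : A₁ < A := lt_of_le_of_ne inf_le_left fun h => htA₁ (h ▸ htA)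
  have hcard : Nat.card A ≤ 2 * Nat.card A₁ := by
    let f : A → A₁ × Bool := fun a => by
      classical
      exact if h : (a : G) ∈ A₁ then (⟨a, h⟩, false)
        else (⟨(a : G) * t, (hsplit a a.2).resolve_left h⟩, true)
    have hf' : Function.Injective f := by
      intro a b hab
      simp only [f] at hab
      split_ifs at hab with h1 h2 h2
      · exact Subtype.ext (congrArg (fun x : A₁ × Bool => (x.1 : G)) hab)
      · simp at hab
      · simp at hab
      · exact Subtype.ext (mul_right_cancel (congrArg (fun x : A₁ × Bool => (x.1 : G)) hab))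
    have := Nat.card_le_card_of_injective f hf'
    rw [Nat.card_prod, Nat.card_eq_fintype_card (α := Bool), Fintype.card_bool] at this
    linarith
  -- `C(E)` centralises `W`
  have hEH : E ≤ H := offE_le S hT
  have hAW : W ≤ fixOn V A₁ := by
    set U := W ⊓ centralizer (A₁ : Set G) with hU
    have hUW : U = W := by
      refine eq_W_of_invariant S hT inf_le_left ?_ fun x hx => ?_
      · -- the line `[V, T]` is fixed
        intro hbot
        have hline := isTransv_commutator S hT
        have hVT : ⁅V, T⁆ ≤ U := by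
          refine le_inf (commutator_mono le_rfl le_sup_right) (le_centralizer_iff.1 fun a ha => ?_)
          have hnl : a ∈ normalizer ((⁅V, T⁆ : Subgroup G) : Set G) := by
            rw [mem_normalizer_iff_map_conj_eq]
            refine eq_of_le_of_card_ge ?_ (card_map_of_injective (MulAut.conj a).injective).ge
            rw [Subgroup.map_commutator]
            refine commutator_mono ?_ ?_
            · rintro _ ⟨q, hq, rfl⟩; exact (mem_normalizer_iff.1 (hAV ha.1) q).1 hq
            · rintro _ ⟨q, hq, rfl⟩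
              show a * q * a⁻¹ ∈ T
              rw [← mem_centralizer_iff.1 (hcT a ha.1) q hq, mul_inv_cancel_right]
              exact hq
          rw [mem_centralizer_iff]
          intro v hv
          by_cases hv1 : v = 1
          · subst hv1; simp
          by_contra hne
          have hw : a * v * a⁻¹ ∈ ⁅V, T⁆ := (mem_normalizer_iff.1 hnl v).1 hv
          have hi : Function.Injective
              (![1, ⟨v, hv⟩, ⟨a * v * a⁻¹, hw⟩] : Fin 3 → (⁅V, T⁆ : Subgroup G)) := by
            have e1 : a * v * a⁻¹ ≠ 1 := fun h => hv1 (by rwa [mul_inv_eq_one, mul_eq_left] at h)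
            have e2 : a * v * a⁻¹ ≠ v := fun h => hne (by
              calc v * a = a * v * a⁻¹ * a := by rw [h]
                _ = a * v := by group)
            intro i j hij
            have := congrArg Subtype.val hij
            fin_cases i <;> fin_cases j <;>
              simp [hv1, e1, e2, Ne.symm hv1, Ne.symm e1, Ne.symm e2] at this ⊢
          have := Nat.card_le_card_of_injective _ hi
          rw [Nat.card_fin, hline.1] at this
          omega
        rw [hbot, le_bot_iff] at hVT
        rw [hVT, card_bot] at hline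
        exact absurd hline.1 (by norm_num)
      · rw [mem_normalizer_iff_map_conj_eq]
        refine eq_of_le_of_card_ge ?_ (card_map_of_injective (MulAut.conj x).injective).ge
        rintro _ ⟨v, hv, rfl⟩
        refine mem_inf.2 ⟨(mem_normalizer_iff.1 (offE_normalizer_W S hT hx) v).1 hv.1, ?_⟩
        rw [mem_centralizer_iff]
        intro a ha
        have hax : Commute a x := (mem_centralizer_iff.1 ha.2 x hx).symm
        have hav : Commute a v := mem_centralizer_iff.1 hv.2 a ha
        exact ((hax.mul_right hav).mul_right hax.inv_right).eq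
    exact le_inf (W_le S hT) (hUW ▸ inf_le_right)
  have hfix : fixOn V A < fixOn V A₁ := by
    refine lt_of_le_of_ne (fixOn_anti inf_le_left) fun h => ?_
    have h1 : W ≤ centralizer ({t} : Set G) := fun w hw =>
      mem_centralizer_singleton_iff.2 ((mem_fixOn.1 (h ▸ hAW hw)).2 t htA).symm
    have h2 : t ∈ E ⊓ centralizer (W : Set G) :=
      ⟨le_sup_right (a := R) (b := T) htT, mem_centralizer_iff.2 fun w hw =>
        mem_centralizer_singleton_iff.1 (h1 hw)⟩
    rw [offE_faithful S hT, mem_bot] at h2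
    exact ht1 h2
  have hfix2 : 2 * Nat.card (fixOn V A) ≤ Nat.card (fixOn V A₁) :=
    (mul_comm _ _).trans_le (card_mul_le_of_lt ((PGroups.elemAb_isPGroup hV).to_le fixOn_le) hfix)
  have hm1 : meas V A ≤ meas V A₁ := by
    calc meas V A ≤ 2 * Nat.card A₁ * Nat.card (fixOn V A) := Nat.mul_le_mul_right _ hcard
      _ = Nat.card A₁ * (2 * Nat.card (fixOn V A)) := by ring
      _ ≤ meas V A₁ := Nat.mul_le_mul_left _ hfix2
  have hcardlt : Nat.card A₁ < n := by
    rw [← hn]
    exact lt_of_not_ge fun h => hlt.ne (eq_of_le_of_card_ge hlt.le h)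
  have key := ih _ hcardlt A₁ rfl (hlt.le.trans hAL)
    (.of_setLike_mul_comm fun x hx y hy =>
      congrArg Subtype.val (hAc.is_comm.comm ⟨x, hlt.le hx⟩ ⟨y, hlt.le hy⟩))
    (hA2.to_le hlt.le) fun C hC => (hmax C (hC.trans hlt.le)).trans hm1
  intro a ha
  rcases hsplit a ha with h | h
  · exact key a h
  · have h1 := key _ h
    rwa [(show Commute a t from congrArg Subtype.val (hAc.is_comm.comm ⟨a, ha⟩ ⟨t, htA⟩)).mul_pow,
      ht2, mul_one] at h1

/-- Abelian 2-subgroups of maximal measure are best offenders. -/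
theorem isBestOffenderOn [Group.IsSolvable L] (hV : Cfsg.IsElementaryAbelian 2 V)
    (hLV : L ≤ normalizer (V : Set G)) (hf : L ⊓ centralizer (V : Set G) = ⊥)
    (hO : Cfsg.pCore 2 ↥L = ⊥) {A : Subgroup G} (hAL : A ≤ L) (hAc : IsMulCommutative A)
    (hA2 : IsPGroup 2 A) (hmax : ∀ B : Subgroup G, B ≤ A → meas V B ≤ meas V A) :
    Cfsg.IsBestOffenderOn 2 V A :=
  ⟨hmax, by rw [commutator_self_eq_bot_iff.2 hAc]; exact bot_le, fun a ha => by
    rw [sq_eq_one hV hLV hf hO A hAL hAc hA2 hmax a ha]; exact one_mem _⟩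

end Cfsg.Agent.Lib.Fg6.AbelianOffender
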