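import Cfsg.Agent.Lib.Fg6.AbelianOffender
import Cfsg.Agent.Lib.ZJ.AbelianJ
import Cfsg.Agent.S0617

/-!
`Ω₁` of the normal closure of `Z(T)` in a solvable group with `F(X) = O_2(X)`.
-/

set_option autoImplicit false
set_option linter.style.haveILetI false

namespace Cfsg.Agent.Lib.Fg6.CentralClosure

open Subgroup
open scoped Pointwise

variable {X : Type*} [Group X] [Finite X]

/-- An element of odd order fixing the elements of order two of an abelian 2-group it normalises
centralises that group. -/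
theorem commute_of_omega {W : Subgroup X} (hW : IsMulCommutative W) {x : X}
    (hn : x ∈ normalizer (W : Set X)) (ho : Odd (orderOf x))
    (hfix : ∀ w ∈ W, w ^ 2 = 1 → x * w = w * x) :
    ∀ (k : ℕ) (w : X), w ∈ W → w ^ 2 ^ k = 1 → x * w = w * x := by
  intro k
  induction k with
  | zero => intro w _ h; rw [pow_zero, pow_one] at h; rw [h, mul_one, one_mul]
  | succ k ih =>
    intro w hw hwk
    have h2 := ih (w ^ 2) (pow_mem hw 2) (by rw [← pow_mul, ← pow_succ', hwk])
    set d := x * w * x⁻¹ * w⁻¹ with hd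
    have hdW : d ∈ W := mul_mem ((mem_normalizer_iff.1 hn w).1 hw) (inv_mem hw)
    have hdw : Commute d w := congrArg Subtype.val (hW.is_comm.comm ⟨d, hdW⟩ ⟨w, hw⟩)
    have hd2 : d ^ 2 = 1 := by
      have e : (x * w * x⁻¹) ^ 2 = d ^ 2 * w ^ 2 := by
        rw [← hdw.mul_pow, hd]; group
      rw [conj_pow, h2] at e
      rw [mul_inv_cancel_right, eq_comm, mul_eq_right] at e
      exact e
    have hdx := hfix d hdW hd2
    have key : ∀ n : ℕ, x ^ n * w * (x ^ n)⁻¹ = d ^ n * w := by
      intro n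
      induction n with
      | zero => simp
      | succ n ihn =>
        have hc : Commute x (d ^ n) := Commute.pow_right hdx n
        calc x ^ (n + 1) * w * (x ^ (n + 1))⁻¹ = x * (x ^ n * w * (x ^ n)⁻¹) * x⁻¹ := by
              rw [pow_succ']; group
          _ = d ^ n * (x * w * x⁻¹) := by rw [ihn, ← mul_assoc x, hc.eq]; group
          _ = d ^ (n + 1) * w := by rw [hd, pow_succ]; group
    have h1 := key (orderOf x)
    rw [pow_orderOf_eq_one, one_mul, inv_one, mul_one, eq_comm, mul_eq_right] at h1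
    obtain ⟨m, hm⟩ := ho
    rw [hm, pow_succ, pow_mul, hd2, one_pow, one_mul] at h1
    rw [hd, mul_inv_eq_one, mul_inv_eq_iff_eq_mul] at h1
    exact h1

/-- A normal subgroup whose elements of odd order lie in a normal subgroup `C` is covered by a
Sylow 2-subgroup and `C`. -/
theorem le_sylow_sup (N C : Subgroup X) [N.Normal] [C.Normal]
    (hodd : ∀ x ∈ N, Odd (orderOf x) → x ∈ C) (S : Sylow 2 X) :
    N ≤ ((S : Subgroup X) ⊓ N) ⊔ C := by
  haveI : Fact (Nat.Prime 2) := ⟨Nat.prime_two⟩
  set K := ((S : Subgroup X) ⊓ N) ⊔ C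
  rw [← relIndex_eq_one]
  by_contra hne
  obtain ⟨q, hq, hqd⟩ := Nat.exists_prime_and_dvd hne
  haveI : Fact q.Prime := ⟨hq⟩
  by_cases hq2 : q = 2
  · subst hq2
    refine PLocal.not_dvd_relIndex_inf S N (hqd.trans ?_)
    exact relIndex_dvd_of_le_left N le_sup_left
  · obtain ⟨Q⟩ : Nonempty (Sylow q N) := inferInstance
    refine Q.not_dvd_index (hqd.trans (index_dvd_of_le fun y hy => ?_))
    refine mem_subgroupOf.2 (le_sup_right (a := (S : Subgroup X) ⊓ N) (hodd y y.2 ?_))
    obtain ⟨n, hn⟩ := IsPGroup.iff_card.1 Q.2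
    rw [orderOf_coe]
    exact (hn ▸ (hq.odd_of_ne_two hq2).pow : Odd (Nat.card Q)).of_dvd_nat
      ((Q : Subgroup N).orderOf_dvd_natCard hy)

variable (T : Sylow 2 X)

/-- The centre of `T`. -/
abbrev cen : Subgroup X := (T : Subgroup X) ⊓ centralizer ((T : Subgroup X) : Set X)

/-- The normal closure of `Z(T)`. -/
abbrev closureZ : Subgroup X := normalClosure (cen T : Set X)

theorem core_eq : (centralizer (cen T : Set X)).normalCore = centralizer (closureZ T : Set X) := by
  haveI : (closureZ T).Normal := normalClosure_normal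
  refine le_antisymm ?_ (normal_le_normalCore.2 (centralizer_le subset_normalClosure))
  rw [le_centralizer_iff]
  refine normalClosure_le_normal ?_
  intro z hz
  refine mem_centralizer_iff.2 fun c hc => ?_
  exact (mem_centralizer_iff.1 (normalCore_le _ hc) z hz).symm

theorem conj_cen_le (g : X) :
    (cen T).map (MulAut.conj g).toMonoidHom ≤
      centralizer (((g • T : Sylow 2 X) : Subgroup X) : Set X) := by
  rintro _ ⟨z, hz, rfl⟩
  refine mem_centralizer_iff.2 fun y hy => ?_
  obtain ⟨u, hu, rfl⟩ : ∃ u ∈ (T : Subgroup X), g * u * g⁻¹ = y := by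
    obtain ⟨u, hu, h⟩ := (hy : y ∈ MulAut.conj g • (T : Subgroup X))
    exact ⟨u, hu, h⟩
  show g * u * g⁻¹ * (g * z * g⁻¹) = g * z * g⁻¹ * (g * u * g⁻¹)
  calc g * u * g⁻¹ * (g * z * g⁻¹) = g * (u * z) * g⁻¹ := by group
    _ = g * (z * u) * g⁻¹ := by rw [mem_centralizer_iff.1 hz.2 u hu]
    _ = _ := by group

/-- A normal subgroup whose odd elements centralise the closure centralises it. -/
theorem le_centralizer_closureZ (N : Subgroup X) [N.Normal]
    (hodd : ∀ x ∈ N, Odd (orderOf x) → x ∈ centralizer (closureZ T : Set X)) :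
    N ≤ centralizer (closureZ T : Set X) := by
  haveI : (closureZ T).Normal := normalClosure_normal
  haveI : (centralizer (N : Set X)).Normal := normal_centralizer
  rw [le_centralizer_iff]
  refine normalClosure_le_normal ?_
  intro z hz
  refine mem_centralizer_iff.2 fun c hc => ?_
  have h := (le_sylow_sup N _ hodd T).trans (sup_le ?_ ?_ :
    ((T : Subgroup X) ⊓ N) ⊔ centralizer (closureZ T : Set X) ≤ centralizer {z}) hc
  · exact mem_centralizer_singleton_iff.1 h
  · exact fun t ht => mem_centralizer_singleton_iff.2 (mem_centralizer_iff.1 hz.2 t ht.1)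
  · exact centralizer_le (Set.singleton_subset_iff.2 (subset_normalClosure hz))

variable [Group.IsSolvable X] (hF : Cfsg.fittingSubgroup X = Cfsg.pCore 2 X)
include hF

theorem closureZ_le : closureZ T ≤ Cfsg.pCore 2 X ⊓ centralizer (Cfsg.pCore 2 X : Set X) := by
  haveI : Fact (Nat.Prime 2) := ⟨Nat.prime_two⟩
  haveI : (Cfsg.pCore 2 X).Normal := inferInstance
  haveI : (centralizer (Cfsg.pCore 2 X : Set X)).Normal := normal_centralizer
  refine normalClosure_le_normal fun z hz => ?_
  have hzC : z ∈ centralizer (Cfsg.pCore 2 X : Set X) := mem_centralizer_iff.2 fun y hy =>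
    mem_centralizer_iff.1 hz.2 y (Cores.pCore_le_sylow T hy)
  refine ⟨?_, hzC⟩
  rw [SetLike.mem_coe, ← hF] at *
  exact Cores.centralizer_fittingSubgroup_le hzC

theorem closureZ_comm : IsMulCommutative (closureZ T) :=
  .of_setLike_mul_comm fun _ hx y hy =>
    (mem_centralizer_iff.1 ((closureZ_le T hF hy).2) _ (closureZ_le T hF hx).1)

/-- `Ω₁` of the normal closure of `Z(T)`. -/
def omega : Subgroup X where
  carrier := {w | w ∈ closureZ T ∧ w ^ 2 = 1}
  one_mem' := ⟨one_mem _, one_pow 2⟩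
  mul_mem' := fun {a b} ha hb => ⟨mul_mem ha.1 hb.1, by
    rw [(show Commute a b from congrArg Subtype.val
      ((closureZ_comm T hF).is_comm.comm ⟨a, ha.1⟩ ⟨b, hb.1⟩)).mul_pow, ha.2, hb.2, one_mul]⟩
  inv_mem' := fun {a} ha => ⟨inv_mem ha.1, by rw [inv_pow, ha.2, inv_one]⟩

theorem omega_elemAb : Cfsg.IsElementaryAbelian 2 (omega T hF) :=
  ⟨.of_setLike_mul_comm fun x hx y hy => congrArg Subtype.val
      ((closureZ_comm T hF).is_comm.comm ⟨x, hx.1⟩ ⟨y, hy.1⟩), fun _ h => h.2⟩

theorem omega_normal : (omega T hF).Normal :=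
  ⟨fun w hw g => ⟨(normalClosure_normal (s := (cen T : Set X))).conj_mem w hw.1 g, by
    rw [conj_pow, hw.2, mul_one, mul_inv_cancel]⟩⟩

theorem centralizer_omega :
    centralizer (omega T hF : Set X) = centralizer (closureZ T : Set X) := by
  haveI := omega_normal T hF
  refine le_antisymm (le_centralizer_closureZ T _ fun x hx ho => ?_)
    (centralizer_le fun w hw => hw.1)
  haveI : Fact (Nat.Prime 2) := ⟨Nat.prime_two⟩
  rw [mem_centralizer_iff]
  intro w hw
  obtain ⟨k, hk⟩ := Cores.pCore_isPGroup (G := X) 2 ⟨w, (closureZ_le T hF hw).1⟩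
  exact (commute_of_omega (closureZ_comm T hF)
    (by rw [normalizer_eq_top_iff.2 (normalClosure_normal (s := (cen T : Set X)))]; exact mem_top x) ho
    (fun u hu hu2 => (mem_centralizer_iff.1 hx u ⟨hu, hu2⟩).symm) k w hw
    (congrArg Subtype.val hk)).symm

theorem pCore_quotient :
    haveI := omega_normal T hF
    Cfsg.pCore 2 (X ⧸ centralizer (omega T hF : Set X)) = ⊥ := by
  haveI := omega_normal T hF
  haveI : Fact (Nat.Prime 2) := ⟨Nat.prime_two⟩
  set π := QuotientGroup.mk' (centralizer (omega T hF : Set X))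
  haveI : (Cfsg.pCore 2 (X ⧸ centralizer (omega T hF : Set X))).Normal := inferInstance
  set Q := (Cfsg.pCore 2 (X ⧸ centralizer (omega T hF : Set X))).comap π with hQ
  have hle : Q ≤ centralizer (closureZ T : Set X) := by
    refine le_centralizer_closureZ T Q fun x hx ho => ?_
    rw [← centralizer_omega T hF, ← QuotientGroup.eq_one_iff]
    obtain ⟨k, hk⟩ := Cores.pCore_isPGroup (G := X ⧸ centralizer (omega T hF : Set X)) 2 ⟨π x, hx⟩
    have h1 : orderOf (π x) ∣ 2 ^ k := orderOf_dvd_of_pow_eq_one (congrArg Subtype.val hk)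
    exact orderOf_eq_one_iff.1 (Nat.eq_one_of_dvd_coprimes
      (((Nat.coprime_two_left).2 ho).pow_left k) h1 (orderOf_map_dvd π x))
  rw [eq_bot_iff]
  intro y hy
  obtain ⟨x, rfl⟩ := QuotientGroup.mk'_surjective _ y
  rw [mem_bot]
  exact (QuotientGroup.eq_one_iff x).2 ((centralizer_omega T hF).ge (hle hy))

theorem omega_le_sylow (S : Sylow 2 X) : omega T hF ≤ (S : Subgroup X) := by
  haveI : Fact (Nat.Prime 2) := ⟨Nat.prime_two⟩
  exact fun w hw => Cores.pCore_le_sylow S (closureZ_le T hF hw.1).1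

/-- An abelian subgroup of largest order of a Sylow subgroup has maximal measure. -/
theorem meas_max (S : Sylow 2 X) {A : Subgroup X} (hA : A ∈ ZJ.maxAbIn (S : Subgroup X))
    {B : Subgroup X} (hBA : B ≤ A) : PLocal.meas (omega T hF) B ≤ PLocal.meas (omega T hF) A := by
  have hV := omega_elemAb T hF
  have hn : B ≤ normalizer (PLocal.fixOn (omega T hF) B : Set X) := fun b hb =>
    centralizer_le_normalizer _ (mem_centralizer_iff.2 fun v hv =>
      ((PLocal.mem_fixOn.1 hv).2 b hb).symm)
  have hc : IsMulCommutative (B ⊔ PLocal.fixOn (omega T hF) B : Subgroup X) := by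
    rw [show B ⊔ PLocal.fixOn (omega T hF) B =
      Subgroup.closure ((B : Set X) ∪ (PLocal.fixOn (omega T hF) B : Set X)) by
        rw [Subgroup.closure_union, Subgroup.closure_eq, Subgroup.closure_eq]]
    refine isMulCommutative_closure ?_
    rintro a (ha | ha) b (hb | hb)
    · exact congrArg Subtype.val (hA.2.1.is_comm.comm ⟨a, hBA ha⟩ ⟨b, hBA hb⟩)
    · exact (PLocal.mem_fixOn.1 hb).2 a ha
    · exact ((PLocal.mem_fixOn.1 ha).2 b hb).symm
    · exact congrArg Subtype.val (hV.1.is_comm.comm ⟨a, ha.1⟩ ⟨b, hb.1⟩)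
  rw [PLocal.meas, PLocal.meas, ← PLocal.card_sup_mul_card_inf hn]
  refine Nat.mul_le_mul (hA.2.2 _ (sup_le (hBA.trans hA.1)
    (inf_le_left.trans (omega_le_sylow T hF S))) hc) (card_le_of_le fun x hx => ?_)
  refine PLocal.mem_fixOn.2 ⟨hx.2.1, fun a ha => ?_⟩
  exact congrArg Subtype.val (hA.2.1.is_comm.comm ⟨a, ha⟩ ⟨x, hBA hx.1⟩)

end Cfsg.Agent.Lib.Fg6.CentralClosure
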