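/-
When is a Schur cover unique?
-/
import Cfsg.Agent.Lib.Multiplier.Basic
import Mathlib.LinearAlgebra.Dimension.Constructions
import Mathlib.LinearAlgebra.Dimension.Localization
import Mathlib.LinearAlgebra.Dimension.Free
import Mathlib.GroupTheory.FiniteAbelian.Basic
import Mathlib.GroupTheory.SpecificGroups.Cyclic
import Mathlib.Data.ZMod.Basic

set_option autoImplicit false
set_option linter.style.haveILetI false

namespace Cfsg.Agent.Lib.Fg6.CoverUnique

universe u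

open Subgroup Lib.Multiplier

variable {Q : Type u} [Group Q] [Finite Q]

/-- A complement of the multiplier gives a cover. -/
theorem exists_cover_of_complement (C : Subgroup (FreeCE Q)) (hCK : C ≤ (ceHom Q).ker)
    (hCM : C ⊓ schurM Q = ⊥) (hCsup : C ⊔ schurM Q = (ceHom Q).ker) :
    ∃ (Γ : Type u) (_ : Group Γ) (_ : Finite Γ) (σ : Γ →* Q) (q : FreeCE Q →* Γ),
      IsStemExtension σ ∧ Nonempty (σ.ker ≃* schurM Q) ∧ Function.Surjective q ∧ q.ker = C ∧
        σ.comp q = ceHom Q := by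
  have : C.Normal := ⟨fun z hz g => by
    rw [mem_center_iff.1 (ceHom_ker_le_center Q (hCK hz)) g, mul_inv_cancel_right]; exact hz⟩
  let q := QuotientGroup.mk' C
  let σ : FreeCE Q ⧸ C →* Q := QuotientGroup.lift C (ceHom Q) hCK
  have hker : σ.ker = (schurM Q).map q := by
    refine le_antisymm ?_ ?_
    · intro x hx
      obtain ⟨e, rfl⟩ := QuotientGroup.mk'_surjective C x
      have he : e ∈ C ⊔ schurM Q := hCsup.symm ▸ (hx : e ∈ (ceHom Q).ker)
      obtain ⟨c, hc, m, hm, rfl⟩ := mem_sup_of_normal_left.1 he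
      refine ⟨m, hm, ?_⟩
      rw [map_mul, show q c = 1 from (QuotientGroup.eq_one_iff c).2 hc, one_mul]
    · rintro _ ⟨m, hm, rfl⟩; exact hm.1
  let r : schurM Q →* σ.ker :=
    (q.domRestrict (schurM Q)).codRestrict σ.ker (fun x => by rw [hker]; exact ⟨x, x.2, rfl⟩)
  have hr : Function.Bijective r := by
    refine ⟨?_, ?_⟩
    · rw [← MonoidHom.ker_eq_bot_iff, eq_bot_iff]
      intro x hx
      have h : x.1 ∈ C ⊓ schurM Q :=
        ⟨(QuotientGroup.eq_one_iff _).1 (congrArg Subtype.val hx), x.2⟩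
      rw [hCM] at h
      exact mem_bot.2 (Subtype.ext h)
    · rintro ⟨z, hz⟩
      obtain ⟨m, hm, hmz⟩ := hker.le hz
      exact ⟨⟨m, hm⟩, Subtype.ext hmz⟩
  have hst : IsStemExtension σ := by
    refine ⟨QuotientGroup.lift_surjective_of_surjective _ _ (ceHom_surjective Q) hCK, ?_, ?_⟩
    · rw [hker]
      rintro _ ⟨m, hm, rfl⟩
      rw [mem_center_iff]
      intro y
      obtain ⟨e, rfl⟩ := QuotientGroup.mk'_surjective C y
      rw [← map_mul, ← map_mul, mem_center_iff.1 (schurM_le_center Q hm) e]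
    · rw [hker, _root_.commutator_def]
      refine (map_mono (schurM_le_commutator Q)).trans ?_
      rw [_root_.commutator_def, map_commutator]
      exact commutator_mono le_top le_top
  refine ⟨FreeCE Q ⧸ C, inferInstance, finite_of_isStemExtension σ hst, σ, q, hst,
    ⟨(MulEquiv.ofBijective r hr).symm⟩, QuotientGroup.mk'_surjective C,
    QuotientGroup.ker_mk' C, ?_⟩
  ext x
  rfl

/-- Facts about the lift of `F/[R,F]` to a cover. -/
theorem lift_cover {Γ : Type u} [Group Γ] [Finite Γ] (σ : Γ →* Q) (hσ : IsStemExtension σ)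
    (hcard : Nat.card σ.ker = Nat.card (schurM Q)) (f : FreeCE Q →* Γ)
    (hf : σ.comp f = ceHom Q) :
    f.ker ≤ (ceHom Q).ker ∧ f.ker ⊓ schurM Q = ⊥ ∧
      Function.Bijective (fun m : schurM Q => (⟨f m, by
        rw [MonoidHom.mem_ker, ← MonoidHom.comp_apply, hf]; exact m.2.1⟩ : σ.ker)) := by
  obtain ⟨-, hmap⟩ := lift_surjective hσ hf
  have hb : Function.Bijective (fun m : schurM Q => (⟨f m, by
      rw [MonoidHom.mem_ker, ← MonoidHom.comp_apply, hf]; exact m.2.1⟩ : σ.ker)) := by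
    refine (Nat.bijective_iff_surjective_and_card _).2 ⟨?_, hcard.symm⟩
    rintro ⟨z, hz⟩
    obtain ⟨m, hm, rfl⟩ := hmap.ge hz
    exact ⟨⟨m, hm⟩, rfl⟩
  refine ⟨fun x hx => ?_, ?_, hb⟩
  · rw [MonoidHom.mem_ker, ← hf, MonoidHom.comp_apply, MonoidHom.mem_ker.1 hx, map_one]
  · rw [eq_bot_iff]
    rintro x ⟨hx1, hx2⟩
    have h := hb.1 (a₁ := (⟨x, hx2⟩ : schurM Q)) (a₂ := 1)
      (Subtype.ext ((MonoidHom.mem_ker.1 hx1).trans (map_one f).symm))
    exact mem_bot.2 (congrArg Subtype.val h)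

theorem ceExp_surjective : Function.Surjective (ceExp Q) := by
  suffices h : ∀ v : Q →₀ ℤ, ∃ x, ceExp Q x = Multiplicative.ofAdd v from
    fun v => h (Multiplicative.toAdd v)
  intro v
  induction v using Finsupp.induction_linear with
  | zero => exact ⟨1, map_one _⟩
  | add a b ha hb =>
    obtain ⟨x, hx⟩ := ha
    obtain ⟨y, hy⟩ := hb
    exact ⟨x * y, by rw [map_mul, hx, hy]; rfl⟩
  | single q i =>
    refine ⟨(QuotientGroup.mk (FreeGroup.of q) : FreeCE Q) ^ i, ?_⟩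
    rw [map_zpow]
    show (expSum Q (FreeGroup.of q)) ^ i = _
    rw [expSum, FreeGroup.lift_apply_of, ← ofAdd_zsmul, Finsupp.smul_single, smul_eq_mul, mul_one]

/-- Every `|Q^ab|`-th power agrees with a relator modulo the derived group. -/
theorem exists_rel_ceExp_pow (x : FreeCE Q) :
    ∃ y ∈ (ceHom Q).ker, ceExp Q y = ceExp Q (x ^ Nat.card (Abelianization Q)) := by
  have h1 : ceHom Q (x ^ Nat.card (Abelianization Q)) ∈ commutator Q := by
    refine (QuotientGroup.eq_one_iff _).1 ?_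
    rw [map_pow, QuotientGroup.mk_pow]
    exact pow_card_eq_one' (G := Abelianization Q)
  have h2 : ceHom Q (x ^ Nat.card (Abelianization Q)) ∈
      (commutator (FreeCE Q)).map (ceHom Q) := by
    rwa [_root_.commutator_def, map_commutator,
      map_top_of_surjective _ (ceHom_surjective Q), ← _root_.commutator_def]
  obtain ⟨d, hd, he⟩ := h2
  refine ⟨x ^ Nat.card (Abelianization Q) * d⁻¹, ?_, ?_⟩
  · rw [MonoidHom.mem_ker, map_mul, map_inv, he, mul_inv_cancel]
  · rw [map_mul, map_inv, MonoidHom.mem_ker.1 ((ceExp_ker Q).ge hd), inv_one, mul_one]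

/-- Coprime orders force covers to agree over `Q`. -/
theorem exists_iso_of_coprime {Γ₁ Γ₂ : Type u} [Group Γ₁] [Finite Γ₁] [Group Γ₂] [Finite Γ₂]
    (σ₁ : Γ₁ →* Q) (σ₂ : Γ₂ →* Q) (h₁ : IsStemExtension σ₁) (h₂ : IsStemExtension σ₂)
    (hc₁ : Nat.card σ₁.ker = Nat.card (schurM Q)) (hc₂ : Nat.card σ₂.ker = Nat.card (schurM Q))
    (hcop : Nat.Coprime (Nat.card (Abelianization Q)) (Nat.card (schurM Q))) :
    ∃ e : Γ₁ ≃* Γ₂, σ₂.comp e.toMonoidHom = σ₁ := by
  obtain ⟨f₁, hf₁⟩ := exists_lift Q σ₁ h₁.1 h₁.2.1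
  obtain ⟨f₂, hf₂⟩ := exists_lift Q σ₂ h₂.1 h₂.2.1
  obtain ⟨hK₁, hM₁, hb₁⟩ := lift_cover σ₁ h₁ hc₁ f₁ hf₁
  set k := Nat.card (Abelianization Q) with hk
  -- the component of `x ^ k` in the kernel of the first lift
  have hex : ∀ x, ∃ c ∈ f₁.ker, ceExp Q c = ceExp Q (x ^ k) := fun x => by
    obtain ⟨y, hy, hye⟩ := exists_rel_ceExp_pow x
    obtain ⟨m, hm⟩ := hb₁.2 ⟨f₁ y, by rw [MonoidHom.mem_ker, ← MonoidHom.comp_apply, hf₁]; exact hy⟩
    refine ⟨y * (m : FreeCE Q)⁻¹, ?_, ?_⟩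
    · rw [MonoidHom.mem_ker, map_mul, map_inv, show f₁ (m : FreeCE Q) = f₁ y from congrArg Subtype.val hm,
        mul_inv_cancel]
    · rw [map_mul, map_inv, MonoidHom.mem_ker.1 ((ceExp_ker Q).ge m.2.2), inv_one, mul_one, hye]
  have huniq : ∀ c d, c ∈ f₁.ker → d ∈ f₁.ker → ceExp Q c = ceExp Q d → c = d := by
    intro c d hc hd he
    rw [← inv_mul_eq_one]
    refine mem_bot.1 (hM₁.le ⟨Subgroup.mul_mem _ (Subgroup.inv_mem _ hc) hd, ⟨?_, ?_⟩⟩)
    · exact hK₁ (mul_mem (inv_mem hc) hd)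
    · exact (ceExp_ker Q).le (by rw [MonoidHom.mem_ker, map_mul, map_inv, he, inv_mul_cancel])
  choose c hc hce using hex
  have hker₂ : ∀ x, f₂ (c x) ∈ σ₂.ker := fun x => by
    rw [MonoidHom.mem_ker, ← MonoidHom.comp_apply, hf₂]; exact hK₁ (hc x)
  letI : CommGroup σ₂.ker :=
    { σ₂.ker.toGroup with
      mul_comm := fun a b => Subtype.ext (mem_center_iff.1 (h₂.2.1 b.2) a.1) }
  set a : ℤ := Nat.gcdA k (Nat.card (schurM Q)) with ha
  let θ : FreeCE Q →* σ₂.ker := MonoidHom.mk' (fun x => ((⟨f₂ (c x), hker₂ x⟩ : σ₂.ker)⁻¹) ^ a)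
    (fun x y => by
      have e : c (x * y) = c x * c y := huniq _ _ (hc _) (mul_mem (hc x) (hc y)) (by
        rw [map_mul, hce, hce, hce, map_pow, map_pow, map_pow, map_mul, mul_pow])
      rw [← mul_zpow, ← mul_inv]
      congr 2
      exact Subtype.ext ((congrArg f₂ e).trans (map_mul f₂ _ _)))
  have hθker : ∀ x, x ∈ f₁.ker → f₂ x * (θ x : Γ₂) = 1 := by
    intro x hx
    have e : c x = x ^ k := huniq _ _ (hc x) (pow_mem hx _) (hce x)
    set z : σ₂.ker := ⟨f₂ x, by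
      rw [MonoidHom.mem_ker, ← MonoidHom.comp_apply, hf₂]; exact hK₁ hx⟩ with hz
    have e2 : (⟨f₂ (c x), hker₂ x⟩ : σ₂.ker) = z ^ (k : ℤ) := by
      rw [zpow_natCast]; exact Subtype.ext ((congrArg f₂ e).trans (map_pow f₂ x k))
    have e3 : θ x = z⁻¹ := by
      show ((⟨f₂ (c x), hker₂ x⟩ : σ₂.ker)⁻¹) ^ a = z⁻¹
      rw [e2, inv_zpow, ← zpow_mul, inv_inj]
      have hg := Nat.gcd_eq_gcd_ab k (Nat.card (schurM Q))
      rw [hcop, Nat.cast_one, ← ha] at hg
      rw [show (k : ℤ) * a = 1 - (Nat.card (schurM Q) : ℤ) * Nat.gcdB k (Nat.card (schurM Q)) by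
        omega, zpow_sub, zpow_one, zpow_mul, zpow_natCast, ← hc₂, pow_card_eq_one', one_zpow,
        inv_one, mul_one]
    rw [e3]
    exact mul_inv_cancel _
  let f₂' : FreeCE Q →* Γ₂ := MonoidHom.mk' (fun x => f₂ x * (θ x : Γ₂)) (fun x y => by
    have hc' := mem_center_iff.1 (h₂.2.1 (θ x).2) (f₂ y)
    rw [map_mul, map_mul, Subgroup.coe_mul, mul_assoc, ← mul_assoc (f₂ y), hc', mul_assoc,
      ← mul_assoc])
  have hf₂' : σ₂.comp f₂' = ceHom Q := by
    refine MonoidHom.ext fun x => ?_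
    show σ₂ (f₂ x * (θ x : Γ₂)) = _
    rw [map_mul, MonoidHom.mem_ker.1 (θ x).2, mul_one, ← hf₂]; rfl
  obtain ⟨hs₁, -⟩ := lift_surjective h₁ hf₁
  obtain ⟨hs₂, -⟩ := lift_surjective h₂ hf₂'
  let g : Γ₁ →* Γ₂ := f₁.liftOfSurjective hs₁ ⟨f₂', fun x hx => hθker x hx⟩
  have hg : ∀ x, g (f₁ x) = f₂' x := fun x =>
    MonoidHom.liftOfRightInverse_comp_apply f₁ _ (Function.rightInverse_surjInv hs₁)
      ⟨f₂', fun x hx => hθker x hx⟩ x
  have hgs : Function.Surjective g := fun y => by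
    obtain ⟨x, rfl⟩ := hs₂ y; exact ⟨f₁ x, hg x⟩
  have hcard : Nat.card Γ₁ = Nat.card Γ₂ := by
    rw [← σ₁.ker.index_mul_card, ← σ₂.ker.index_mul_card, Subgroup.index_ker, Subgroup.index_ker,
      hc₁, hc₂, MonoidHom.range_eq_top.2 h₁.1, MonoidHom.range_eq_top.2 h₂.1]
  refine ⟨MulEquiv.ofBijective g ((Nat.bijective_iff_surjective_and_card g).2 ⟨hgs, hcard⟩), ?_⟩
  ext y
  obtain ⟨x, rfl⟩ := hs₁ y
  show σ₂ (g (f₁ x)) = σ₁ (f₁ x)
  rw [hg, ← MonoidHom.comp_apply, hf₂', ← hf₁]; rfl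

/-- A common prime gives two different covers. -/
theorem exists_two_covers
    (hcop : ¬ Nat.Coprime (Nat.card (Abelianization Q)) (Nat.card (schurM Q))) :
    ∃ (Γ₁ Γ₂ : Type u) (_ : Group Γ₁) (_ : Finite Γ₁) (_ : Group Γ₂) (_ : Finite Γ₂)
      (σ₁ : Γ₁ →* Q) (σ₂ : Γ₂ →* Q), IsStemExtension σ₁ ∧ IsStemExtension σ₂ ∧
      Nonempty (σ₁.ker ≃* schurM Q) ∧ Nonempty (σ₂.ker ≃* schurM Q) ∧
      ¬ ∃ e : Γ₁ ≃* Γ₂, σ₂.comp e.toMonoidHom = σ₁ := by
  classical
  have := Fintype.ofFinite Q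
  have : Finite (Abelianization Q) :=
    Finite.of_surjective _ (QuotientGroup.mk_surjective (s := commutator Q))
  obtain ⟨p, hp, hpQ, hpM⟩ := Nat.Prime.not_coprime_iff_dvd.1 hcop
  have := Fact.mk hp
  obtain ⟨C, hCK, hCM, hCsup⟩ := exists_complement Q
  let j : C →* FreeCE Q := C.subtype
  -- the lattice
  letI : CommGroup C :=
    { C.toGroup with
      mul_comm := fun a b => Subtype.ext (mem_center_iff.1 (ceHom_ker_le_center Q (hCK b.2)) a.1) }
  let l : Additive C →ₗ[ℤ] (Q →₀ ℤ) :=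
    AddMonoidHom.toIntLinearMap (MonoidHom.toAdditiveLeft ((ceExp Q).comp j))
  have hl : ∀ c : C, l (Additive.ofMul c) = Multiplicative.toAdd (ceExp Q c) := fun c => rfl
  have hlinj : Function.Injective l := by
    intro a b hab
    have h1 : ((a.toMul⁻¹ * b.toMul : C) : FreeCE Q) ∈ C ⊓ schurM Q := by
      refine ⟨(a.toMul⁻¹ * b.toMul).2, hCK (a.toMul⁻¹ * b.toMul).2, (ceExp_ker Q).le ?_⟩
      rw [MonoidHom.mem_ker, Subgroup.coe_mul, Subgroup.coe_inv, map_mul, map_inv, inv_mul_eq_one]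
      exact Multiplicative.toAdd.injective hab
    rw [hCM, mem_bot] at h1
    exact Additive.toMul.injective (inv_mul_eq_one.1 (Subtype.ext h1))
  let L := LinearMap.range l
  let eL : Additive C ≃ₗ[ℤ] L := LinearEquiv.ofInjective l hlinj
  have hfull : ∀ v : Q →₀ ℤ, (Nat.card (Abelianization Q) : ℤ) • v ∈ L := by
    intro v
    obtain ⟨x, hx⟩ := ceExp_surjective (Multiplicative.ofAdd v)
    obtain ⟨y, hy, hye⟩ := exists_rel_ceExp_pow x
    have hMn : (schurM Q).Normal := ⟨fun z hz g => by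
      rw [mem_center_iff.1 (schurM_le_center Q hz) g, mul_inv_cancel_right]; exact hz⟩
    obtain ⟨c, hc, m, hm, rfl⟩ := mem_sup_of_normal_right.1 (hCsup.ge hy)
    refine ⟨Additive.ofMul ⟨c, hc⟩, ?_⟩
    rw [map_mul, MonoidHom.mem_ker.1 ((ceExp_ker Q).ge hm.2), mul_one] at hye
    rw [hl, hye, map_pow, toAdd_pow, hx, toAdd_ofAdd, natCast_zsmul]
  have hrank : Module.finrank ℤ L = Fintype.card Q := by
    refine le_antisymm ((Submodule.finrank_le L).trans_eq (Module.finrank_finsupp_self ℤ)) ?_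
    let m : (Q →₀ ℤ) →ₗ[ℤ] L :=
      LinearMap.codRestrict L ((Nat.card (Abelianization Q) : ℤ) • LinearMap.id) hfull
    have hm : Function.Injective m := fun a b hab =>
      smul_right_injective (Q →₀ ℤ) (show (Nat.card (Abelianization Q) : ℤ) ≠ 0 by
        exact_mod_cast Nat.card_pos.ne') (congrArg Subtype.val hab)
    exact (Module.finrank_finsupp_self ℤ).symm.trans_le (LinearMap.finrank_le_finrank_of_injective hm)
  let b := Module.finBasis ℤ L
  let lin : (Q → Additive (schurM Q)) → ((Q →₀ ℤ) →ₗ[ℤ] Additive (schurM Q)) := fun m =>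
    Finsupp.linearCombination ℤ m
  let R : (Q → Additive (schurM Q)) → (Fin (Module.finrank ℤ L) → Additive (schurM Q)) :=
    fun m i => lin m (b i).1
  -- restriction is not injective
  have hRninj : ¬ Function.Injective R := by
    obtain ⟨z, hz⟩ := exists_prime_orderOf_dvd_card' (G := schurM Q) p hpM
    obtain ⟨χ, hχ⟩ : ∃ χ : Q →* Multiplicative (ZMod p), χ ≠ 1 := by
      obtain ⟨κ, _, n, hn, ⟨e⟩⟩ :=
        CommGroup.equiv_prod_multiplicative_zmod_of_finite (Abelianization Q)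
      obtain ⟨i, hi⟩ : ∃ i, p ∣ n i := by
        by_contra hcon
        push Not at hcon
        rw [Nat.card_congr e.toEquiv, Nat.card_pi] at hpQ
        obtain ⟨i, -, hi⟩ := hp.prime.exists_mem_finset_dvd hpQ
        rw [Nat.card_congr Multiplicative.toAdd, Nat.card_zmod] at hi
        exact hcon i hi
      let c : Abelianization Q →* Multiplicative (ZMod p) :=
        ((AddMonoidHom.toMultiplicative (ZMod.castHom hi (ZMod p)).toAddMonoidHom).comp
          (Pi.evalMonoidHom (fun i => Multiplicative (ZMod (n i))) i)).comp e.toMonoidHom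
      refine ⟨c.comp Abelianization.of, fun h => ?_⟩
      obtain ⟨q, hq⟩ := QuotientGroup.mk_surjective (e.symm (Pi.mulSingle i (Multiplicative.ofAdd 1)))
      have h1 : c (Abelianization.of q) = 1 := DFunLike.congr_fun h q
      rw [show Abelianization.of q = e.symm (Pi.mulSingle i (Multiplicative.ofAdd 1)) from hq] at h1
      simp only [c, MonoidHom.comp_apply, MulEquiv.coe_toMonoidHom, MulEquiv.apply_symm_apply,
        Pi.evalMonoidHom_apply, Pi.mulSingle_eq_same] at h1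
      exact one_ne_zero (((map_one (ZMod.castHom hi (ZMod p))).symm.trans
        (congrArg Multiplicative.toAdd h1)) : (1 : ZMod p) = 0)
    let ι : Multiplicative (ZMod p) →* schurM Q :=
      (ZMod.lift p ⟨(zpowersHom (schurM Q) z).toAdditiveRight, by
        show Additive.ofMul (z ^ (p : ℤ)) = 0
        rw [zpow_natCast, ← hz, pow_orderOf_eq_one]; rfl⟩).toMultiplicativeLeft
    let m₁ : Q → Additive (schurM Q) := fun q => Additive.ofMul (ι (χ q))
    have hval : ∀ x, lin m₁ (Multiplicative.toAdd (ceExp Q x)) = Additive.ofMul (ι (χ (ceHom Q x))) := by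
      intro x
      have : (AddMonoidHom.toMultiplicativeLeft (lin m₁).toAddMonoidHom).comp (ceExp Q) =
          (ι.comp χ).comp (ceHom Q) := by
        apply QuotientGroup.monoidHom_ext
        ext q
        simp [lin, m₁, ceExp, expSum, ceHom_mk]
      exact congrArg Additive.ofMul (DFunLike.congr_fun this x)
    intro hinj
    have h0 : R m₁ = R 0 := by
      funext i
      obtain ⟨c, hc⟩ := (b i).2
      show lin m₁ (b i).1 = lin 0 (b i).1
      rw [show (b i).1 = Multiplicative.toAdd (ceExp Q (c.toMul : C)) from hc.symm.trans rfl, hval,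
        MonoidHom.mem_ker.1 (hCK (c.toMul : C).2)]
      simp [lin]
    refine hχ (MonoidHom.ext fun q => ?_)
    have h1 : ι (χ q) = 1 := congrArg Additive.toMul (congrFun (hinj h0) q)
    have hιinj : Function.Injective ι := by
      rw [← MonoidHom.ker_eq_bot_iff]
      have : Fact (Nat.card (Multiplicative (ZMod p))).Prime :=
        ⟨by rw [Nat.card_congr Multiplicative.toAdd, Nat.card_zmod]; exact hp⟩
      refine ((MonoidHom.ker ι).eq_bot_or_eq_top_of_prime_card).resolve_right fun h => ?_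
      have h1 : ι (Multiplicative.ofAdd 1) = 1 := (h ▸ mem_top _ : _ ∈ ι.ker)
      have h2 : ι (Multiplicative.ofAdd ((1 : ℤ) : ZMod p)) = z :=
        (congrArg Additive.toMul (ZMod.lift_coe p _ 1)).trans (zpow_one z)
      rw [Int.cast_one, h1] at h2
      rw [← h2, orderOf_one] at hz
      exact hp.ne_one hz.symm
    exact hιinj (h1.trans (map_one ι).symm)
  obtain ⟨w, hw⟩ : ∃ w, ∀ m, R m ≠ w := by
    by_contra hcon
    push Not at hcon
    refine hRninj ((Nat.bijective_iff_surjective_and_card R).2 ⟨hcon, ?_⟩).1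
    rw [Nat.card_fun, Nat.card_fun, Nat.card_fin, hrank, Nat.card_eq_fintype_card (α := Q)]
  let δ : Additive C →ₗ[ℤ] Additive (schurM Q) := (b.constr ℤ w).comp eL.toLinearMap
  let tw : C →* FreeCE Q := MonoidHom.mk'
    (fun c => (c : FreeCE Q) * ((δ (Additive.ofMul c)).toMul : schurM Q)) (fun c d => by
      rw [ofMul_mul, map_add, toMul_add, Subgroup.coe_mul, Subgroup.coe_mul, mul_assoc,
        ← mul_assoc (d : FreeCE Q), mem_center_iff.1 (schurM_le_center Q
          ((δ (Additive.ofMul c)).toMul).2) (d : FreeCE Q), mul_assoc, ← mul_assoc])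
  have hC'K : tw.range ≤ (ceHom Q).ker := by
    rintro _ ⟨c, rfl⟩
    exact mul_mem (hCK c.2) ((δ (Additive.ofMul c)).toMul).2.1
  have hC'M : tw.range ⊓ schurM Q = ⊥ := by
    rw [eq_bot_iff]
    rintro _ ⟨⟨c, rfl⟩, hm⟩
    have h1 : (c : FreeCE Q) ∈ C ⊓ schurM Q := ⟨c.2, by
      have := (schurM Q).mul_mem hm ((schurM Q).inv_mem ((δ (Additive.ofMul c)).toMul).2)
      simpa [tw] using this⟩
    rw [hCM, mem_bot] at h1
    rw [show c = 1 from Subtype.ext h1, map_one]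
    exact one_mem _
  have hC'sup : tw.range ⊔ schurM Q = (ceHom Q).ker := by
    refine le_antisymm (sup_le hC'K inf_le_left) (hCsup ▸ sup_le ?_ le_sup_right)
    intro c hc
    have h1 := mul_mem (mem_sup_left (T := schurM Q) (show tw ⟨c, hc⟩ ∈ tw.range from ⟨_, rfl⟩))
      (mem_sup_right (S := tw.range) (inv_mem ((δ (Additive.ofMul (⟨c, hc⟩ : C))).toMul).2))
    simpa [tw] using h1
  obtain ⟨Γ₁, _, _, σ₁, q₁, h₁, e₁, hs₁, hk₁, hq₁⟩ := exists_cover_of_complement C hCK hCM hCsup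
  obtain ⟨Γ₂, _, _, σ₂, q₂, h₂, ⟨e₂⟩, hs₂, hk₂, hq₂⟩ :=
    exists_cover_of_complement tw.range hC'K hC'M hC'sup
  refine ⟨Γ₁, Γ₂, inferInstance, inferInstance, inferInstance, inferInstance, σ₁, σ₂, h₁, h₂, e₁,
    ⟨e₂⟩, ?_⟩
  rintro ⟨e, he⟩
  -- the difference of the two lifts
  obtain ⟨-, -, hb₂⟩ := lift_cover σ₂ h₂ (Nat.card_congr e₂.toEquiv) q₂ hq₂
  let toM : σ₂.ker →* schurM Q :=
    ((MulEquiv.ofBijective (MonoidHom.mk' (fun m : schurM Q => (⟨q₂ m, by
      rw [MonoidHom.mem_ker, ← MonoidHom.comp_apply, hq₂]; exact m.2.1⟩ : σ₂.ker))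
      (fun a b => Subtype.ext (map_mul q₂ a.1 b.1))) hb₂).symm).toMonoidHom
  have htoM : ∀ z, q₂ (toM z : FreeCE Q) = (z : Γ₂) := fun z =>
    congrArg Subtype.val ((MulEquiv.ofBijective (MonoidHom.mk' (fun m : schurM Q => (⟨q₂ m, by
      rw [MonoidHom.mem_ker, ← MonoidHom.comp_apply, hq₂]; exact m.2.1⟩ : σ₂.ker))
      (fun a b => Subtype.ext (map_mul q₂ a.1 b.1))) hb₂).apply_symm_apply z)
  have hd : ∀ x, (q₂ x)⁻¹ * e (q₁ x) ∈ σ₂.ker := fun x => by
    rw [MonoidHom.mem_ker, map_mul, map_inv, ← MonoidHom.comp_apply σ₂ q₂, hq₂,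
      show σ₂ (e (q₁ x)) = σ₁ (q₁ x) from DFunLike.congr_fun he (q₁ x),
      ← MonoidHom.comp_apply σ₁ q₁, hq₁, inv_mul_cancel]
  let θ : FreeCE Q →* σ₂.ker := MonoidHom.mk' (fun x => ⟨_, hd x⟩) (fun x y => Subtype.ext (by
    show (q₂ (x * y))⁻¹ * e (q₁ (x * y)) = (q₂ x)⁻¹ * e (q₁ x) * ((q₂ y)⁻¹ * e (q₁ y))
    have hc := mem_center_iff.1 (h₂.2.1 (hd x)) (q₂ y)⁻¹
    rw [map_mul, map_mul, map_mul, mul_inv_rev]
    calc (q₂ y)⁻¹ * (q₂ x)⁻¹ * (e (q₁ x) * e (q₁ y))
        = ((q₂ y)⁻¹ * ((q₂ x)⁻¹ * e (q₁ x))) * e (q₁ y) := by group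
      _ = (((q₂ x)⁻¹ * e (q₁ x)) * (q₂ y)⁻¹) * e (q₁ y) := by rw [hc]
      _ = _ := by group))
  let θ₀ : FreeCE Q →* schurM Q := toM.comp θ
  let m : Q → Additive (schurM Q) := fun q => Additive.ofMul (θ₀ (QuotientGroup.mk (FreeGroup.of q)))
  have hm : ∀ x, lin m (Multiplicative.toAdd (ceExp Q x)) = Additive.ofMul (θ₀ x) := by
    intro x
    have : (AddMonoidHom.toMultiplicativeLeft (lin m).toAddMonoidHom).comp (ceExp Q) = θ₀ := by
      apply QuotientGroup.monoidHom_ext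
      ext q
      simp [lin, m, ceExp, expSum]
    exact congrArg Additive.ofMul (DFunLike.congr_fun this x)
  refine hw (fun q => m q) ?_
  funext i
  obtain ⟨c, hc⟩ := (b i).2
  show lin m (b i).1 = w i
  have hbi : eL c = b i := Subtype.ext hc
  have hδ : δ c = w i := by
    show b.constr ℤ w (eL c) = w i
    rw [hbi, Module.Basis.constr_basis]
  rw [← hδ, show (b i).1 = Multiplicative.toAdd (ceExp Q (c.toMul : C)) from hc.symm.trans rfl, hm]
  -- evaluate on `C`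
  have h1 : e (q₁ (c.toMul : C)) = 1 := by
    rw [show q₁ ((c.toMul : C) : FreeCE Q) = 1 from MonoidHom.mem_ker.1 (hk₁.ge (c.toMul : C).2),
      map_one]
  have h2 : q₂ ((θ₀ (c.toMul : C) : schurM Q) : FreeCE Q) = q₂ ((δ c).toMul : schurM Q) := by
    show q₂ (toM (θ _) : FreeCE Q) = _
    rw [htoM]
    show (q₂ _)⁻¹ * e (q₁ _) = _
    rw [h1, mul_one, inv_eq_iff_mul_eq_one, ← map_mul]
    exact MonoidHom.mem_ker.1 (hk₂.ge ⟨c.toMul, rfl⟩)
  exact congrArg Additive.ofMul (hb₂.1 (Subtype.ext h2))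

end Cfsg.Agent.Lib.Fg6.CoverUnique
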