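/-
Mann's bound: a p-group of derived length k + 1 has order at least p ^ (2 ^ k + 2 k - 2).
-/
import Cfsg.Agent.Lib.PGroupTheory.Poly

set_option autoImplicit false
set_option linter.style.haveILetI false

namespace Cfsg.Agent.Lib.Fg6.DerivedLengthOrder

open Cfsg.Agent.Lib.PGroupTheory
open scoped commutatorElement

variable {G : Type*} [Group G]

/-- Generators commuting modulo `N` give commutators in `N`. -/
theorem commutator_closure_le {N : Subgroup G} [N.Normal] (T : Set G)
    (h : ∀ u ∈ T, ∀ v ∈ T, ⁅u, v⁆ ∈ N) : ⁅Subgroup.closure T, Subgroup.closure T⁆ ≤ N := by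
  rw [← QuotientGroup.ker_mk' N, ← Subgroup.map_eq_bot_iff, Subgroup.map_commutator,
    MonoidHom.map_closure, Subgroup.commutator_eq_bot_iff_le_centralizer, Subgroup.closure_le]
  intro x hx
  rw [SetLike.mem_coe, Subgroup.centralizer_closure]
  obtain ⟨u, hu, rfl⟩ := hx
  rw [Subgroup.mem_centralizer_iff_commutator_eq_one]
  rintro _ ⟨v, hv, rfl⟩
  rw [← map_commutatorElement]
  exact (QuotientGroup.eq_one_iff _).2 (h v hv u hu)

/-- Abelian modulo `N` once generators and a submodule are. -/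
theorem commutator_le_of_gen {N H M : Subgroup G} [N.Normal] (S : Set G) (hS : S ⊆ H) (hM : M ≤ H)
    (hH : H ≤ Subgroup.closure S ⊔ M) (h1 : ∀ u ∈ S, ∀ v ∈ S, ⁅u, v⁆ ∈ N) (h2 : ⁅M, H⁆ ≤ N) :
    ⁅H, H⁆ ≤ N := by
  have hH' : H ≤ Subgroup.closure (S ∪ M) := by
    rwa [Subgroup.closure_union, Subgroup.closure_eq]
  refine (Subgroup.commutator_mono hH' hH').trans (commutator_closure_le _ ?_)
  rintro u (hu | hu) v (hv | hv)
  · exact h1 u hu v hv
  · rw [← commutatorElement_inv]
    exact N.inv_mem (h2 (Subgroup.commutator_mem_commutator hv (hS hu)))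
  · exact h2 (Subgroup.commutator_mem_commutator hu (hS hv))
  · exact h2 (Subgroup.commutator_mem_commutator hu (hM hv))

/-- The `x`-fold commutator with the whole group. -/
def iter (H : Subgroup G) : ℕ → Subgroup G
  | 0 => H
  | x + 1 => ⁅iter H x, ⊤⁆

local notation "γ" => Subgroup.lowerCentralSeries (⊤ : Subgroup G)

theorem iter_normal (H : Subgroup G) [H.Normal] : ∀ x, (iter H x).Normal
  | 0 => (inferInstance : H.Normal)
  | x + 1 => by
    have := iter_normal H x
    show (⁅iter H x, ⊤⁆ : Subgroup G).Normal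
    infer_instance

theorem iter_succ_le (H : Subgroup G) [H.Normal] (x : ℕ) : iter H (x + 1) ≤ iter H x := by
  have := iter_normal H x
  exact Subgroup.commutator_le_left _ _

theorem iter_antitone (H : Subgroup G) [H.Normal] : Antitone (iter H) :=
  antitone_nat_of_succ_le (iter_succ_le H)

theorem iter_le_lcs {H : Subgroup G} {h : ℕ} (hH : H ≤ γ h) : ∀ x, iter H x ≤ γ (h + x)
  | 0 => hH
  | x + 1 => by
    show ⁅iter H x, ⊤⁆ ≤ γ (h + x + 1)
    rw [Subgroup.lowerCentralSeries_succ]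
    exact Subgroup.commutator_mono (iter_le_lcs hH x) le_rfl

theorem commutator_iter_lcs_le (H : Subgroup G) [H.Normal] : ∀ s x,
    ⁅iter H x, γ s⁆ ≤ iter H (x + s + 1) := by
  intro s
  induction s with
  | zero => intro x; exact le_rfl
  | succ s ih =>
    intro x
    have := iter_normal H (x + (s + 1) + 1)
    set N := iter H (x + (s + 1) + 1) with hN
    let π := QuotientGroup.mk' N
    have key : ∀ S : Subgroup G, S ≤ N ↔ S.map π = ⊥ := fun S => by
      rw [Subgroup.map_eq_bot_iff, QuotientGroup.ker_mk']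
    rw [key, Subgroup.map_commutator, Subgroup.lowerCentralSeries_succ, Subgroup.map_commutator,
      Subgroup.commutator_comm]
    apply Subgroup.commutator_commutator_eq_bot_of_rotate
    · rw [← Subgroup.map_commutator, ← Subgroup.map_commutator, ← key, Subgroup.commutator_comm ⊤]
      exact (ih (x + 1)).trans (iter_antitone H (by omega))
    · rw [← Subgroup.map_commutator, ← Subgroup.map_commutator, ← key, hN,
        show x + (s + 1) + 1 = (x + s + 1) + 1 by omega]
      exact Subgroup.commutator_mono (ih x) le_rfl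

variable [Finite G] {p : ℕ} [hp : Fact p.Prime] (hG : IsPGroup p G)

include hG

theorem mul_card_le_of_lt {A B : Subgroup G} (h : A < B) : p * Nat.card A ≤ Nat.card B := by
  obtain ⟨a, ha⟩ := IsPGroup.iff_card.1 (hG.to_subgroup A)
  obtain ⟨b, hb⟩ := IsPGroup.iff_card.1 (hG.to_subgroup B)
  have hlt : Nat.card A < Nat.card B := lt_of_not_ge fun hle =>
    h.ne (Subgroup.eq_of_le_of_card_ge h.le hle)
  rw [ha, hb] at hlt ⊢
  have := (Nat.pow_lt_pow_iff_right (Fact.out : p.Prime).one_lt).1 hlt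
  rw [← pow_succ']
  exact Nat.pow_le_pow_right (Fact.out : p.Prime).pos this

theorem iter_succ_lt {H : Subgroup G} [H.Normal] {x : ℕ} (h : iter H x ≠ ⊥) :
    iter H (x + 1) < iter H x := by
  refine lt_of_le_of_ne (iter_succ_le H x) fun e => h ?_
  have hall : ∀ y, iter H (x + y) = iter H x := by
    intro y
    induction y with
    | zero => rfl
    | succ y ih =>
      show ⁅iter H (x + y), ⊤⁆ = iter H x
      rw [ih]; exact e
  have := hG.isNilpotent
  obtain ⟨n, hn⟩ := Subgroup.nilpotent_iff_lowerCentralSeries.1 (inferInstance : Group.IsNilpotent G)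
  rw [← hall n, eq_bot_iff, ← hn]
  refine (iter_le_lcs (h := 0) le_top (x + n)).trans ?_
  exact (⊤ : Subgroup G).lowerCentralSeries_antitone (by omega)

theorem pow_mul_card_iter_le {H : Subgroup G} [H.Normal] (x : ℕ) : ∀ y,
    (∀ i < y, iter H (x + i) ≠ ⊥) → p ^ y * Nat.card (iter H (x + y)) ≤ Nat.card (iter H x)
  | 0, _ => by simp
  | y + 1, h => by
    have h1 := pow_mul_card_iter_le x y fun i hi => h i (by omega)
    have h2 := mul_card_le_of_lt hG (iter_succ_lt hG (h y (by omega)))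
    rw [pow_succ, mul_assoc]
    exact (Nat.mul_le_mul_left _ h2).trans h1

variable {H : Subgroup G} [H.Normal] {h : ℕ}

omit hp hG in
theorem commutator_self_le (hH : H ≤ γ h) : ⁅H, H⁆ ≤ iter H (h + 1) := by
  refine (Subgroup.commutator_mono le_rfl hH).trans ?_
  have := commutator_iter_lcs_le H h 0
  rw [Nat.zero_add] at this
  exact this

theorem card_drop (hH : H ≤ γ h) (hne : ⁅H, H⁆ ≠ ⊥) :
    p ^ (h + 2) * Nat.card (⁅H, H⁆ : Subgroup G) ≤ Nat.card H := by
  have hle := commutator_self_le hH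
  have hnb : ∀ i ≤ h + 1, iter H i ≠ ⊥ := fun i hi e =>
    hne (le_bot_iff.1 (hle.trans ((iter_antitone H hi).trans e.le)))
  have hlt := mul_card_le_of_lt hG (iter_succ_lt hG (hnb 0 (by omega)))
  by_cases h2 : p ^ 2 * Nat.card (iter H 1) ≤ Nat.card H
  · have h1 := pow_mul_card_iter_le hG (H := H) 1 h fun i hi => hnb (1 + i) (by omega)
    rw [Nat.add_comm 1 h] at h1
    calc p ^ (h + 2) * Nat.card (⁅H, H⁆ : Subgroup G)
        ≤ p ^ 2 * (p ^ h * Nat.card (iter H (h + 1))) := by
          rw [← mul_assoc, ← pow_add, Nat.add_comm 2 h]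
          exact Nat.mul_le_mul_left _ (Subgroup.card_le_of_le hle)
      _ ≤ p ^ 2 * Nat.card (iter H 1) := Nat.mul_le_mul_left _ h1
      _ ≤ _ := h2
  · -- cyclic on top
    obtain ⟨a, haH, ha⟩ := SetLike.exists_of_lt (iter_succ_lt hG (hnb 0 (by omega)))
    have hgen : H ≤ Subgroup.closure {a} ⊔ iter H 1 := by
      by_contra hnle
      refine h2 ?_
      have hK : Subgroup.closure {a} ⊔ iter H 1 ≤ H :=
        sup_le ((Subgroup.closure_le _).2 (Set.singleton_subset_iff.2 haH)) (iter_succ_le H 0)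
      have l1 : iter H 1 < Subgroup.closure {a} ⊔ iter H 1 := lt_of_le_of_ne le_sup_right fun e =>
        ha (e ▸ Subgroup.mem_sup_left (Subgroup.subset_closure rfl))
      have c1 := mul_card_le_of_lt hG l1
      have c2 := mul_card_le_of_lt hG (lt_of_le_of_ne hK fun e => hnle e.ge)
      calc p ^ 2 * Nat.card (iter H 1) = p * (p * Nat.card (iter H 1)) := by ring
        _ ≤ p * Nat.card (Subgroup.closure {a} ⊔ iter H 1 : Subgroup G) := Nat.mul_le_mul_left _ c1
        _ ≤ _ := c2
    have := iter_normal H (h + 2)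
    have hle' : ⁅H, H⁆ ≤ iter H (h + 2) := by
      refine commutator_le_of_gen {a} (Set.singleton_subset_iff.2 haH) (iter_succ_le H 0) hgen ?_ ?_
      · rintro u rfl v rfl
        rw [commutatorElement_self]
        exact one_mem _
      · refine (Subgroup.commutator_mono le_rfl hH).trans ((commutator_iter_lcs_le H h 1).trans ?_)
        rw [show 1 + h + 1 = h + 2 by omega]
    have h1 := pow_mul_card_iter_le hG (H := H) 0 (h + 2) fun i hi => hnb (0 + i) (by omega)
    rw [Nat.zero_add] at h1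
    exact (Nat.mul_le_mul_left _ (Subgroup.card_le_of_le hle')).trans h1

theorem two_gen_of_deficit (hH : H ≤ γ h) (hne : ⁅H, H⁆ ≠ ⊥)
    (hdef : Nat.card H < p ^ (h + 3) * Nat.card (⁅H, H⁆ : Subgroup G)) :
    ∃ a ∈ H, ∃ b ∈ H, H ≤ Subgroup.closure {a, b} ⊔ (γ (h + 1) ⊓ H) := by
  have hle := commutator_self_le hH
  have hnb : ∀ i ≤ h + 1, iter H i ≠ ⊥ := fun i hi e =>
    hne (le_bot_iff.1 (hle.trans ((iter_antitone H hi).trans e.le)))
  have hsmall : Nat.card H < p ^ 3 * Nat.card (iter H 1) := by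
    refine lt_of_lt_of_le hdef ?_
    have h1 := pow_mul_card_iter_le hG (H := H) 1 h fun i hi => hnb (1 + i) (by omega)
    rw [Nat.add_comm 1 h] at h1
    calc p ^ (h + 3) * Nat.card (⁅H, H⁆ : Subgroup G)
        ≤ p ^ 3 * (p ^ h * Nat.card (iter H (h + 1))) := by
          rw [← mul_assoc, ← pow_add, Nat.add_comm 3 h]
          exact Nat.mul_le_mul_left _ (Subgroup.card_le_of_le hle)
      _ ≤ _ := Nat.mul_le_mul_left _ h1
  have h1H : iter H 1 ≤ H := iter_succ_le H 0
  have hC : iter H 1 ≤ γ (h + 1) ⊓ H := le_inf (iter_le_lcs hH 1) h1H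
  obtain ⟨a, haH, ha⟩ := SetLike.exists_of_lt (iter_succ_lt hG (hnb 0 (by omega)))
  have l1 : iter H 1 < Subgroup.closure {a} ⊔ iter H 1 := lt_of_le_of_ne le_sup_right fun e =>
    ha (e ▸ Subgroup.mem_sup_left (Subgroup.subset_closure rfl))
  by_cases hA : H ≤ Subgroup.closure {a} ⊔ iter H 1
  · exact ⟨a, haH, a, haH, hA.trans (sup_le_sup (Subgroup.closure_mono (by simp)) hC)⟩
  obtain ⟨b, hbH, hb⟩ := SetLike.not_le_iff_exists.1 hA
  refine ⟨a, haH, b, hbH, le_trans ?_ (sup_le_sup_left hC _)⟩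
  by_contra hB
  have l2 : Subgroup.closure {a} ⊔ iter H 1 < Subgroup.closure {a, b} ⊔ iter H 1 :=
    lt_of_le_of_ne (sup_le_sup_right (Subgroup.closure_mono (by simp)) _) fun e =>
      hb (e ▸ Subgroup.mem_sup_left (Subgroup.subset_closure (by simp)))
  have l3 : Subgroup.closure {a, b} ⊔ iter H 1 < H :=
    lt_of_le_of_ne (sup_le ((Subgroup.closure_le _).2
      (Set.insert_subset_iff.2 ⟨haH, Set.singleton_subset_iff.2 hbH⟩)) h1H) fun e => hB e.ge
  have c1 := mul_card_le_of_lt hG l1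
  have c2 := mul_card_le_of_lt hG l2
  have c3 := mul_card_le_of_lt hG l3
  refine absurd hsmall (not_lt.2 ?_)
  calc p ^ 3 * Nat.card (iter H 1) = p * (p * (p * Nat.card (iter H 1))) := by ring
    _ ≤ p * (p * Nat.card (Subgroup.closure {a} ⊔ iter H 1 : Subgroup G)) :=
        Nat.mul_le_mul_left _ (Nat.mul_le_mul_left _ c1)
    _ ≤ p * Nat.card (Subgroup.closure {a, b} ⊔ iter H 1 : Subgroup G) := Nat.mul_le_mul_left _ c2
    _ ≤ _ := c3

omit [Finite G] hp hG in
theorem cyclic_commutator (hH : H ≤ γ h) {a b : G} (ha : a ∈ H) (hb : b ∈ H)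
    (hgen : H ≤ Subgroup.closure {a, b} ⊔ (γ (h + 1) ⊓ H)) :
    ∃ c ∈ (⁅H, H⁆ : Subgroup G), ⁅H, H⁆ ≤ Subgroup.closure {c} ⊔ (γ (2 * h + 2) ⊓ ⁅H, H⁆) := by
  have hc : ⁅a, b⁆ ∈ (⁅H, H⁆ : Subgroup G) := Subgroup.commutator_mem_commutator ha hb
  refine ⟨⁅a, b⁆, hc, ?_⟩
  set N := Subgroup.closure {⁅a, b⁆} ⊔ γ (2 * h + 2) with hN
  have hcl : ⁅a, b⁆ ∈ γ (2 * h + 1) := by
    have h1 := commutator_top_lowerCentralSeries_le h h (Subgroup.commutator_mem_commutator (hH ha) (hH hb))
    rwa [show h + h + 1 = 2 * h + 1 by omega] at h1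
  have hNle : N ≤ γ (2 * h + 1) :=
    sup_le ((Subgroup.closure_le _).2 (Set.singleton_subset_iff.2 hcl))
      ((⊤ : Subgroup G).lowerCentralSeries_antitone (by omega))
  have : N.Normal := ⟨fun n hn g => by
    have h1 : ⁅n, g⁆ ∈ γ (2 * h + 2) := by
      rw [show 2 * h + 2 = (2 * h + 1) + 1 by omega, Subgroup.lowerCentralSeries_succ]
      exact Subgroup.commutator_mem_commutator (hNle hn) (Subgroup.mem_top g)
    rw [show g * n * g⁻¹ = ⁅n, g⁆⁻¹ * n by rw [commutatorElement_inv, commutatorElement_def]; group]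
    exact N.mul_mem (N.inv_mem (Subgroup.mem_sup_right h1)) hn⟩
  have hle : ⁅H, H⁆ ≤ N := by
    refine commutator_le_of_gen {a, b}
      (Set.insert_subset_iff.2 ⟨ha, Set.singleton_subset_iff.2 hb⟩) inf_le_right hgen ?_ ?_
    · have hab : ⁅a, b⁆ ∈ N := Subgroup.mem_sup_left (Subgroup.subset_closure rfl)
      rintro u (rfl | rfl) v (rfl | rfl)
      · rw [commutatorElement_self]; exact one_mem _
      · exact hab
      · rw [← commutatorElement_inv]; exact N.inv_mem hab
      · rw [commutatorElement_self]; exact one_mem _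
    · refine le_trans ((Subgroup.commutator_mono inf_le_left hH).trans
        (commutator_top_lowerCentralSeries_le h (h + 1))) ?_
      rw [show h + 1 + h + 1 = 2 * h + 2 by omega]
      exact le_sup_right
  intro x hx
  have hxN : x ∈ Subgroup.closure {⁅a, b⁆} ⊔ γ (2 * h + 2) := hle hx
  obtain ⟨y, hy, z, hz, rfl⟩ := Subgroup.mem_sup_of_normal_right.1 hxN
  refine Subgroup.mul_mem_sup hy ⟨hz, ?_⟩
  have hy' : y ∈ (⁅H, H⁆ : Subgroup G) := (Subgroup.closure_le _).2 (Set.singleton_subset_iff.2 hc) hy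
  exact (Subgroup.mul_mem_cancel_left _ hy').1 hx

omit [Finite G] hp hG in
theorem commutator_of_cyclic (hH : H ≤ γ h) {c : G} (hc : c ∈ H)
    (hgen : H ≤ Subgroup.closure {c} ⊔ (γ (h + 1) ⊓ H)) : ⁅H, H⁆ ≤ γ (2 * h + 2) := by
  refine commutator_le_of_gen {c} (Set.singleton_subset_iff.2 hc) inf_le_right hgen ?_ ?_
  · rintro u rfl v rfl
    rw [commutatorElement_self]; exact one_mem _
  · refine ((Subgroup.commutator_mono inf_le_left hH).trans
      (commutator_top_lowerCentralSeries_le h (h + 1))).trans ?_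
    rw [show h + 1 + h + 1 = 2 * h + 2 by omega]

omit [Finite G] hp hG in
theorem derived_le_lcs : ∀ j, derivedSeries G j ≤ γ (2 ^ j - 1)
  | 0 => le_of_eq (derivedSeries_zero G)
  | j + 1 => by
    rw [derivedSeries_succ]
    refine ((Subgroup.commutator_mono (derived_le_lcs j) (derived_le_lcs j)).trans
      (commutator_top_lowerCentralSeries_le _ _)).trans
      ((⊤ : Subgroup G).lowerCentralSeries_antitone ?_)
    have := Nat.one_le_two_pow (n := j)
    rw [pow_succ]; omega

/-- Downward induction for the three bounds. -/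
theorem bounds {k : ℕ} (hk : derivedSeries G k ≠ ⊥) : ∀ r j, j + r = k →
    (derivedSeries G j ≤ γ (2 ^ j) → p ^ (2 ^ k + 2 * r + 1) ≤ Nat.card (derivedSeries G j) * p ^ 2 ^ j) ∧
    (derivedSeries G (j + 1) ≤ γ (2 ^ (j + 1)) →
      p ^ (2 ^ k + 2 * r + 1) ≤ Nat.card (derivedSeries G j) * p ^ (2 ^ j + 1)) ∧
    p ^ (2 ^ k + 2 * r + 1) ≤ Nat.card (derivedSeries G j) * p ^ (2 ^ j + 2) := by
  intro r
  induction r with
  | zero =>
    intro j hj
    obtain rfl : j = k := by omega
    have h1 : p ≤ Nat.card (derivedSeries G j) := by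
      have h2 := mul_card_le_of_lt hG (bot_lt_iff_ne_bot.2 hk)
      simpa using h2
    have key : ∀ i, 2 ^ j ≤ i → p ^ (2 ^ j + 2 * 0 + 1) ≤ Nat.card (derivedSeries G j) * p ^ i := by
      intro i hi
      calc p ^ (2 ^ j + 2 * 0 + 1) = p * p ^ 2 ^ j := by rw [mul_zero, add_zero, pow_succ']
        _ ≤ _ := Nat.mul_le_mul h1 (Nat.pow_le_pow_right (Fact.out : p.Prime).pos hi)
    exact ⟨fun _ => key _ le_rfl, fun _ => key _ (by omega), key _ (by omega)⟩
  | succ r ih =>
    intro j hj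
    obtain ⟨i0, i1, i2⟩ := ih (j + 1) (by omega)
    have hne : (⁅derivedSeries G j, derivedSeries G j⁆ : Subgroup G) ≠ ⊥ := by
      intro e
      refine hk (le_bot_iff.1 ((derivedSeries_antitone G (show j + 1 ≤ k by omega)).trans ?_))
      rw [derivedSeries_succ]; exact e.le
    have hsucc : (⁅derivedSeries G j, derivedSeries G j⁆ : Subgroup G) = derivedSeries G (j + 1) :=
      (derivedSeries_succ G j).symm
    have := derivedSeries_normal G j
    have := derivedSeries_normal G (j + 1)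
    have h1j := Nat.one_le_two_pow (n := j)
    have hd := card_drop hG (derived_le_lcs j) hne
    rw [hsucc, show 2 ^ j - 1 + 2 = 2 ^ j + 1 by omega] at hd
    -- combining a drop with a lower bound
    have combine : ∀ d e : ℕ, p ^ d * Nat.card (derivedSeries G (j + 1)) ≤ Nat.card (derivedSeries G j) →
        p ^ (2 ^ k + 2 * r + 1) ≤ Nat.card (derivedSeries G (j + 1)) * p ^ e →
        ∀ f, e + 2 ≤ d + f → p ^ (2 ^ k + 2 * (r + 1) + 1) ≤ Nat.card (derivedSeries G j) * p ^ f := by
      intro d e hde he f hf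
      refine Nat.le_of_mul_le_mul_left ?_ (pow_pos (Fact.out : p.Prime).pos e)
      calc p ^ e * p ^ (2 ^ k + 2 * (r + 1) + 1) = p ^ (2 ^ k + 2 * r + 1) * p ^ (e + 2) := by
            rw [← pow_add, ← pow_add]; congr 1; ring
        _ ≤ (Nat.card (derivedSeries G (j + 1)) * p ^ e) * p ^ (d + f) :=
            Nat.mul_le_mul he (Nat.pow_le_pow_right (Fact.out : p.Prime).pos hf)
        _ = p ^ e * ((p ^ d * Nat.card (derivedSeries G (j + 1))) * p ^ f) := by rw [pow_add]; ring
        _ ≤ _ := Nat.mul_le_mul_left _ (Nat.mul_le_mul_right _ hde)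
    have h2j : 2 ^ (j + 1) = 2 ^ j + 2 ^ j := by rw [pow_succ]; ring
    refine ⟨fun hgood => ?_, fun hgood => ?_, ?_⟩
    · have hd' := card_drop hG hgood hne
      rw [hsucc] at hd'
      refine combine (2 ^ j + 2) (2 ^ (j + 1)) hd' (i0 ?_) _ (by omega)
      rw [← hsucc]
      refine ((Subgroup.commutator_mono hgood hgood).trans
        (commutator_top_lowerCentralSeries_le _ _)).trans
        ((⊤ : Subgroup G).lowerCentralSeries_antitone (by omega))
    · exact combine (2 ^ j + 1) (2 ^ (j + 1)) hd (i0 hgood) _ (by omega)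
    · by_cases hdef : p ^ (2 ^ j + 2) * Nat.card (derivedSeries G (j + 1)) ≤ Nat.card (derivedSeries G j)
      · exact combine (2 ^ j + 2) (2 ^ (j + 1) + 2) hdef i2 _ (by omega)
      · obtain ⟨a, ha, b, hb, hgen⟩ := two_gen_of_deficit hG (derived_le_lcs j) hne
          (by rw [hsucc, show 2 ^ j - 1 + 3 = 2 ^ j + 2 by omega]; omega)
        obtain ⟨c, hc, hcgen⟩ := cyclic_commutator (derived_le_lcs j) ha hb hgen
        rw [hsucc] at hc hcgen
        rw [show 2 * (2 ^ j - 1) + 2 = (2 ^ (j + 1) - 1) + 1 by omega] at hcgen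
        have hgood := commutator_of_cyclic (derived_le_lcs (j + 1)) hc hcgen
        rw [← derivedSeries_succ] at hgood
        have h2j' : 2 ^ (j + 1 + 1) = 2 ^ (j + 1) + 2 ^ (j + 1) := by rw [pow_succ]; ring
        refine combine (2 ^ j + 1) (2 ^ (j + 1) + 1) hd (i1 (hgood.trans ?_)) _ (by omega)
        exact (⊤ : Subgroup G).lowerCentralSeries_antitone (by omega)

theorem mann {n k : ℕ} (hcard : Nat.card G = p ^ n) (hk : derivedSeries G k ≠ ⊥) :
    2 ^ k + 2 * k ≤ n + 2 := by
  obtain ⟨-, -, h⟩ := bounds hG hk k 0 (by omega)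
  rw [derivedSeries_zero, Subgroup.card_top, hcard, pow_zero, ← pow_add] at h
  have := (Nat.pow_le_pow_iff_right (Fact.out : p.Prime).one_lt).1 h
  omega

end Cfsg.Agent.Lib.Fg6.DerivedLengthOrder
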