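/-
A Sylow subgroup as a direct factor.
-/
import Mathlib.GroupTheory.Sylow
import Mathlib.GroupTheory.SchurZassenhaus
import Mathlib.GroupTheory.GroupAction.ConjAct
import Mathlib.Data.Set.Card

set_option autoImplicit false

namespace Cfsg.Agent.Lib.Fg6.DirectSylow

open Subgroup

variable {G : Type*} [Group G] [Finite G] {p : ℕ} [Fact p.Prime]

theorem mem_of_direct (P : Sylow p G) (K : Subgroup G) (hP : (P : Subgroup G).Normal)
    (hK : K.Normal) (hd : (P : Subgroup G) ⊓ K = ⊥) (hs : (P : Subgroup G) ⊔ K = ⊤) (x y : G)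
    (hx : ∃ a : ℕ, orderOf x = p ^ a) (hy : ∃ q b : ℕ, q.Prime ∧ q ≠ p ∧ orderOf y = q ^ b) :
    x ∈ (P : Subgroup G) ∧ y ∈ K ∧ x * y = y * x := by
  obtain ⟨a, ha⟩ := hx
  obtain ⟨q, b, hq, hqp, hb⟩ := hy
  have hc : (P : Subgroup G).IsComplement' K :=
    isComplement'_of_disjoint_and_mul_eq_univ (disjoint_iff.2 hd) (by
      rw [← normal_mul, hs, coe_top])
  have hxP : x ∈ (P : Subgroup G) := by
    haveI := P.unique_of_normal hP
    obtain ⟨P', hP'⟩ := (IsPGroup.of_card (p := p) (G := zpowers x) (n := a)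
      (by rw [Nat.card_zpowers, ha])).exists_le_sylow
    rw [Subsingleton.elim P P']
    exact hP' (mem_zpowers x)
  have hyK : y ∈ K := by
    haveI := hK
    rw [← QuotientGroup.eq_one_iff, ← orderOf_eq_one_iff]
    refine Nat.eq_one_of_dvd_coprimes (a := q ^ b) (b := Nat.card (P : Subgroup G)) ?_
      (hb ▸ orderOf_map_dvd (QuotientGroup.mk' K) y) ?_
    · obtain ⟨k, hk⟩ := P.2.exists_card_eq
      rw [hk]
      exact ((Nat.coprime_primes hq Fact.out).2 hqp).pow _ _
    · rw [← hc.index_eq_card, index_eq_card]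
      exact orderOf_dvd_natCard _
  exact ⟨hxP, hyK, (commute_of_normal_of_disjoint _ _ hP hK (disjoint_iff.2 hd) x y hxP hyK).eq⟩

/-- If `p`-elements commute with `p'`-elements of prime power order, a Sylow subgroup is a
direct factor. -/
theorem direct_of_commute (p : ℕ) [hp : Fact p.Prime]
    (h : ∀ x y : G, (∃ a : ℕ, orderOf x = p ^ a) →
      (∃ q b : ℕ, q.Prime ∧ q ≠ p ∧ orderOf y = q ^ b) → x * y = y * x) :
    ∃ (P : Sylow p G) (K : Subgroup G), (P : Subgroup G).Normal ∧ K.Normal ∧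
      (P : Subgroup G) ⊓ K = ⊥ ∧ (P : Subgroup G) ⊔ K = ⊤ := by
  obtain ⟨P⟩ : Nonempty (Sylow p G) := inferInstance
  set C := centralizer ((P : Subgroup G) : Set G) with hC
  have hqC : ∀ (q : ℕ) [Fact q.Prime], q ≠ p → ∀ Q : Subgroup G, IsPGroup q Q → Q ≤ C := by
    intro q hq hqp Q hQ y hy
    refine mem_centralizer_iff.2 fun x hx => h x y ?_ ⟨q, ?_⟩
    · obtain ⟨a, ha⟩ := IsPGroup.iff_orderOf.1 P.2 ⟨x, hx⟩
      exact ⟨a, by rw [← ha, orderOf_mk]⟩
    · obtain ⟨b, hb⟩ := IsPGroup.iff_orderOf.1 hQ ⟨y, hy⟩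
      exact ⟨b, hq.out, hqp, by rw [← hb, orderOf_mk]⟩
  have hN : normalizer ((P : Subgroup G) : Set G) = ⊤ := by
    rw [← index_eq_one]
    by_contra hne
    obtain ⟨q, hq, hqd⟩ := Nat.exists_prime_and_dvd hne
    haveI := Fact.mk hq
    obtain ⟨Q⟩ : Nonempty (Sylow q G) := inferInstance
    by_cases hqp : q = p
    · subst hqp
      exact P.not_dvd_index (hqd.trans (index_dvd_of_le le_normalizer))
    · exact Q.not_dvd_index (hqd.trans (index_dvd_of_le
        ((hqC q hqp Q Q.2).trans (centralizer_le_normalizer _))))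
  haveI hPn : (P : Subgroup G).Normal := normalizer_eq_top_iff.1 hN
  obtain ⟨K, hK⟩ := exists_right_complement'_of_coprime P.card_coprime_index
  have hKC : K ≤ C := by
    rw [← subgroupOf_eq_top, ← index_eq_one]
    by_contra hne
    obtain ⟨q, hq, hqd⟩ := Nat.exists_prime_and_dvd hne
    haveI := Fact.mk hq
    obtain ⟨Q⟩ : Nonempty (Sylow q K) := inferInstance
    have hqp : q ≠ p := by
      rintro rfl
      refine P.not_dvd_index ?_
      rw [hK.symm.index_eq_card]
      exact hqd.trans (index_dvd_card _)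
    refine Q.not_dvd_index (hqd.trans (index_dvd_of_le fun x hx => ?_))
    exact mem_subgroupOf.2 (hqC q hqp _ (Q.2.map K.subtype) ⟨x, hx, rfl⟩)
  refine ⟨P, K, hPn, ?_, disjoint_iff.1 hK.disjoint, hK.sup_eq_top⟩
  rw [← normalizer_eq_top_iff, eq_top_iff, ← hK.sup_eq_top]
  refine sup_le (fun x hx => centralizer_le_normalizer _ ?_) le_normalizer
  exact mem_centralizer_iff.2 fun y hy => ((mem_centralizer_iff.1 (hKC hy)) x hx).symm

theorem index_of_direct (P : Sylow p G) (K : Subgroup G) (hP : (P : Subgroup G).Normal)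
    (hK : K.Normal) (hd : (P : Subgroup G) ⊓ K = ⊥) (hs : (P : Subgroup G) ⊔ K = ⊤) (x y : G)
    (hx : ∃ a : ℕ, orderOf x = p ^ a) (hy : ∃ q b : ℕ, q.Prime ∧ q ≠ p ∧ orderOf y = q ^ b) :
    (centralizer ({x * y} : Set G)).index =
      (centralizer ({x} : Set G)).index * (centralizer ({y} : Set G)).index := by
  obtain ⟨hxP, hyK, hxy⟩ := mem_of_direct P K hP hK hd hs x y hx hy
  have hcom : ∀ a ∈ (P : Subgroup G), ∀ b ∈ K, a * b = b * a := fun a ha b hb =>
    (commute_of_normal_of_disjoint _ _ hP hK (disjoint_iff.2 hd) a b ha hb).eq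
  have hc : (P : Subgroup G).IsComplement' K :=
    isComplement'_of_disjoint_and_mul_eq_univ (disjoint_iff.2 hd) (by rw [← normal_mul, hs, coe_top])
  have e : centralizer ({x * y} : Set G) = centralizer {x} ⊓ centralizer {y} := by
    refine le_antisymm (fun g hg => ?_) (fun g hg => ?_)
    · rw [mem_centralizer_singleton_iff] at hg
      obtain ⟨⟨a, b⟩, hab, -⟩ := hc.existsUnique g
      simp only at hab
      subst hab
      have h1 : Commute (a : G) y := hcom a a.2 y hyK
      have h2 : Commute x (b : G) := hcom x hxP b b.2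
      have e1 : (a : G) * b * (x * y) = ((a : G) * x) * ((b : G) * y) := h2.symm.mul_mul_mul_comm _ _
      have e2 : x * y * ((a : G) * b) = (x * a) * (y * b) := h1.symm.mul_mul_mul_comm _ _
      rw [e1, e2] at hg
      have := hc.1 (a₁ := (⟨_, mul_mem a.2 hxP⟩, ⟨_, mul_mem b.2 hyK⟩))
        (a₂ := (⟨_, mul_mem hxP a.2⟩, ⟨_, mul_mem hyK b.2⟩)) hg
      have hA : (a : G) * x = x * a := congrArg (fun z => ((z.1 : (P : Subgroup G)) : G)) this
      have hB : (b : G) * y = y * b := congrArg (fun z => ((z.2 : K) : G)) this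
      exact mem_inf.2 ⟨mem_centralizer_singleton_iff.2 (Commute.mul_left hA h2.symm),
        mem_centralizer_singleton_iff.2 (Commute.mul_left h1 hB)⟩
    · rw [mem_inf, mem_centralizer_singleton_iff, mem_centralizer_singleton_iff] at hg
      exact mem_centralizer_singleton_iff.2 (Commute.mul_right hg.1 hg.2)
  rw [e]
  have hxi : (centralizer ({x} : Set G)).index ∣ Nat.card (P : Subgroup G) := by
    rw [← hc.index_eq_card]
    exact index_dvd_of_le fun b hb => mem_centralizer_singleton_iff.2 (hcom x hxP b hb).symm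
  have hyi : (centralizer ({y} : Set G)).index ∣ Nat.card K := by
    rw [← hc.symm.index_eq_card]
    exact index_dvd_of_le fun a ha => mem_centralizer_singleton_iff.2 (hcom a ha y hyK)
  have hcop : Nat.Coprime (centralizer ({x} : Set G)).index (centralizer ({y} : Set G)).index := by
    refine Nat.Coprime.of_dvd hxi hyi ?_
    rw [← hc.symm.index_eq_card]
    exact P.card_coprime_index
  refine Nat.le_antisymm index_inf_le (Nat.le_of_dvd (Nat.pos_of_ne_zero index_ne_zero_of_finite) ?_)
  exact hcop.mul_dvd_of_dvd_of_dvd (index_dvd_of_le inf_le_left) (index_dvd_of_le inf_le_right)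

omit [Fact p.Prime] in
/-- Multiplicativity of class sizes forces commuting. -/
theorem commute_of_index (x y : G)
    (h : (centralizer ({x * y} : Set G)).index =
      (centralizer ({x} : Set G)).index * (centralizer ({y} : Set G)).index) : x * y = y * x := by
  classical
  have hcard : ∀ z : G, (MulAction.orbit (ConjAct G) z).ncard = (centralizer ({z} : Set G)).index := by
    intro z
    rw [← MulAction.index_stabilizer, ConjAct.stabilizer_eq_centralizer]
    rfl
  let f : G × G → G := fun u => u.1 * u.2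
  let A := MulAction.orbit (ConjAct G) x ×ˢ MulAction.orbit (ConjAct G) y
  have hsub : MulAction.orbit (ConjAct G) (x * y) ⊆ f '' A := by
    rintro _ ⟨c, rfl⟩
    exact ⟨(c • x, c • y), ⟨⟨c, rfl⟩, ⟨c, rfl⟩⟩, (smul_mul' c x y).symm⟩
  have hle : A.ncard ≤ (f '' A).ncard := by
    refine le_trans ?_ (Set.ncard_le_ncard hsub)
    rw [hcard, h, ← hcard, ← hcard, Set.ncard_prod]
  have hinj : Set.InjOn f A :=
    Set.injOn_of_ncard_image_eq (le_antisymm (Set.ncard_image_le) hle) (Set.toFinite A)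
  have hmem : ∀ z : G, ConjAct.toConjAct (x * y) • z ∈ MulAction.orbit (ConjAct G) z :=
    fun z => ⟨_, rfl⟩
  have hxy : (ConjAct.toConjAct (x * y) • x, ConjAct.toConjAct (x * y) • y) = (x, y) := by
    refine hinj ⟨hmem x, hmem y⟩ ⟨MulAction.mem_orbit_self x, MulAction.mem_orbit_self y⟩ ?_
    show ConjAct.toConjAct (x * y) • x * ConjAct.toConjAct (x * y) • y = x * y
    rw [← smul_mul', ConjAct.toConjAct_smul, mul_inv_cancel_right]
  have := congrArg Prod.fst hxy
  simp only [ConjAct.toConjAct_smul, mul_inv_eq_iff_eq_mul] at this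
  have h' : x * (y * x) = x * (x * y) := by rw [← mul_assoc, ← mul_assoc, this, mul_assoc]
  exact (mul_left_cancel h').symm

end Cfsg.Agent.Lib.Fg6.DirectSylow
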