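import Mathlib
import Cfsg.Prelude.Def_OddOrderLocal
import Cfsg.Agent.Lib.OddLocal.NarrowAut
import Cfsg.Agent.Lib.OddOrder.SCN

/-!
An element `x` acting on a normal elementary abelian 2-subgroup `M`: the subgroup `D x = [x, M]`,
pairs of conjugates of an element with `|D x| = 4`, and abelian normal subgroups of a Sylow subgroup
normalising `D x`.
-/

set_option autoImplicit false
set_option linter.style.haveILetI false
set_option linter.unusedSectionVars false

namespace Cfsg.Agent.Lib.Fg6.FourGroupConj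

open Subgroup

variable {S : Type*} [Group S] [Finite S] {M : Subgroup S} [M.Normal]
  {hM : Cfsg.IsElementaryAbelian 2 M}

theorem comm_of_mem (hM : Cfsg.IsElementaryAbelian 2 M) {a b : S} (ha : a ∈ M) (hb : b ∈ M) :
    a * b = b * a :=
  congrArg Subtype.val (hM.1.is_comm.comm ⟨a, ha⟩ ⟨b, hb⟩)

/-- `m ↦ [x, m]` on `M`. -/
def delta (hM : Cfsg.IsElementaryAbelian 2 M) (x : S) : M →* S where
  toFun m := x * m * x⁻¹ * (m : S)⁻¹
  map_one' := by simp
  map_mul' a b := by
    have h := comm_of_mem hM (inv_mem a.2)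
      (mul_mem (‹M.Normal›.conj_mem _ b.2 x) (inv_mem b.2))
    rw [Subgroup.coe_mul, mul_assoc (x * a * x⁻¹) ((a : S)⁻¹), h]
    group

/-- The subgroup `[x, M]`. -/
def D (hM : Cfsg.IsElementaryAbelian 2 M) (x : S) : Subgroup S := (delta hM x).range

theorem mem_D {x d : S} : d ∈ D hM x ↔ ∃ m ∈ M, d = x * m * x⁻¹ * m⁻¹ :=
  ⟨fun ⟨m, h⟩ => ⟨m, m.2, h.symm⟩, fun ⟨m, hm, h⟩ => ⟨⟨m, hm⟩, h.symm⟩⟩

theorem D_le (x : S) : D hM x ≤ M := by
  intro d hd
  obtain ⟨m, hm, rfl⟩ := mem_D.1 hd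
  exact mul_mem (‹M.Normal›.conj_mem _ hm x) (inv_mem hm)

theorem conj_eq_of_same {x y : S} (h : x⁻¹ * y ∈ centralizer (M : Set S)) {m : S} (hm : m ∈ M) :
    y * m * y⁻¹ = x * m * x⁻¹ := by
  have h1 := mem_centralizer_iff.1 h m hm
  calc y * m * y⁻¹ = x * ((x⁻¹ * y) * m) * y⁻¹ := by group
    _ = x * (m * (x⁻¹ * y)) * y⁻¹ := by rw [h1]
    _ = _ := by group

theorem D_le_of_same {x y : S} (h : x⁻¹ * y ∈ centralizer (M : Set S)) : D hM y ≤ D hM x := by
  intro d hd
  obtain ⟨m, hm, rfl⟩ := mem_D.1 hd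
  exact mem_D.2 ⟨m, hm, by rw [conj_eq_of_same h hm]⟩

theorem conj_mem_D {x d : S} (g : S) (hd : d ∈ D hM x) : g * d * g⁻¹ ∈ D hM (g * x * g⁻¹) := by
  obtain ⟨m, hm, rfl⟩ := mem_D.1 hd
  exact mem_D.2 ⟨g * m * g⁻¹, ‹M.Normal›.conj_mem _ hm g, by group⟩

theorem card_D_conj (x g : S) : Nat.card (D hM (g * x * g⁻¹)) = Nat.card (D hM x) := by
  refine (Nat.card_congr ?_).symm
  refine
    { toFun := fun d => ⟨g * d * g⁻¹, conj_mem_D g d.2⟩
      invFun := fun d => ⟨g⁻¹ * d * g⁻¹⁻¹, by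
        have := conj_mem_D g⁻¹ d.2
        rwa [show g⁻¹ * (g * x * g⁻¹) * g⁻¹⁻¹ = x by group] at this⟩
      left_inv := fun d => Subtype.ext (by simp [mul_assoc])
      right_inv := fun d => Subtype.ext (by simp [mul_assoc]) }

theorem mem_normalizer_of_forall {V : Subgroup S} {g : S} (h : ∀ v ∈ V, g * v * g⁻¹ ∈ V) :
    g ∈ normalizer (V : Set S) := by
  rw [mem_normalizer_iff_map_conj_eq]
  refine eq_of_le_of_card_ge ?_ (card_map_of_injective (MulAut.conj g).injective).ge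
  rintro _ ⟨v, hv, rfl⟩
  exact h v hv

theorem conj_mem_of_normalizer {V : Subgroup S} {g : S} (hg : g ∈ normalizer (V : Set S)) {v : S}
    (hv : v ∈ V) : g * v * g⁻¹ ∈ V :=
  (mem_normalizer_iff.1 hg v).1 hv

/-- An element normalises every subgroup of `M` containing its commutators. -/
theorem mem_normalizer_of_D_le {x : S} {V : Subgroup S} (hV : V ≤ M) (h : D hM x ≤ V) :
    x ∈ normalizer (V : Set S) := by
  refine mem_normalizer_of_forall fun v hv => ?_
  have := mul_mem (h (mem_D.2 ⟨v, hV hv, rfl⟩)) hv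
  rwa [inv_mul_cancel_right] at this

theorem self_mem_normalizer (x : S) : x ∈ normalizer (D hM x : Set S) :=
  mem_normalizer_of_D_le (D_le x) le_rfl

theorem D_pow_le (x : S) (n : ℕ) : D hM (x ^ n) ≤ D hM x := by
  induction n with
  | zero => intro d hd; obtain ⟨m, hm, rfl⟩ := mem_D.1 hd; simp
  | succ n ih =>
    intro d hd
    obtain ⟨m, hm, rfl⟩ := mem_D.1 hd
    rw [show x ^ (n + 1) * m * (x ^ (n + 1))⁻¹ * m⁻¹ =
      x * (x ^ n * m * (x ^ n)⁻¹ * m⁻¹) * x⁻¹ * (x * m * x⁻¹ * m⁻¹) by rw [pow_succ']; group]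
    exact mul_mem (conj_mem_of_normalizer (self_mem_normalizer x) (ih (mem_D.2 ⟨m, hm, rfl⟩)))
      (mem_D.2 ⟨m, hm, rfl⟩)

theorem commutator_zpowers_eq (x : S) : ⁅zpowers x, M⁆ = D hM x := by
  refine le_antisymm (commutator_le.2 fun y hy m hm => ?_) fun d hd => ?_
  · obtain ⟨n, rfl⟩ := mem_powers_iff_mem_zpowers.2 hy
    exact D_pow_le x n (mem_D.2 ⟨m, hm, by rw [commutatorElement_def]⟩)
  · obtain ⟨m, hm, rfl⟩ := mem_D.1 hd
    rw [← commutatorElement_def]
    exact commutator_mem_commutator (mem_zpowers x) hm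

/-- A commutator fixed by an element of odd order is trivial. -/
theorem eq_one_of_fixed {x d : S} (ho : Odd (orderOf x)) (hd : d ∈ D hM x) (hx : x * d = d * x) :
    d = 1 := by
  have hdM := D_le (hM := hM) x hd
  obtain ⟨m, hm, hdm⟩ := mem_D.1 hd
  have key : ∀ n : ℕ, x ^ n * m * (x ^ n)⁻¹ = d ^ n * m := by
    intro n
    induction n with
    | zero => simp
    | succ n ih =>
      have hc : Commute x (d ^ n) := Commute.pow_right hx n
      calc x ^ (n + 1) * m * (x ^ (n + 1))⁻¹ = x * (x ^ n * m * (x ^ n)⁻¹) * x⁻¹ := by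
            rw [pow_succ']; group
        _ = d ^ n * (x * m * x⁻¹) := by rw [ih, ← mul_assoc x, hc.eq]; group
        _ = d ^ (n + 1) * m := by rw [hdm, pow_succ]; group
  have h1 := key (orderOf x)
  rw [pow_orderOf_eq_one, one_mul, inv_one, mul_one, eq_comm, mul_eq_right] at h1
  obtain ⟨k, hk⟩ := ho
  rw [hk, pow_succ, pow_mul, hM.2 d hdM, one_pow, one_mul] at h1
  exact h1

theorem D_eq_bot_iff {x : S} : D hM x = ⊥ ↔ x ∈ centralizer (M : Set S) := by
  rw [eq_bot_iff, mem_centralizer_iff]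
  constructor
  · intro h m hm
    have := mem_bot.1 (h (mem_D.2 ⟨m, hm, rfl⟩))
    rw [mul_inv_eq_one] at this
    calc m * x = x * m * x⁻¹ * x := by rw [this]
      _ = x * m := by group
  · intro h d hd
    obtain ⟨m, hm, rfl⟩ := mem_D.1 hd
    rw [mem_bot, ← h m hm]; group

/-- An invariant subgroup of `[x, M]` has order congruent to one. -/
theorem card_invariant {x : S} {l : ℕ} [hl : Fact l.Prime] (hxl : x ^ l ∈ centralizer (M : Set S))
    (ho : Odd (orderOf x)) {I : Subgroup S} (hI : I ≤ D hM x) (hIx : x ∈ normalizer (I : Set S)) :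
    Nat.card I % l = 1 := by
  classical
  haveI := Fintype.ofFinite I
  let f : Function.End I := fun d => ⟨x * d * x⁻¹, conj_mem_of_normalizer hIx d.2⟩
  have hpow : ∀ (n : ℕ) (d : I), ((f ^ n) d : S) = x ^ n * d * (x ^ n)⁻¹ := by
    intro n
    induction n with
    | zero => intro d; simp; rfl
    | succ n ih =>
      intro d
      rw [pow_succ']
      show x * ((f ^ n) d : S) * x⁻¹ = _
      rw [ih, pow_succ']; group
  have hf : f ^ l ^ 1 = 1 := by
    funext d
    refine Subtype.ext ?_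
    rw [hpow, pow_one, ← mem_centralizer_iff.1 hxl d (D_le x (hI d.2))]
    show (d : S) * x ^ l * (x ^ l)⁻¹ = d
    group
  have h := Equiv.Perm.card_fixedPoints_modEq hf
  have h1 : Fintype.card (Function.fixedPoints f) = 1 := by
    rw [Fintype.card_eq_one_iff]
    refine ⟨⟨1, Subtype.ext (by simp [f])⟩, fun ⟨d, hd⟩ => ?_⟩
    have h2 : x * (d : S) * x⁻¹ = d := congrArg Subtype.val hd
    refine Subtype.ext (Subtype.ext (eq_one_of_fixed ho (hI d.2) ?_))
    conv_rhs => rw [← h2]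
    group
  rw [h1, ← Nat.card_eq_fintype_card] at h
  rw [h, Nat.mod_eq_of_lt hl.out.one_lt]

/-- Commuting elements with irreducible commutator spaces. -/
theorem eq_or_centralizes {x y : S} {l : ℕ} [Fact l.Prime] (hxl : x ^ l ∈ centralizer (M : Set S))
    (ho : Odd (orderOf x)) (hmin : ∀ n, n ∣ Nat.card (D hM x) → n % l = 1 → n = 1 ∨ n = Nat.card (D hM x))
    (hc : Nat.card (D hM y) = Nat.card (D hM x))
    (hxy : x ∈ normalizer (D hM y : Set S)) (hyx : y ∈ normalizer (D hM x : Set S)) :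
    D hM y = D hM x ∨ ∀ d ∈ D hM x, y * d = d * y := by
  have hI : x ∈ normalizer ((D hM x ⊓ D hM y : Subgroup S) : Set S) :=
    mem_normalizer_of_forall fun v hv =>
      ⟨conj_mem_of_normalizer (self_mem_normalizer x) hv.1, conj_mem_of_normalizer hxy hv.2⟩
  rcases hmin _ (card_dvd_of_le inf_le_left) (card_invariant (hM := hM) hxl ho inf_le_left hI) with h | h
  · right
    intro d hd
    have hmem : y * d * y⁻¹ * d⁻¹ ∈ D hM x ⊓ D hM y :=
      Subgroup.mem_inf.2 ⟨mul_mem (conj_mem_of_normalizer hyx hd) (inv_mem hd), mem_D.2 ⟨d, D_le x hd, rfl⟩⟩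
    rw [eq_bot_of_card_eq _ h, mem_bot, mul_inv_eq_one] at hmem
    calc y * d = y * d * y⁻¹ * y := by group
      _ = d * y := by rw [hmem]
  · left
    have h1 : D hM x ⊓ D hM y = D hM x := eq_of_le_of_card_ge inf_le_left h.ge
    exact (eq_of_le_of_card_ge (inf_eq_left.1 h1) hc.le).symm

/-- An element normalising `[x, M]` when it commutes with `x` modulo the centraliser of `M`. -/
theorem mem_normalizer_of_comm {x g : S} (h : x⁻¹ * (g * x * g⁻¹) ∈ centralizer (M : Set S)) :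
    g ∈ normalizer (D hM x : Set S) :=
  mem_normalizer_of_forall fun _ hv => D_le_of_same h (conj_mem_D g hv)

/-- An abelian normal subgroup of a group containing `t` normalises `[t, M]`. -/
theorem le_normalizer_D {P A : Subgroup S} (hodd : Odd (Nat.card P)) (hAP : A ≤ P)
    (hPA : P ≤ normalizer (A : Set S)) (hAc : IsMulCommutative A) {t : S} (ht : t ∈ P)
    (hne : D hM t ≠ ⊥)
    (hconj : ∀ g ∈ P, D hM (g * t * g⁻¹) = D hM t ∨ ∀ d ∈ D hM t, (g * t * g⁻¹) * d = d * (g * t * g⁻¹)) :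
    A ≤ normalizer (D hM t : Set S) := by
  intro u hu
  have hnorm : ∀ g ∈ P, D hM (g * t * g⁻¹) = D hM t → g ∈ normalizer (D hM t : Set S) :=
    fun g _ h => mem_normalizer_of_forall fun v hv => h ▸ conj_mem_D g hv
  rcases hconj u (hAP hu) with h1 | h1
  · exact hnorm u (hAP hu) h1
  have hu2 : u ^ 2 ∈ P := pow_mem (hAP hu) 2
  rcases hconj (u ^ 2) hu2 with h2 | h2
  · have h3 := hnorm _ hu2 h2
    obtain ⟨k, hk⟩ : Odd (orderOf u) := hodd.of_dvd_nat (P.orderOf_dvd_natCard (hAP hu))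
    have h4 : (u ^ 2) ^ (k + 1) = u := by
      rw [← pow_mul, show 2 * (k + 1) = orderOf u + 1 by omega, pow_succ, pow_orderOf_eq_one, one_mul]
    exact h4 ▸ pow_mem h3 (k + 1)
  exfalso
  apply hne
  rw [eq_bot_iff]
  intro d hd
  have hc : u * t * u⁻¹ * t⁻¹ ∈ A := by
    have := mul_mem hu (conj_mem_of_normalizer (hPA ht) (inv_mem hu))
    rwa [show u * (t * u⁻¹ * t⁻¹) = u * t * u⁻¹ * t⁻¹ by group] at this
  have hcomm : u * (u * t * u⁻¹ * t⁻¹) = (u * t * u⁻¹ * t⁻¹) * u :=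
    congrArg Subtype.val (hAc.is_comm.comm ⟨u, hu⟩ ⟨_, hc⟩)
  have e : u ^ 2 * t * (u ^ 2)⁻¹ = u * t * u⁻¹ * t⁻¹ * (u * t * u⁻¹) := by
    calc u ^ 2 * t * (u ^ 2)⁻¹ = u * (u * t * u⁻¹ * t⁻¹) * (t * u⁻¹) := by rw [pow_two]; group
      _ = _ := by rw [hcomm]; group
  have e' : t⁻¹ = (u * t * u⁻¹)⁻¹ * (u ^ 2 * t * (u ^ 2)⁻¹) * (u * t * u⁻¹)⁻¹ := by
    rw [e]; group
  have hcd : Commute t⁻¹ d := by
    rw [e']
    exact (((show Commute _ d from h1 d hd).inv_left).mul_left (h2 d hd)).mul_left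
      ((show Commute _ d from h1 d hd).inv_left)
  rw [mem_bot]
  exact eq_one_of_fixed (hodd.of_dvd_nat (P.orderOf_dvd_natCard ht)) hd
    ((Commute.inv_left_iff.1 hcd))

/-- An elementary abelian `r`-group acting on a subgroup of order at most `r + 1`. -/
theorem card_inf_centralizer {r : ℕ} (hr : r.Prime) {U V : Subgroup S}
    (hU : Cfsg.IsElementaryAbelian r U) (hU3 : Nat.card U = r ^ 3)
    (hUV : U ≤ normalizer (V : Set S)) (hV : Nat.card V ≤ r + 1) :
    r ^ 2 ≤ Nat.card (U ⊓ centralizer (V : Set S) : Subgroup S) := by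
  classical
  haveI : Fact r.Prime := ⟨hr⟩
  by_cases hall : U ≤ centralizer (V : Set S)
  · rw [inf_eq_left.2 hall, hU3]; exact Nat.pow_le_pow_right hr.pos (by norm_num)
  obtain ⟨u0, hu0, v, hv, huv⟩ : ∃ u0 ∈ U, ∃ v ∈ V, v * u0 ≠ u0 * v := by
    by_contra h
    push Not at h
    exact hall fun u hu => mem_centralizer_iff.2 fun v hv => h u hu v hv
  set C : Subgroup S := U ⊓ centralizer {v} with hC
  let f : U ⧸ C.subgroupOf U → {w : V // w ≠ 1} := Quotient.lift
    (fun u => ⟨⟨(u : S) * v * (u : S)⁻¹, conj_mem_of_normalizer (hUV u.2) hv⟩, fun h => huv (by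
      have h1 : (u : S) * v * (u : S)⁻¹ = 1 := congrArg Subtype.val h
      rw [mul_inv_eq_one, mul_eq_left] at h1
      rw [h1, one_mul, mul_one])⟩) (by
      intro a b hab
      have hab' : ((a⁻¹ * b : U) : S) * v = v * ((a⁻¹ * b : U) : S) :=
        mem_centralizer_singleton_iff.1 (mem_subgroupOf.1 ((QuotientGroup.leftRel_apply).1 hab)).2
      refine Subtype.ext (Subtype.ext ?_)
      show (a : S) * v * (a : S)⁻¹ = (b : S) * v * (b : S)⁻¹
      push_cast at hab'
      calc (a : S) * v * (a : S)⁻¹ = a * (v * ((a : S)⁻¹ * b)) * (b : S)⁻¹ := by group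
        _ = _ := by rw [← hab']; group)
  have hfi : Function.Injective f := by
    intro a b hab
    induction a using QuotientGroup.induction_on with | H a => ?_
    induction b using QuotientGroup.induction_on with | H b => ?_
    have h1 : (a : S) * v * (a : S)⁻¹ = (b : S) * v * (b : S)⁻¹ :=
      congrArg (fun w : {w : V // w ≠ 1} => ((w : V) : S)) hab
    rw [QuotientGroup.eq, mem_subgroupOf]
    refine Subgroup.mem_inf.2 ⟨mul_mem (inv_mem a.2) b.2, mem_centralizer_singleton_iff.2 ?_⟩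
    push_cast
    calc (a : S)⁻¹ * b * v = (a : S)⁻¹ * ((b : S) * v * (b : S)⁻¹) * b := by group
      _ = _ := by rw [← h1]; group
  have hcard : Nat.card {w : V // w ≠ 1} ≤ r := by
    haveI := Fintype.ofFinite V
    rw [Nat.card_eq_fintype_card, Fintype.card_subtype_compl, Fintype.card_subtype_eq,
      ← Nat.card_eq_fintype_card]
    omega
  have hidx : (C.subgroupOf U).index ≤ Nat.card {w : V // w ≠ 1} :=
    Nat.card_le_card_of_injective f hfi
  have hCcard : Nat.card C * (C.subgroupOf U).index = r ^ 3 := by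
    rw [← hU3, ← Nat.card_congr (subgroupOfEquivOfLe (inf_le_left : C ≤ U)).toEquiv]
    exact Subgroup.card_mul_index _
  obtain ⟨i, hi, hieq⟩ := (Nat.dvd_prime_pow hr).1 ⟨_, ((mul_comm _ _).trans hCcard).symm⟩
  have hne1 : (C.subgroupOf U).index ≠ 1 := by
    rw [Ne, index_eq_one]
    intro h
    have h1 : (⟨u0, hu0⟩ : U) ∈ C.subgroupOf U := h ▸ mem_top _
    exact huv (mem_centralizer_singleton_iff.1 (mem_subgroupOf.1 h1).2).symm
  have hi1 : i = 1 := by
    rcases Nat.lt_trichotomy i 1 with h | h | h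
    · interval_cases i; rw [pow_zero] at hieq; exact absurd hieq hne1
    · exact h
    · have : r ^ 2 ≤ r ^ i := Nat.pow_le_pow_right hr.pos h
      have h4 := hr.two_le
      nlinarith [hidx, hcard, hieq]
  rw [hi1, pow_one] at hieq
  have hsurj : Function.Surjective f := by
    refine (hfi.bijective_of_nat_card_le ?_).2
    show _ ≤ (C.subgroupOf U).index
    rw [hieq]; exact hcard
  have hfix : C ≤ centralizer (V : Set S) := by
    intro c hc
    rw [mem_centralizer_iff]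
    intro w hw
    by_cases hw1 : w = 1
    · subst hw1; simp
    obtain ⟨a, ha⟩ := hsurj ⟨⟨w, hw⟩, fun h => hw1 (congrArg Subtype.val h)⟩
    induction a using QuotientGroup.induction_on with | H a => ?_
    obtain rfl : (a : S) * v * (a : S)⁻¹ = w :=
      congrArg (fun w : {w : V // w ≠ 1} => ((w : V) : S)) ha
    have h1 : Commute c (a : S) := congrArg Subtype.val (hU.1.is_comm.comm ⟨c, hc.1⟩ a)
    have h2 : Commute c v := mem_centralizer_singleton_iff.1 hc.2
    exact ((h1.mul_right h2).mul_right h1.inv_right).eq.symm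
  refine le_trans ?_ (card_le_of_le (le_inf inf_le_left hfix : C ≤ U ⊓ centralizer (V : Set S)))
  rw [hieq] at hCcard
  exact le_of_eq (Nat.eq_of_mul_eq_mul_right hr.pos (by rw [hCcard]; ring)).symm

/-- The automorphism group of an elementary abelian group of order `p ^ k`. -/
theorem card_mulAut_dvd {p : ℕ} [hp : Fact p.Prime] {Q : Type*} [CommGroup Q] [Finite Q]
    (hexp : ∀ q : Q, q ^ p = 1) {k : ℕ} (hcard : Nat.card Q = p ^ k) :
    Nat.card (MulAut Q) ∣ Nat.card (GL (Fin k) (ZMod p)) := by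
  haveI : Module (ZMod p) (Additive Q) := AddCommGroup.zmodModule fun x => by
    exact congrArg Additive.ofMul (hexp x.toMul)
  haveI : Module.Finite (ZMod p) (Additive Q) := Module.Finite.of_finite
  have hc : Nat.card (Additive Q) = Nat.card (ZMod p) ^ Module.finrank (ZMod p) (Additive Q) :=
    Module.natCard_eq_pow_finrank
  rw [show Nat.card (Additive Q) = Nat.card Q from rfl, hcard, Nat.card_zmod] at hc
  let b := Module.finBasisOfFinrankEq (ZMod p) (Additive Q)
    (Nat.pow_right_injective hp.out.two_le hc).symm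
  let e : MulAut Q →* Module.End (ZMod p) (Additive Q) :=
    { toFun := fun φ => AddMonoidHom.toZModLinearMap p
        (MonoidHom.toAdditive (φ.toMonoidHom : Q →* Q))
      map_one' := by ext x; rfl
      map_mul' := fun φ ψ => by ext x; rfl }
  have he : Function.Injective e := fun φ ψ h =>
    MulEquiv.ext fun x => LinearMap.congr_fun h (Additive.ofMul x)
  let E : MulAut Q →* Matrix (Fin k) (Fin k) (ZMod p) :=
    (LinearMap.toMatrixAlgEquiv b).toMulEquiv.toMonoidHom.comp e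
  exact Subgroup.card_dvd_of_injective E.toHomUnits fun φ ψ h => he
    ((LinearMap.toMatrixAlgEquiv b).injective (congrArg Units.val h))

/-- The image of a group of odd order generated by two elements, acting on the sum of their
commutator spaces. -/
theorem exists_action (hM : Cfsg.IsElementaryAbelian 2 M) (x y : S)
    (hodd : ∀ g ∈ closure ({x, y} : Set S), Odd (orderOf g)) :
    ∃ (X : Subgroup S) (φ : closure ({x, y} : Set S) →* MulAut X) (k : ℕ),
      D hM x ≤ X ∧ D hM y ≤ X ∧ X ≤ M ∧ Nat.card X = 2 ^ k ∧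
      Nat.card X ≤ Nat.card (D hM x) * Nat.card (D hM y) ∧
      (∀ g, φ g = 1 ↔ (g : S) ∈ centralizer (M : Set S)) ∧
      Nat.card φ.range ∣ Nat.card (GL (Fin k) (ZMod 2)) ∧
      (∀ g ∈ closure ({x, y} : Set S), D hM g ≤ X) := by
  set G := closure ({x, y} : Set S)
  set X := D hM x ⊔ D hM y with hX
  have hXM : X ≤ M := sup_le (D_le x) (D_le y)
  have hall : ∀ g ∈ G, g ∈ normalizer (X : Set S) ∧ D hM g ≤ X := by
    intro g hg
    induction hg using closure_induction with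
    | mem z hz =>
      rcases hz with rfl | rfl
      · exact ⟨mem_normalizer_of_D_le hXM le_sup_left, le_sup_left⟩
      · exact ⟨mem_normalizer_of_D_le hXM le_sup_right, le_sup_right⟩
    | one => exact ⟨one_mem _, fun d hd => by obtain ⟨m, hm, rfl⟩ := mem_D.1 hd; simp⟩
    | mul a b _ _ ha hb =>
      refine ⟨mul_mem ha.1 hb.1, fun d hd => ?_⟩
      obtain ⟨m, hm, rfl⟩ := mem_D.1 hd
      rw [show a * b * m * (a * b)⁻¹ * m⁻¹ = a * (b * m * b⁻¹ * m⁻¹) * a⁻¹ * (a * m * a⁻¹ * m⁻¹) by group]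
      exact mul_mem (conj_mem_of_normalizer ha.1 (hb.2 (mem_D.2 ⟨m, hm, rfl⟩)))
        (ha.2 (mem_D.2 ⟨m, hm, rfl⟩))
    | inv a _ ha =>
      refine ⟨inv_mem ha.1, fun d hd => ?_⟩
      obtain ⟨m, hm, rfl⟩ := mem_D.1 hd
      have := conj_mem_of_normalizer (inv_mem ha.1) (inv_mem (ha.2 (mem_D.2 ⟨m, hm, rfl⟩)))
      rwa [show a⁻¹ * (a * m * a⁻¹ * m⁻¹)⁻¹ * a⁻¹⁻¹ = a⁻¹ * m * a⁻¹⁻¹ * m⁻¹ by group] at this
  let φ : G →* MulAut X :=
    (Subgroup.normalizerMonoidHom X).comp (inclusion fun g hg => (hall g hg).1)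
  letI : CommGroup X :=
    { (inferInstance : Group X) with
      mul_comm := fun a b => Subtype.ext (comm_of_mem hM (hXM a.2) (hXM b.2)) }
  have hexp : ∀ q : X, q ^ 2 = 1 := fun q => Subtype.ext (hM.2 q (hXM q.2))
  obtain ⟨k, hk⟩ : ∃ k, Nat.card X = 2 ^ k := IsPGroup.iff_card.1 fun q => ⟨1, by rw [pow_one]; exact hexp q⟩
  refine ⟨X, φ, k, le_sup_left, le_sup_right, hXM, hk, ?_, fun g => ⟨fun hg => ?_, fun hg => ?_⟩,
    (Subgroup.card_subgroup_dvd_card φ.range).trans (card_mulAut_dvd hexp hk), fun g hg => (hall g hg).2⟩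
  · have hcomm : ∀ (a : D hM x) (b : D hM y), Commute ((D hM x).subtype a) ((D hM y).subtype b) :=
      fun a b => comm_of_mem hM (D_le x a.2) (D_le y b.2)
    let f := MonoidHom.noncommCoprod (D hM x).subtype (D hM y).subtype hcomm
    have hr : f.range = X := by
      rw [MonoidHom.noncommCoprod_range, range_subtype, range_subtype]
    rw [← hr, ← Nat.card_prod]
    exact Nat.card_le_card_of_surjective f.rangeRestrict f.rangeRestrict_surjective
  · have hfix : ∀ d ∈ X, (g : S) * d * (g : S)⁻¹ = d := fun d hd =>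
      congrArg Subtype.val (DFunLike.congr_fun hg (⟨d, hd⟩ : X))
    refine (D_eq_bot_iff (hM := hM)).1 (eq_bot_iff.2 fun d hd => mem_bot.2
      (eq_one_of_fixed (hM := hM) (hodd g g.2) hd ?_))
    conv_rhs => rw [← hfix d ((hall g g.2).2 hd)]
    group
  · ext d : 1
    refine Subtype.ext ?_
    show (g : S) * d * (g : S)⁻¹ = d
    rw [← mem_centralizer_iff.1 hg d (hXM d.2)]
    group

theorem comm_mem_centralizer_of_commute {G : Subgroup S} {H : Type*} [Group H] (φ : G →* H)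
    (hker : ∀ g, φ g = 1 ↔ (g : S) ∈ centralizer (M : Set S)) {x y : S} (hx : x ∈ G) (hy : y ∈ G)
    (hc : φ ⟨x, hx⟩ * φ ⟨y, hy⟩ = φ ⟨y, hy⟩ * φ ⟨x, hx⟩) :
    x⁻¹ * (y * x * y⁻¹) ∈ centralizer (M : Set S) := by
  have h := (hker (⟨x, hx⟩⁻¹ * (⟨y, hy⟩ * ⟨x, hx⟩ * ⟨y, hy⟩⁻¹))).1 (by
    simp only [map_mul, map_inv]; rw [← hc]; group)
  simpa using h

/-- A group whose order divides 45 is commutative. -/
theorem commute_of_card_dvd_45 {H : Type*} [Group H] [Finite H] (h : Nat.card H ∣ 45) (a b : H) :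
    a * b = b * a := by
  haveI : Fact (Nat.Prime 3) := ⟨Nat.prime_three⟩
  haveI : Fact (Nat.Prime 5) := ⟨by norm_num⟩
  have hpos : 0 < Nat.card H := Nat.card_pos
  obtain ⟨P⟩ : Nonempty (Sylow 3 H) := inferInstance
  obtain ⟨Q⟩ : Nonempty (Sylow 5 H) := inferInstance
  have hP := P.card_eq_multiplicity
  have hQ := Q.card_eq_multiplicity
  have key : ∀ {p : ℕ} [Fact p.Prime] (R : Sylow p H), (∀ n, n ∣ 45 → n % p = 1 → ¬ p ∣ n → n ∣ 45 / p → n = 1) →
      p ∣ Nat.card H → (R : Subgroup H).Normal := by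
    intro p _ R hn hd
    have h1 : Nat.card (Sylow p H) ∣ 45 := (R.card_dvd_index.trans (Subgroup.index_dvd_card _)).trans h
    have h2 : Nat.card (Sylow p H) % p = 1 := by
      rw [card_sylow_modEq_one p H, Nat.mod_eq_of_lt (Fact.out : p.Prime).one_lt]
    have h3 : ¬ p ∣ Nat.card (Sylow p H) := fun h3 => by rw [Nat.mod_eq_zero_of_dvd h3] at h2; exact zero_ne_one h2
    have h4 : Nat.card (Sylow p H) ∣ 45 / p := by
      refine Nat.Coprime.dvd_of_dvd_mul_left (m := p) ?_ ?_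
      · exact ((Nat.Prime.coprime_iff_not_dvd Fact.out).2 h3).symm
      · rwa [Nat.mul_div_cancel' (hd.trans h)]
    haveI : Subsingleton (Sylow p H) := (Nat.card_eq_one_iff_unique.1 (hn _ h1 h2 h3 h4)).1
    exact R.normal_of_subsingleton
  have hPn : (P : Subgroup H).Normal := by
    by_cases hd : 3 ∣ Nat.card H
    · refine key P (fun n hn h1 h2 h3 => ?_) hd
      have := Nat.le_of_dvd (by norm_num) hn
      interval_cases n <;> first | rfl | omega
    · rw [show (P : Subgroup H) = ⊥ from eq_bot_of_card_eq _ (by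
        rw [hP, Nat.factorization_eq_zero_of_not_dvd hd, pow_zero])]
      infer_instance
  have hQn : (Q : Subgroup H).Normal := by
    by_cases hd : 5 ∣ Nat.card H
    · refine key Q (fun n hn h1 h2 h3 => ?_) hd
      have := Nat.le_of_dvd (by norm_num) hn
      interval_cases n <;> first | rfl | omega
    · rw [show (Q : Subgroup H) = ⊥ from eq_bot_of_card_eq _ (by
        rw [hQ, Nat.factorization_eq_zero_of_not_dvd hd, pow_zero])]
      infer_instance
  have hidP : (P : Subgroup H).index ∣ 5 := by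
    have h1 : (P : Subgroup H).index ∣ 45 := (Subgroup.index_dvd_card _).trans h
    refine Nat.Coprime.dvd_of_dvd_mul_left (m := 3 ^ 2) ?_ (by simpa using h1)
    exact ((Nat.Prime.coprime_iff_not_dvd Nat.prime_three).2 P.not_dvd_index).symm.pow_right 2
  have hidQ : (Q : Subgroup H).index ∣ 9 := by
    have h1 : (Q : Subgroup H).index ∣ 45 := (Subgroup.index_dvd_card _).trans h
    refine Nat.Coprime.dvd_of_dvd_mul_left (m := 5) ?_ (by simpa using h1)
    exact ((Nat.Prime.coprime_iff_not_dvd (by norm_num : Nat.Prime 5)).2 Q.not_dvd_index).symm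
  have cP : ∀ u v : H ⧸ (P : Subgroup H), u * v = v * u := by
    rcases (Nat.dvd_prime (by norm_num : Nat.Prime 5)).1 hidP with h1 | h1
    · haveI : Subsingleton (H ⧸ (P : Subgroup H)) := (Nat.card_eq_one_iff_unique.1 h1).1
      exact fun u v => Subsingleton.elim _ _
    · haveI := isCyclic_of_prime_card (p := 5) (show Nat.card (H ⧸ (P : Subgroup H)) = 5 from h1)
      exact fun u v => (IsCyclic.isMulCommutative).is_comm.comm u v
  have cQ : ∀ u v : H ⧸ (Q : Subgroup H), u * v = v * u := by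
    obtain ⟨i, hi, he⟩ := (Nat.dvd_prime_pow Nat.prime_three (m := 2)).1 hidQ
    interval_cases i
    · haveI : Subsingleton (H ⧸ (Q : Subgroup H)) := (Nat.card_eq_one_iff_unique.1 he).1
      exact fun u v => Subsingleton.elim _ _
    · haveI := isCyclic_of_prime_card (p := 3) (show Nat.card (H ⧸ (Q : Subgroup H)) = 3 from he)
      exact fun u v => (IsCyclic.isMulCommutative).is_comm.comm u v
    · exact IsPGroup.commutative_of_card_eq_prime_sq (p := 3) he
  have h1 : a * b * a⁻¹ * b⁻¹ ∈ (P : Subgroup H) := by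
    rw [← QuotientGroup.eq_one_iff]; simp only [QuotientGroup.mk_mul, QuotientGroup.mk_inv]; rw [cP (a : H ⧸ (P : Subgroup H)) b]; group
  have h2 : a * b * a⁻¹ * b⁻¹ ∈ (Q : Subgroup H) := by
    rw [← QuotientGroup.eq_one_iff]; simp only [QuotientGroup.mk_mul, QuotientGroup.mk_inv]; rw [cQ (a : H ⧸ (Q : Subgroup H)) b]; group
  have hcop : Nat.Coprime (Nat.card (P : Subgroup H)) (Nat.card (Q : Subgroup H)) := by
    rw [hP, hQ]; exact Nat.Coprime.pow _ _ (by norm_num)
  have h3 := (Subgroup.inf_eq_bot_of_coprime hcop).le ⟨h1, h2⟩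
  rw [mem_bot, mul_inv_eq_one, mul_inv_eq_iff_eq_mul] at h3
  exact h3

theorem odd_part_dvd {n : ℕ} (hn : Odd n) {k : ℕ} (hk : k ≤ 4) (h : n ∣ Nat.card (GL (Fin k) (ZMod 2))) :
    n ∣ 315 := by
  haveI : Fact (Nat.Prime 2) := ⟨Nat.prime_two⟩
  have h1 : n ∣ 2 ^ 6 * 315 := by
    refine h.trans ?_
    rw [Matrix.card_GL_field, ZMod.card]
    interval_cases k <;> decide
  exact Nat.Coprime.dvd_of_dvd_mul_left ((Nat.coprime_two_right.2 hn).pow_right 6) h1

/-- Pairs of conjugates of an element with commutator space of order four. -/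
theorem pair_four (hM : Cfsg.IsElementaryAbelian 2 M) {p : ℕ} {x y : S} {T : Subgroup S}
    (hTodd : Odd (Nat.card T)) (hT : ∀ r : ℕ, r.Prime → r ∣ Nat.card T → r = 3 ∨ r = p)
    (hx : x ∈ T) (hy : y ∈ T) (hxc : Nat.card (D hM x) = 4) (hyc : Nat.card (D hM y) = 4) :
    x⁻¹ * (y * x * y⁻¹) ∈ centralizer (M : Set S) ∨
      (p = 7 ∧ ∃ t ∈ T, t ^ 7 ∈ centralizer (M : Set S) ∧ Nat.card (D hM t) = 8 ∧ D hM x ≤ D hM t) := by
  have hGT : closure ({x, y} : Set S) ≤ T := (closure_le T).2 fun z hz => by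
    rcases hz with rfl | rfl <;> assumption
  have hodd : ∀ g ∈ closure ({x, y} : Set S), Odd (orderOf g) := fun g hg =>
    hTodd.of_dvd_nat (T.orderOf_dvd_natCard (hGT hg))
  obtain ⟨X, φ, k, hxX, hyX, hXM, hk, hle, hker, hdvd, hDX⟩ := exists_action hM x y hodd
  rw [hxc, hyc] at hle
  have hk4 : k ≤ 4 := (Nat.pow_le_pow_iff_right (a := 2) one_lt_two).1 (by rw [← hk]; exact hle)
  have hRT : Nat.card φ.range ∣ Nat.card T :=
    (Subgroup.card_range_dvd φ).trans (card_dvd_of_le hGT)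
  have h315 := odd_part_dvd (hTodd.of_dvd_nat hRT) hk4 hdvd
  have hxG : x ∈ closure ({x, y} : Set S) := subset_closure (Or.inl rfl)
  have hyG : y ∈ closure ({x, y} : Set S) := subset_closure (Or.inr rfl)
  haveI h7' : Fact (Nat.Prime 7) := ⟨by norm_num⟩
  by_cases h7 : 7 ∣ Nat.card φ.range
  swap
  · left
    have h45 : Nat.card φ.range ∣ 45 :=
      Nat.Coprime.dvd_of_dvd_mul_left (m := 7)
        ((Nat.Prime.coprime_iff_not_dvd (by norm_num)).2 h7).symm h315
    exact comm_mem_centralizer_of_commute φ hker hxG hyG (congrArg Subtype.val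
      (commute_of_card_dvd_45 h45 ⟨_, ⟨_, rfl⟩⟩ ⟨_, ⟨_, rfl⟩⟩))
  right
  have hp7 : p = 7 := ((hT 7 (by norm_num) (h7.trans hRT)).resolve_left (by norm_num)).symm
  have h63 : Nat.card φ.range ∣ 63 := by
    refine Nat.Coprime.dvd_of_dvd_mul_left (m := 5) ?_ h315
    refine ((Nat.Prime.coprime_iff_not_dvd (by norm_num)).2 fun h5 => ?_).symm
    rcases hT 5 (by norm_num) (h5.trans hRT) with h | h <;> omega
  obtain ⟨⟨_, t, rfl⟩, hto⟩ := exists_prime_orderOf_dvd_card' (G := φ.range) 7 h7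
  rw [← Subgroup.orderOf_coe] at hto
  replace hto : orderOf (φ t) = 7 := hto
  -- the Sylow 7-subgroup of the image is normal
  obtain ⟨R, hR⟩ := IsPGroup.exists_le_sylow (p := 7) (P := zpowers (⟨φ t, t, rfl⟩ : φ.range))
    (IsPGroup.of_card (n := 1) (by rw [Nat.card_zpowers, ← Subgroup.orderOf_coe, hto, pow_one]))
  have hR7 : Nat.card (R : Subgroup φ.range) = 7 := by
    obtain ⟨i, hi⟩ := IsPGroup.iff_card.1 R.2
    have h1 : 7 ^ i ∣ 63 := hi ▸ (Subgroup.card_subgroup_dvd_card _).trans h63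
    have h2 : 7 ≤ 7 ^ i := by
      rw [← hi]
      exact le_trans (by rw [Nat.card_zpowers, ← Subgroup.orderOf_coe, hto]) (card_le_of_le hR)
    rcases i with _ | _ | i
    · norm_num at h2
    · rw [hi]; norm_num
    · exact absurd ((pow_dvd_pow 7 (by omega : 2 ≤ i + 1 + 1)).trans h1) (by norm_num)
  haveI hsub : Subsingleton (Sylow 7 φ.range) := by
    refine (Nat.card_eq_one_iff_unique.1 ?_).1
    have h1 : Nat.card (Sylow 7 φ.range) ∣ 63 :=
      (R.card_dvd_index.trans (Subgroup.index_dvd_card _)).trans h63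
    have h2 : Nat.card (Sylow 7 φ.range) % 7 = 1 := by rw [card_sylow_modEq_one 7 φ.range]
    have h3 : Nat.card (Sylow 7 φ.range) ∣ 9 := by
      refine Nat.Coprime.dvd_of_dvd_mul_left (m := 7) ?_ h1
      exact ((Nat.Prime.coprime_iff_not_dvd (by norm_num)).2 fun h => by omega).symm
    obtain ⟨i, hi, he⟩ := (Nat.dvd_prime_pow Nat.prime_three (m := 2)).1 h3
    interval_cases i <;> omega
  haveI hRn : (R : Subgroup φ.range).Normal := R.normal_of_subsingleton
  have hRz : (R : Subgroup φ.range) = zpowers (⟨φ t, t, rfl⟩ : φ.range) :=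
    (eq_of_le_of_card_ge hR (by rw [hR7, Nat.card_zpowers, ← Subgroup.orderOf_coe, hto])).symm
  have hconj : ∀ g : closure ({x, y} : Set S), ∃ i : ℕ,
      ((t : S) ^ i)⁻¹ * ((g : S) * t * (g : S)⁻¹) ∈ centralizer (M : Set S) := by
    intro g
    have h1 := hRn.conj_mem _ (hRz ▸ mem_zpowers (⟨φ t, t, rfl⟩ : φ.range)) ⟨φ g, g, rfl⟩
    rw [hRz] at h1
    obtain ⟨i, hi⟩ := mem_powers_iff_mem_zpowers.2 h1
    have h2 : φ t ^ i = φ g * φ t * (φ g)⁻¹ := congrArg Subtype.val hi
    refine ⟨i, ?_⟩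
    have h3 := (hker ((t ^ i)⁻¹ * (g * t * g⁻¹))).1 (by
      simp only [map_mul, map_inv, map_pow, h2]; group)
    simpa using h3
  set V := D hM (t : S) with hV
  have hGV : ∀ g ∈ closure ({x, y} : Set S), g ∈ normalizer (V : Set S) := by
    intro g hg
    obtain ⟨i, hi⟩ := hconj ⟨g, hg⟩
    exact mem_normalizer_of_forall fun v hv => D_pow_le _ i (D_le_of_same hi (conj_mem_D g hv))
  have ht7 : (t : S) ^ 7 ∈ centralizer (M : Set S) := by
    have := (hker (t ^ 7)).1 (by rw [map_pow, ← hto, pow_orderOf_eq_one])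
    simpa using this
  have htodd : Odd (orderOf (t : S)) := hodd _ t.2
  have hVX : V ≤ X := hDX _ t.2
  have hV8 : Nat.card V = 8 := by
    obtain ⟨i, hi, he⟩ := (Nat.dvd_prime_pow Nat.prime_two).1 (hk ▸ card_dvd_of_le hVX)
    have h1 := card_invariant (hM := hM) (l := 7) ht7 htodd (le_refl V) (self_mem_normalizer _)
    have hne : V ≠ ⊥ := fun h => by
      have := (hker t).2 (D_eq_bot_iff.1 h)
      rw [this, orderOf_one] at hto
      norm_num at hto
    have hi4 : i ≤ 4 := hi.trans hk4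
    rw [he] at h1 ⊢
    have hi0 : i ≠ 0 := fun h => hne (eq_bot_of_card_eq _ (by rw [he, h, pow_zero]))
    interval_cases i <;> first | rfl | omega
  refine ⟨hp7, t, hGT t.2, ht7, hV8, ?_⟩
  set W : Subgroup S := X ⊓ centralizer {(t : S)} with hW
  have hW2 : Nat.card W ≤ 2 := by
    have hdis : V ⊓ W = ⊥ := eq_bot_iff.2 fun d hd => mem_bot.2
      (eq_one_of_fixed (hM := hM) htodd hd.1 (mem_centralizer_singleton_iff.1 hd.2.2).symm)
    let f : V × W → X := fun w => ⟨w.1 * w.2, mul_mem (hVX w.1.2) w.2.2.1⟩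
    have hf : Function.Injective f := by
      rintro ⟨a, b⟩ ⟨c, d⟩ h
      have h1 : (a : S) * b = c * d := congrArg Subtype.val h
      have h2 : (c : S)⁻¹ * a = d * (b : S)⁻¹ := by
        rw [inv_mul_eq_iff_eq_mul, ← mul_assoc, eq_mul_inv_iff_mul_eq]; exact h1
      have h3 : (c : S)⁻¹ * a ∈ V ⊓ W :=
        Subgroup.mem_inf.2 ⟨mul_mem (inv_mem c.2) a.2, h2 ▸ mul_mem d.2 (inv_mem b.2)⟩
      rw [hdis, mem_bot] at h3
      have h4 := h3
      rw [inv_mul_eq_one] at h4
      rw [h3, eq_comm, mul_inv_eq_one] at h2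
      exact Prod.ext (Subtype.ext h4.symm) (Subtype.ext h2.symm)
    have h8 := Nat.card_le_card_of_injective f hf
    rw [Nat.card_prod, hV8] at h8
    omega
  -- `x` centralises the fixed points of `t`
  have hCfix : ∀ m ∈ M, (t : S) * m = m * t → x * m * x⁻¹ * m⁻¹ = 1 := by
    intro m hm htm
    have hstab : ∀ m ∈ M, (t : S) * m = m * t → (t : S) * (x * m * x⁻¹) = x * m * x⁻¹ * t := by
      intro m hm htm
      obtain ⟨i, hi⟩ := hconj ⟨x⁻¹, inv_mem hxG⟩
      have h1 := conj_eq_of_same hi hm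
      have h2 : Commute ((t : S) ^ i) m := Commute.pow_left htm i
      rw [h2.eq, mul_inv_cancel_right] at h1
      calc (t : S) * (x * m * x⁻¹) = x * ((x⁻¹ * t * x⁻¹⁻¹) * m * (x⁻¹ * t * x⁻¹⁻¹)⁻¹) * x⁻¹ * t := by group
        _ = _ := by rw [h1]
    set z := x * m * x⁻¹ * m⁻¹ with hz
    have hzD : z ∈ D hM x := mem_D.2 ⟨m, hm, rfl⟩
    have hzW : ∀ w, w ∈ D hM x → (t : S) * w = w * t → w ∈ W := fun w hw h =>
      ⟨hxX hw, mem_centralizer_singleton_iff.2 h.symm⟩
    have hzt : Commute (t : S) z :=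
      (show Commute (t : S) (x * m * x⁻¹) from hstab m hm htm).mul_right (show Commute (t : S) m from htm).inv_right
    by_contra hz1
    have hxz : x * z * x⁻¹ ∈ W := hzW _ (conj_mem_of_normalizer (self_mem_normalizer x) hzD)
      (hstab z (D_le x hzD) hzt.eq)
    have hzW' : z ∈ W := hzW z hzD hzt.eq
    haveI := Fintype.ofFinite W
    have huniq : x * z * x⁻¹ = z := by
      by_contra hne
      have hx1 : x * z * x⁻¹ ≠ 1 := fun h => hz1 (by rwa [mul_inv_eq_one, mul_eq_left] at h)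
      have hi : Function.Injective (![1, ⟨z, hzW'⟩, ⟨_, hxz⟩] : Fin 3 → W) := by
        intro a b hab
        have := congrArg Subtype.val hab
        fin_cases a <;> fin_cases b <;>
          simp [hz1, hx1, hne, Ne.symm hz1, Ne.symm hx1, Ne.symm hne] at this ⊢
      have := Nat.card_le_card_of_injective _ hi
      rw [Nat.card_fin] at this
      omega
    exact hz1 (eq_one_of_fixed (hM := hM) (hodd x hxG) hzD (by
      calc x * z = x * z * x⁻¹ * x := by group
        _ = z * x := by rw [huniq]))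
  intro d hd
  obtain ⟨m, hm, rfl⟩ := mem_D.1 hd
  -- `m` splits
  let dl : V → V := fun v => ⟨(t : S) * v * (t : S)⁻¹ * (v : S)⁻¹, mem_D.2 ⟨v, D_le _ v.2, rfl⟩⟩
  have hinj : Function.Injective dl := by
    intro a b h
    have h1 : (delta hM (t : S)) ⟨a, D_le _ a.2⟩ = (delta hM (t : S)) ⟨b, D_le _ b.2⟩ :=
      congrArg Subtype.val h
    rw [← inv_mul_eq_one, ← map_inv, ← map_mul] at h1
    have h2 : (t : S) * ((a : S)⁻¹ * b) * (t : S)⁻¹ * ((a : S)⁻¹ * b)⁻¹ = 1 := h1
    rw [mul_inv_eq_one] at h2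
    have h3 := eq_one_of_fixed (hM := hM) htodd (mul_mem (inv_mem a.2) b.2) (by
      calc (t : S) * ((a : S)⁻¹ * b) = t * ((a : S)⁻¹ * b) * (t : S)⁻¹ * t := by group
        _ = _ := by rw [h2])
    exact Subtype.ext (inv_mul_eq_one.1 h3)
  obtain ⟨v, hv⟩ := (hinj.bijective_of_nat_card_le le_rfl).2 ⟨_, mem_D.2 ⟨m, hm, rfl⟩⟩
  have hv' : (delta hM (t : S)) ⟨v, D_le _ v.2⟩ = (delta hM (t : S)) ⟨m, hm⟩ := congrArg Subtype.val hv
  rw [← inv_mul_eq_one, ← map_inv, ← map_mul] at hv'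
  have hc : (t : S) * ((v : S)⁻¹ * m) = (v : S)⁻¹ * m * t := by
    have h2 : (t : S) * ((v : S)⁻¹ * m) * (t : S)⁻¹ * ((v : S)⁻¹ * m)⁻¹ = 1 := hv'
    rw [mul_inv_eq_one] at h2
    calc _ = (t : S) * ((v : S)⁻¹ * m) * (t : S)⁻¹ * t := by group
      _ = _ := by rw [h2]
  have h1 := hCfix _ (mul_mem (inv_mem (D_le _ v.2)) hm) hc
  rw [mul_inv_eq_one] at h1
  have h2 : x * m * x⁻¹ * m⁻¹ = x * v * x⁻¹ * (v : S)⁻¹ := by
    calc x * m * x⁻¹ * m⁻¹ = x * v * x⁻¹ * (x * ((v : S)⁻¹ * m) * x⁻¹) * m⁻¹ := by group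
      _ = _ := by rw [h1]; group
  rw [h2]
  exact mul_mem (conj_mem_of_normalizer (hGV x hxG) v.2) (inv_mem v.2)

/-- Two conjugate elements of a 7-group with commutator space of order eight commute modulo the
centraliser of `M`. -/
theorem pair_eight (hM : Cfsg.IsElementaryAbelian 2 M) {x y : S} {P : Subgroup S}
    (hP : IsPGroup 7 P) (hx : x ∈ P) (hy : y ∈ P) (hxc : Nat.card (D hM x) = 8)
    (hyc : Nat.card (D hM y) = 8) : x⁻¹ * (y * x * y⁻¹) ∈ centralizer (M : Set S) := by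
  haveI h7 : Fact (Nat.Prime 7) := ⟨by norm_num⟩
  haveI : Fact (Nat.Prime 2) := ⟨Nat.prime_two⟩
  obtain ⟨n, hn⟩ := IsPGroup.iff_card.1 hP
  have hPodd : Odd (Nat.card P) := by rw [hn]; exact Odd.pow (by decide)
  have hGP : closure ({x, y} : Set S) ≤ P := (closure_le P).2 fun z hz => by
    rcases hz with rfl | rfl <;> assumption
  obtain ⟨X, φ, k, -, -, -, hk, hle, hker, hdvd, -⟩ := exists_action hM x y
    fun g hg => hPodd.of_dvd_nat (P.orderOf_dvd_natCard (hGP hg))
  rw [hxc, hyc] at hle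
  have hk6 : k ≤ 6 := (Nat.pow_le_pow_iff_right (a := 2) one_lt_two).1 (by rw [← hk]; exact hle)
  have hR : Nat.card φ.range ∣ 7 ^ n := hn ▸ (Subgroup.card_range_dvd φ).trans (card_dvd_of_le hGP)
  obtain ⟨i, -, hi⟩ := (Nat.dvd_prime_pow h7.out).1 hR
  have hi2 : i ≤ 2 := by
    by_contra hlt
    have h1 : 7 ^ 3 ∣ Nat.card (GL (Fin k) (ZMod 2)) :=
      (pow_dvd_pow 7 (by omega : 3 ≤ i)).trans (hi ▸ hdvd)
    rw [Matrix.card_GL_field, ZMod.card] at h1
    interval_cases k <;> revert h1 <;> decide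
  refine comm_mem_centralizer_of_commute φ hker (subset_closure (Or.inl rfl))
    (subset_closure (Or.inr rfl)) ?_
  have key : ∀ a b : φ.range, a * b = b * a := by
    interval_cases i
    · haveI : Subsingleton φ.range := (Nat.card_eq_one_iff_unique.1 hi).1
      exact fun a b => Subsingleton.elim _ _
    · haveI := isCyclic_of_prime_card (p := 7) (hi.trans (pow_one 7))
      exact fun a b => (IsCyclic.isMulCommutative).is_comm.comm a b
    · exact IsPGroup.commutative_of_card_eq_prime_sq (p := 7) hi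
  exact congrArg Subtype.val (key ⟨_, ⟨_, rfl⟩⟩ ⟨_, ⟨_, rfl⟩⟩)

end Cfsg.Agent.Lib.Fg6.FourGroupConj
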