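/-
Stem extensions of a group generated by an element and a second one inverting it.
-/
import Cfsg.Agent.Lib.Multiplier.Basic
import Mathlib.GroupTheory.SpecificGroups.Quaternion
import Mathlib.GroupTheory.SpecificGroups.Dihedral
import Mathlib.Data.ZMod.Basic

set_option autoImplicit false

namespace Cfsg.Agent.Lib.Fg6.InvertedExt

open Subgroup
open scoped commutatorElement

variable {G : Type*} [Group G]

/-- If generators together with the centre generate and the generators commute modulo `N`,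
the derived subgroup lies in `N`. -/
theorem commutator_le_of_generators (N : Subgroup G) [N.Normal] (S : Set G)
    (htop : closure S ⊔ center G = ⊤) (h : ∀ s ∈ S, ∀ t ∈ S, ⁅s, t⁆ ∈ N) :
    commutator G ≤ N := by
  have hS : ∀ s ∈ S, ∀ g : G, ⁅g, s⁆ ∈ N := by
    intro s hs g
    let K : Subgroup G := (centralizer {QuotientGroup.mk' N s}).comap (QuotientGroup.mk' N)
    have hK : ∀ g : G, g ∈ K ↔ ⁅g, s⁆ ∈ N := fun g => by
      rw [mem_comap, mem_centralizer_singleton_iff, ← QuotientGroup.eq_one_iff (N := N),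
        ← QuotientGroup.mk'_apply, map_commutatorElement, commutatorElement_eq_one_iff_mul_comm]
    have : K = ⊤ := by
      rw [eq_top_iff, ← htop, sup_le_iff, closure_le]
      refine ⟨fun t ht => (hK t).2 (h t ht s hs), fun z hz => (hK z).2 ?_⟩
      rw [show ⁅z, s⁆ = 1 from
        commutatorElement_eq_one_iff_mul_comm.2 (mem_center_iff.1 hz s).symm]
      exact one_mem _
    exact (hK g).1 (this ▸ mem_top g)
  rw [_root_.commutator_def, commutator_le]
  intro g _ k _
  let K : Subgroup G := (centralizer {QuotientGroup.mk' N g}).comap (QuotientGroup.mk' N)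
  have hK : ∀ k : G, k ∈ K ↔ ⁅g, k⁆ ∈ N := fun k => by
    rw [mem_comap, mem_centralizer_singleton_iff, ← QuotientGroup.eq_one_iff (N := N),
      ← QuotientGroup.mk'_apply, map_commutatorElement, commutatorElement_eq_one_iff_mul_comm]
    exact eq_comm
  have : K = ⊤ := by
    rw [eq_top_iff, ← htop, sup_le_iff, closure_le]
    refine ⟨fun t ht => (hK t).2 (hS t ht g), fun z hz => (hK z).2 ?_⟩
    rw [show ⁅g, z⁆ = 1 from
      commutatorElement_eq_one_iff_mul_comm.2 (mem_center_iff.1 hz g)]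
    exact one_mem _
  exact (hK k).1 (this ▸ mem_top k)

/-- A cyclic subgroup normalised by generators is normal. -/
theorem normal_zpowers_of_generators (c : G) (S : Set G)
    (htop : closure S ⊔ center G = ⊤)
    (h : ∀ s ∈ S, s * c * s⁻¹ = c ∨ s * c * s⁻¹ = c⁻¹) : (zpowers c).Normal := by
  rw [← normalizer_eq_top_iff, eq_top_iff, ← htop, sup_le_iff, closure_le]
  refine ⟨fun s hs => ?_, Subgroup.center_le_normalizer _⟩
  rw [SetLike.mem_coe, mem_normalizer_iff_map_conj_eq, MonoidHom.map_zpowers]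
  show zpowers (s * c * s⁻¹) = zpowers c
  rcases h s hs with h | h <;> rw [h]
  exact zpowers_inv

/-- Kernel of a stem extension of a group generated by `σ a`, `σ x` with `x` inverting `a`:
if the order of `σ a` is `m`, the kernel consists of powers `c ^ k` with `m ∣ 2 k`,
where `c` is killed by `n`. -/
theorem exists_generator_ker {Q : Type*} [Group Q] {σ : G →* Q} (hσ : IsStemExtension σ)
    (a x : G) (hgen : closure ({σ a, σ x} : Set Q) = ⊤)
    (hinv : σ x * σ a * (σ x)⁻¹ = (σ a)⁻¹) (hsq : Commute (σ x * σ x) (σ a))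
    (n : ℕ) (hn : Commute (a ^ n) x) :
    ∃ c : G, σ c = ((σ a)⁻¹) ^ 2 ∧ c ^ n = 1 ∧ σ.ker ≤ zpowers c := by
  obtain ⟨-, hcen, hcom⟩ := hσ
  let z : G := a * (x * a * x⁻¹)
  have hzker : z ∈ σ.ker := by
    simp only [z, MonoidHom.mem_ker, map_mul, map_inv, hinv, mul_inv_cancel]
  have hz : ∀ g, g * z = z * g := mem_center_iff.1 (hcen hzker)
  have hxa : x * a * x⁻¹ = a⁻¹ * z := by simp [z]
  clear_value z
  have hza : Commute z a⁻¹ := (hz a⁻¹).symm
  let c : G := (a⁻¹) ^ 2 * z
  have htop : closure ({a, x} : Set G) ⊔ center G = ⊤ := by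
    rw [eq_top_iff]
    refine le_trans ?_ (sup_le_sup_left hcen _)
    rw [← comap_map_eq, MonoidHom.map_closure, Set.image_pair, hgen, comap_top]
  have hac : a * c * a⁻¹ = c := by
    have : Commute a c := ((Commute.refl a).inv_right.pow_right 2).mul_right (hz a)
    rw [this.eq, mul_inv_cancel_right]
  have hxz : x * z * x⁻¹ = z := by rw [hz x, mul_inv_cancel_right]
  have hxc : x * c * x⁻¹ = c⁻¹ := by
    have h1 : x * c * x⁻¹ = ((x * a * x⁻¹)⁻¹) ^ 2 * (x * z * x⁻¹) := by
      simp only [c, pow_two]; group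
    rw [h1, hxa, hxz]
    have hzi : Commute z⁻¹ a := Commute.inv_left (show Commute z a from (hz a).symm)
    have : (a⁻¹ * z)⁻¹ = a * z⁻¹ := by rw [mul_inv_rev, inv_inv, hzi.eq]
    rw [this, hzi.symm.mul_pow]
    simp only [c]
    rw [mul_inv_rev, ← inv_pow, inv_inv, mul_assoc, pow_two z⁻¹, inv_mul_cancel_right]
    exact (hzi.pow_right 2).symm.eq
  haveI hN : (zpowers c).Normal := normal_zpowers_of_generators c _ htop fun s hs => by
    rcases hs with rfl | rfl
    · exact Or.inl hac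
    · exact Or.inr hxc
  have hcc : ⁅x, a⁆ ∈ zpowers c := by
    have : ⁅x, a⁆ = c := by
      rw [commutatorElement_def, hxa]
      show a⁻¹ * z * a⁻¹ = (a⁻¹) ^ 2 * z
      rw [mul_assoc, hza.eq, ← mul_assoc, ← pow_two]
    rw [this]; exact mem_zpowers c
  have hle : commutator G ≤ zpowers c := commutator_le_of_generators _ _ htop (by
    rintro s (rfl | rfl) t (rfl | rfl)
    · simp
    · rw [← commutatorElement_inv]; exact inv_mem hcc
    · exact hcc
    · simp)
  refine ⟨c, ?_, ?_, hcom.trans hle⟩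
  · simp only [c, map_mul, map_pow, map_inv, MonoidHom.mem_ker.1 hzker, mul_one]
  · have h1 : x * a ^ n * x⁻¹ = (a⁻¹) ^ n * z ^ n := by
      rw [← conj_pow, hxa, hza.symm.mul_pow]
    rw [← hn.eq, mul_inv_cancel_right] at h1
    show ((a⁻¹) ^ 2 * z) ^ n = 1
    rw [(hza.symm.pow_left 2).mul_pow, ← pow_mul, mul_comm 2 n, pow_mul, pow_two, mul_assoc,
      ← h1, inv_pow, inv_mul_cancel]

theorem orderOf_dvd_two_mul {Q : Type*} [Group Q] {σ : G →* Q} {c : G} {α : Q}
    (hc : σ c = (α⁻¹) ^ 2) {k : ℤ} (hk : c ^ k ∈ σ.ker) : (orderOf α : ℤ) ∣ 2 * k := by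
  rw [orderOf_dvd_iff_zpow_eq_one]
  rw [MonoidHom.mem_ker, map_zpow, hc, ← zpow_natCast, ← zpow_mul, inv_zpow, inv_eq_one] at hk
  exact hk

theorem closure_quaternion {n : ℕ} [NeZero n] :
    closure ({QuaternionGroup.a 1, QuaternionGroup.xa 0} : Set (QuaternionGroup n)) = ⊤ := by
  rw [eq_top_iff]
  intro g _
  have ha : ∀ i : ZMod (2 * n), QuaternionGroup.a i ∈
      closure ({QuaternionGroup.a 1, QuaternionGroup.xa 0} : Set (QuaternionGroup n)) := by
    intro i
    obtain ⟨k, rfl⟩ := ZMod.natCast_zmod_surjective i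
    rw [← QuaternionGroup.a_one_pow]
    exact pow_mem (subset_closure (by simp)) k
  cases g with
  | a i => exact ha i
  | xa i =>
    have := mul_mem (subset_closure (k := {QuaternionGroup.a 1, QuaternionGroup.xa 0})
      (show QuaternionGroup.xa (0 : ZMod (2 * n)) ∈ _ by simp)) (ha i)
    simpa using this

theorem closure_dihedral {n : ℕ} [NeZero n] :
    closure ({DihedralGroup.r 1, DihedralGroup.sr 0} : Set (DihedralGroup n)) = ⊤ := by
  rw [eq_top_iff]
  intro g _
  have ha : ∀ i : ZMod n, DihedralGroup.r i ∈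
      closure ({DihedralGroup.r 1, DihedralGroup.sr 0} : Set (DihedralGroup n)) := by
    intro i
    obtain ⟨k, rfl⟩ := ZMod.natCast_zmod_surjective i
    rw [← DihedralGroup.r_one_pow]
    exact pow_mem (subset_closure (by simp)) k
  cases g with
  | r i => exact ha i
  | sr i =>
    have := mul_mem (subset_closure (k := {DihedralGroup.r 1, DihedralGroup.sr 0})
      (show DihedralGroup.sr (0 : ZMod n) ∈ _ by simp)) (ha i)
    simpa using this

/-- Stem extensions of the dihedral group: kernel inside `zpowers c`, `c ^ n = 1`. -/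
theorem ker_dihedral {n : ℕ} [NeZero n] {σ : G →* DihedralGroup n} (hσ : IsStemExtension σ) :
    ∃ c : G, c ^ n = 1 ∧ σ.ker ≤ zpowers c ∧ ∀ k : ℤ, c ^ k ∈ σ.ker → (n : ℤ) ∣ 2 * k := by
  obtain ⟨a, ha⟩ := hσ.1 (DihedralGroup.r 1)
  obtain ⟨x, hx⟩ := hσ.1 (DihedralGroup.sr 0)
  have hker : a ^ n ∈ σ.ker := by
    rw [MonoidHom.mem_ker, map_pow, ha, DihedralGroup.r_one_pow_n]
  obtain ⟨c, hc, hcn, hle⟩ := exists_generator_ker hσ a x (by rw [ha, hx]; exact closure_dihedral)
    (by rw [ha, hx, DihedralGroup.inv_r, DihedralGroup.inv_sr]; simp)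
    (by rw [ha, hx]; simp [Commute, SemiconjBy])
    n ((mem_center_iff.1 (hσ.2.1 hker) x).symm)
  refine ⟨c, hcn, hle, fun k hk => ?_⟩
  have := orderOf_dvd_two_mul hc hk
  rwa [ha, DihedralGroup.orderOf_r_one] at this

/-- Stem extensions of the dicyclic group are injective. -/
theorem ker_quaternion {n : ℕ} [NeZero n] {σ : G →* QuaternionGroup n}
    (hσ : IsStemExtension σ) : σ.ker = ⊥ := by
  obtain ⟨a, ha⟩ := hσ.1 (QuaternionGroup.a 1)
  obtain ⟨x, hx⟩ := hσ.1 (QuaternionGroup.xa 0)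
  have hker : (x ^ 2)⁻¹ * a ^ n ∈ σ.ker := by
    rw [MonoidHom.mem_ker, map_mul, map_inv, map_pow, map_pow, ha, hx, QuaternionGroup.xa_sq,
      QuaternionGroup.a_one_pow, inv_mul_cancel]
  have hnx : Commute (a ^ n) x := by
    have : a ^ n = x ^ 2 * ((x ^ 2)⁻¹ * a ^ n) := by group
    rw [this]
    exact ((Commute.refl x).pow_left 2).mul_left (mem_center_iff.1 (hσ.2.1 hker) x).symm
  obtain ⟨c, hc, hcn, hle⟩ := exists_generator_ker hσ a x (by rw [ha, hx]; exact closure_quaternion)
    (by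
      rw [ha, hx, mul_inv_eq_iff_eq_mul]
      have : (QuaternionGroup.a (1 : ZMod (2 * n)))⁻¹ = QuaternionGroup.a (-1) :=
        inv_eq_of_mul_eq_one_right (by simp)
      rw [this]; simp)
    (by rw [ha, hx]; simp [Commute, SemiconjBy, add_comm])
    n hnx
  rw [eq_bot_iff]
  intro g hg
  obtain ⟨k, rfl⟩ := mem_zpowers_iff.1 (hle hg)
  have := orderOf_dvd_two_mul hc hg
  rw [ha, QuaternionGroup.orderOf_a_one] at this
  push_cast at this
  obtain ⟨j, rfl⟩ := Int.dvd_of_mul_dvd_mul_left (by norm_num) this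
  rw [mem_bot, zpow_mul, zpow_natCast, hcn, one_zpow]

end Cfsg.Agent.Lib.Fg6.InvertedExt
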