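/-
Coprime elements normalising a p-subgroup with few generators.
-/
import Cfsg.Agent.Lib.PGroups.Frattini
import Cfsg.Agent.Lib.Coprime.Commutator
import Mathlib.GroupTheory.Schreier
import Mathlib.GroupTheory.PGroup

set_option autoImplicit false
set_option linter.style.haveILetI false

namespace Cfsg.Agent.Lib.Fg6.RankComplement

open Subgroup

variable {G : Type*} [Group G] [Finite G] {p : ℕ} [hp : Fact p.Prime]

/-- An element of `q`-power order normalising a `p`-subgroup on `d` generators centralises it,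
when `q` divides none of `p ^ i - 1`, `1 ≤ i ≤ d`. -/
theorem mem_centralizer_of_rank_le {Q : Subgroup G} (hQ : IsPGroup p Q) {d : ℕ}
    (hd : Group.rank Q ≤ d) {x : G} (hx : x ∈ normalizer (Q : Set G)) {q k : ℕ} (hq : q.Prime)
    (hqp : q ≠ p) (hord : orderOf x = q ^ k) (hnd : ∀ i, 1 ≤ i → i ≤ d → ¬ q ∣ p ^ i - 1) :
    x ∈ centralizer (Q : Set G) := by
  haveI := Fact.mk hq
  let φ : MulAut Q := Q.normalizerMonoidHom ⟨x, hx⟩
  have hφΦ : (frattini Q).map φ.toMonoidHom = frattini Q :=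
    Subgroup.characteristic_iff_map_eq.1 inferInstance φ
  let ψ : MulAut (Q ⧸ frattini Q) := QuotientGroup.congr _ _ φ hφΦ
  have hψ : ∀ y : Q, ψ (y : Q ⧸ frattini Q) = ((φ y : Q) : Q ⧸ frattini Q) := fun y => rfl
  have hiter : ∀ (n : ℕ) (y : Q), (ψ ^ n) (y : Q ⧸ frattini Q) = (((φ ^ n) y : Q) : Q ⧸ frattini Q) := by
    intro n
    induction n with
    | zero => intro y; rfl
    | succ n ih => intro y; rw [pow_succ, pow_succ, MulAut.mul_apply, MulAut.mul_apply, hψ, ih]
  have hφk : φ ^ (q ^ k) = 1 := by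
    show (Q.normalizerMonoidHom ⟨x, hx⟩) ^ (q ^ k) = 1
    rw [← map_pow, show (⟨x, hx⟩ : normalizer (Q : Set G)) ^ (q ^ k) = 1 from
      Subtype.ext (by rw [SubmonoidClass.coe_pow, ← hord, pow_orderOf_eq_one]; rfl), map_one]
  have hψk : ψ ^ (q ^ k) = 1 := by
    apply MulEquiv.ext
    intro v
    induction v using QuotientGroup.induction_on with
    | H y => rw [hiter, hφk]; rfl
  have hA : IsPGroup q (zpowers ψ) := by
    obtain ⟨j, -, hj⟩ := (Nat.dvd_prime_pow hq).1 (orderOf_dvd_of_pow_eq_one hψk)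
    exact IsPGroup.of_card (n := j) (by rw [Nat.card_zpowers, hj])
  -- the fixed points
  let F : Subgroup (Q ⧸ frattini Q) := (ψ.toMonoidHom).eqLocus (MonoidHom.id _)
  have hfix : MulAction.fixedPoints (zpowers ψ) (Q ⧸ frattini Q) = (F : Set (Q ⧸ frattini Q)) := by
    ext v
    rw [MulAction.mem_fixedPoints]
    refine ⟨fun h => h ⟨ψ, mem_zpowers ψ⟩, fun h a => ?_⟩
    have : zpowers ψ ≤ MulAction.stabilizer (MulAut (Q ⧸ frattini Q)) v := zpowers_le.2 h
    exact this a.2
  have hV : IsPGroup p (Q ⧸ frattini Q) := hQ.to_quotient _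
  obtain ⟨e, he⟩ := hV.exists_card_eq
  have hed : e ≤ d := by
    have hcomm : ∀ a b : Q ⧸ frattini Q, a * b = b * a :=
      (Subgroup.Normal.quotient_commutative_iff_commutator_le.2
        (Lib.PGroups.commutator_le_frattini (p := p) hQ)).is_comm.comm
    letI : CommGroup (Q ⧸ frattini Q) :=
      { (inferInstance : Group (Q ⧸ frattini Q)) with mul_comm := hcomm }
    have h1 := card_dvd_exponent_pow_rank' (Q ⧸ frattini Q) (n := p) fun v => by
      induction v using QuotientGroup.induction_on with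
      | H y => exact (QuotientGroup.eq_one_iff _).2 (Lib.PGroups.pow_mem_frattini hQ y)
    rw [he] at h1
    refine ((Nat.pow_dvd_pow_iff_le_right hp.out.one_lt).1 h1).trans ?_
    exact (Group.rank_le_of_surjective (QuotientGroup.mk' (frattini Q))
      (QuotientGroup.mk'_surjective _)).trans hd
  obtain ⟨f, hf⟩ := (hV.to_subgroup F).exists_card_eq
  have hmod := hA.card_modEq_card_fixedPoints (Q ⧸ frattini Q)
  rw [hfix, show Nat.card (F : Set (Q ⧸ frattini Q)) = p ^ f from hf, he] at hmod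
  have hfe : f ≤ e := (Nat.pow_dvd_pow_iff_le_right hp.out.one_lt).1
    (by rw [← hf, ← he]; exact card_subgroup_dvd_card F)
  have hef : f = e := by
    by_contra hne
    have h1 : q ∣ p ^ f * (p ^ (e - f) - 1) := by
      rw [Nat.mul_sub, mul_one, ← pow_add, Nat.add_sub_cancel' hfe]
      exact (Nat.modEq_iff_dvd' (Nat.pow_le_pow_right hp.out.pos hfe)).1 hmod.symm
    rcases hq.dvd_mul.1 h1 with h2 | h2
    · exact hqp ((Nat.prime_dvd_prime_iff_eq hq hp.out).1 (hq.dvd_of_dvd_pow h2))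
    · exact hnd (e - f) (by omega) (by omega) h2
  have hF : F = ⊤ := eq_top_of_card_eq F (by rw [hf, he, hef])
  refine (Lib.Coprime.le_centralizer_of_frattini (A := zpowers x) (K := Q)
    (zpowers_le.2 hx) ?_ fun a ha y hy => ?_) (mem_zpowers x)
  · rw [Nat.card_zpowers, hord]
    obtain ⟨j, hj⟩ := (hQ.to_subgroup (frattini Q)).exists_card_eq
    rw [hj]
    exact ((Nat.coprime_primes hq hp.out).2 hqp).pow _ _
  · obtain ⟨n, rfl⟩ : ∃ n : ℕ, x ^ n = a :=
      (isOfFinOrder_of_finite x).mem_powers_iff_mem_zpowers.2 ha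
    have hfixall : ∀ v, ψ v = v := fun v => (hF ▸ mem_top v : v ∈ F)
    have hφy : (ψ ^ n) ((⟨y, hy⟩ : Q) : Q ⧸ frattini Q) = ((⟨y, hy⟩ : Q) : Q ⧸ frattini Q) := by
      have : ∀ m : ℕ, ∀ v, (ψ ^ m) v = v := fun m => by
        induction m with
        | zero => intro v; rfl
        | succ m ih => intro v; rw [pow_succ, MulAut.mul_apply, hfixall, ih]
      exact this n _
    rw [hiter, ← map_pow, eq_comm, QuotientGroup.eq] at hφy
    have hnorm : (frattini Q).Normal := inferInstance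
    have hmem := hnorm.conj_mem _ hφy ⟨y, hy⟩
    refine ⟨_, hmem, ?_⟩
    show y * (y⁻¹ * (x ^ n * y * (x ^ n)⁻¹)) * y⁻¹ = _
    group

/-- Version for arbitrary elements of order prime to `p`. -/
theorem mem_centralizer_of_coprime {Q : Subgroup G} (hQ : IsPGroup p Q) {d : ℕ}
    (hd : Group.rank Q ≤ d) {x : G} (hx : x ∈ normalizer (Q : Set G))
    (hord : (orderOf x).Coprime p)
    (hnd : ∀ q, q.Prime → q ∣ orderOf x → ∀ i, 1 ≤ i → i ≤ d → ¬ q ∣ p ^ i - 1) :
    x ∈ centralizer (Q : Set G) := by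
  refine (?_ : zpowers x ≤ centralizer (Q : Set G)) (mem_zpowers x)
  rw [← subgroupOf_eq_top, ← index_eq_one]
  by_contra hne
  obtain ⟨q, hq, hqd⟩ := Nat.exists_prime_and_dvd hne
  haveI := Fact.mk hq
  obtain ⟨S⟩ : Nonempty (Sylow q (zpowers x)) := inferInstance
  have hqx : q ∣ orderOf x := by
    rw [← Nat.card_zpowers]
    exact hqd.trans (index_dvd_card _)
  refine S.not_dvd_index (hqd.trans (index_dvd_of_le fun y hy => ?_))
  obtain ⟨k, hk⟩ := IsPGroup.iff_orderOf.1 S.2 ⟨y, hy⟩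
  rw [orderOf_mk] at hk
  refine mem_subgroupOf.2 (mem_centralizer_of_rank_le hQ hd (zpowers_le.2 hx y.2) hq ?_
    (by rw [orderOf_coe, hk]) (hnd q hq hqx))
  rintro rfl
  exact hq.not_dvd_one (hord ▸ Nat.dvd_gcd hqx dvd_rfl)

/-- A group with a cyclic subgroup of index at most two needs at most two generators. -/
theorem rank_le_two_of_cyclic {H : Type*} [Group H] [Finite H] (C : Subgroup H) [IsCyclic C]
    (hC : C.index ≤ 2) : Group.rank H ≤ 2 := by
  classical
  obtain ⟨⟨c, hc⟩, hgen⟩ := IsCyclic.exists_generator (α := C)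
  have hCc : C ≤ zpowers c := fun y hy => by
    obtain ⟨i, hi⟩ := mem_zpowers_iff.1 (hgen ⟨y, hy⟩)
    exact mem_zpowers_iff.2 ⟨i, congrArg Subtype.val hi⟩
  by_cases htop : C = ⊤
  · refine (Group.rank_le (S := {c}) ?_).trans (by simp)
    rw [Finset.coe_singleton, ← zpowers_eq_closure, eq_top_iff, ← htop]
    exact hCc
  obtain ⟨u, -, hu⟩ := SetLike.exists_of_lt (lt_top_iff_ne_top.2 htop)
  have h2 : C.index = 2 := by
    have := index_eq_one.not.2 htop
    have := index_ne_zero_of_finite (H := C)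
    omega
  refine (Group.rank_le (S := {c, u}) ?_).trans Finset.card_le_two
  rw [eq_top_iff, Finset.coe_pair]
  intro y _
  by_cases hy : y ∈ C
  · exact (zpowers_le.2 (subset_closure (Set.mem_insert c _))) (hCc hy)
  · have h3 : y * u ∈ C := (mul_mem_iff_of_index_two h2).2 (by simp [hy, hu])
    have h4 : y = y * u * u⁻¹ := by group
    rw [h4]
    exact mul_mem ((zpowers_le.2 (subset_closure (Set.mem_insert c _))) (hCc h3))
      (inv_mem (subset_closure (Set.mem_insert_of_mem c rfl)))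

end Cfsg.Agent.Lib.Fg6.RankComplement
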