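/-
Groups with the same order type: element counts above a threshold, and solvability.
-/
import Cfsg.Agent.Lib.Fg6.RankComplement
import Cfsg.Agent.Lib.Coprime.Conjugacy
import Cfsg.Agent.Lib.Induced.Burnside
import Mathlib.GroupTheory.SchurZassenhaus
import Mathlib.GroupTheory.Solvable
import Mathlib.GroupTheory.Nilpotent
import Mathlib.Tactic.NormNum.Prime

set_option autoImplicit false
set_option linter.style.haveILetI false

namespace Cfsg.Agent.Lib.Fg6.OrderType

open Subgroup

universe u v

/-- All prime divisors of the order are at least `t`. -/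
def Upper {G : Type*} [Group G] (t : ℕ) (x : G) : Prop :=
  ∀ q : ℕ, q.Prime → q ∣ orderOf x → t ≤ q

/-- For every threshold `t ≥ a` the number of upper elements is the upper part of the group order. -/
def TowerCount (a : ℕ) (G : Type*) [Group G] : Prop :=
  ∀ t : ℕ, a ≤ t → ∃ m : ℕ, Nat.card {x : G // Upper t x} * m = Nat.card G ∧
    (∀ q : ℕ, q.Prime → q ∣ Nat.card {x : G // Upper t x} → t ≤ q) ∧
    ∀ q : ℕ, q.Prime → q ∣ m → q < t

/-- An equivalence preserving element orders, from equality of the order types. -/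
theorem exists_equiv {G : Type u} {H : Type v} [Group G] [Finite G] [Group H] [Finite H]
    (hT : ∀ m : ℕ, Nat.card {g : G // orderOf g = m} = Nat.card {h : H // orderOf h = m}) :
    ∃ e : G ≃ H, ∀ g, orderOf (e g) = orderOf g := by
  have hfib : ∀ m : ℕ, Nonempty ({g : G // orderOf g = m} ≃ {h : H // orderOf h = m}) :=
    fun m => Finite.card_eq.1 (hT m)
  exact ⟨Equiv.ofFiberEquiv fun m => (hfib m).some,
    fun g => Equiv.ofFiberEquiv_map (fun m => (hfib m).some) g⟩

theorem card_eq_of_equiv {G : Type u} {H : Type v} [Group G] [Group H] (e : G ≃ H)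
    (he : ∀ g, orderOf (e g) = orderOf g) (P : ℕ → Prop) :
    Nat.card {g : G // P (orderOf g)} = Nat.card {h : H // P (orderOf h)} :=
  Nat.card_congr (e.subtypeEquiv fun g => by rw [he])

theorem TowerCount.congr {G : Type u} {H : Type v} [Group G] [Group H] (e : G ≃ H)
    (he : ∀ g, orderOf (e g) = orderOf g) {a : ℕ} (hG : TowerCount a G) : TowerCount a H := by
  intro t ht
  obtain ⟨m, hm⟩ := hG t ht
  refine ⟨m, ?_⟩
  rwa [← Nat.card_congr e, show Nat.card {x : H // Upper t x} = Nat.card {x : G // Upper t x} from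
    (card_eq_of_equiv e he fun n => ∀ q : ℕ, q.Prime → q ∣ n → t ≤ q).symm]

theorem upper_of_mem_pGroup {G : Type*} [Group G] {p t : ℕ} [hp : Fact p.Prime] {P : Subgroup G}
    (hP : IsPGroup p P) (htp : t ≤ p) {x : G} (hx : x ∈ P) : Upper t x := by
  intro r hr hrd
  obtain ⟨k, hk⟩ := IsPGroup.iff_orderOf.1 hP ⟨x, hx⟩
  rw [orderOf_mk] at hk
  rw [hk] at hrd
  rw [(Nat.prime_dvd_prime_iff_eq hr hp.out).1 (hr.dvd_of_dvd_pow hrd)]
  exact htp

theorem upper_mk {G : Type*} [Group G] {t : ℕ} (N : Subgroup G) [N.Normal] {x : G}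
    (h : Upper t x) : Upper t (x : G ⧸ N) :=
  fun q hq hd => h q hq (hd.trans (orderOf_map_dvd (QuotientGroup.mk' N) x))

theorem upper_of_mk {G : Type*} [Group G] {p t : ℕ} [hp : Fact p.Prime] (N : Subgroup G)
    [N.Normal] (hN : IsPGroup p N) (htp : t ≤ p) {x : G} (h : Upper t (x : G ⧸ N)) : Upper t x := by
  intro q hq hd
  have hmem : x ^ orderOf (x : G ⧸ N) ∈ N := by
    rw [← QuotientGroup.eq_one_iff, QuotientGroup.mk_pow, pow_orderOf_eq_one]
  obtain ⟨k, hk⟩ := IsPGroup.iff_orderOf.1 hN ⟨_, hmem⟩
  rw [orderOf_mk] at hk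
  have hdv : orderOf x ∣ orderOf (x : G ⧸ N) * p ^ k := by
    rw [orderOf_dvd_iff_pow_eq_one, pow_mul, ← hk, pow_orderOf_eq_one]
  rcases hq.dvd_mul.1 (hd.trans hdv) with h' | h'
  · exact h q hq h'
  · rw [(Nat.prime_dvd_prime_iff_eq hq hp.out).1 (hq.dvd_of_dvd_pow h')]; exact htp

/-- Upper elements forming a subgroup give the upper part of the order. -/
theorem towerCount_of_subgroups {G : Type u} [Group G] [Finite G] {a : ℕ}
    (h : ∀ t, a ≤ t → ∃ N : Subgroup G, ∀ x, x ∈ N ↔ Upper t x) : TowerCount a G := by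
  intro t ht
  obtain ⟨N, hN⟩ := h t ht
  have hc : Nat.card {x : G // Upper t x} = Nat.card N :=
    Nat.card_congr (Equiv.subtypeEquivRight fun x => (hN x).symm)
  rw [hc]
  refine ⟨N.index, N.card_mul_index, fun q hq hd => ?_, fun q hq hd => ?_⟩
  · haveI : Fact q.Prime := ⟨hq⟩
    obtain ⟨x, hx⟩ := exists_prime_orderOf_dvd_card' q hd
    exact (hN x).1 x.2 q hq (by rw [orderOf_coe, hx])
  · by_contra hlt
    haveI : Fact q.Prime := ⟨hq⟩
    obtain ⟨S⟩ : Nonempty (Sylow q G) := inferInstance
    exact S.not_dvd_index (hd.trans (index_dvd_of_le fun x hx =>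
      (hN x).2 (upper_of_mem_pGroup S.2 (not_lt.1 hlt) hx)))

/-- A group in which the numbers of elements with all primes above each threshold `t ≥ 5` are the
corresponding parts of the group order is solvable. -/
theorem solvable_of_towerCount : ∀ (n : ℕ) (H : Type u) [Group H] [Finite H],
    Nat.card H = n → TowerCount 5 H → Group.IsSolvable H := by
  intro n
  induction n using Nat.strong_induction_on with
  | _ n ih =>
    intro H _ _ hn hH
    by_cases hbig : ∃ p ∈ (Nat.card H).primeFactors, 5 ≤ p
    swap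
    · push Not at hbig
      refine Lib.Induced.Burnside.isSolvable_of_card_eq 2 3 ((Nat.card H).factorization 2)
        ((Nat.card H).factorization 3) Nat.prime_two Nat.prime_three ?_
      have hsub : (Nat.card H).factorization.support ⊆ {2, 3} := by
        intro p hp
        rw [Nat.support_factorization] at hp
        have h1 := hbig p hp
        have h2 := (Nat.mem_primeFactors.1 hp).1
        have h3 := h2.two_le
        interval_cases p <;> first | exact absurd h2 (by decide) | simp
      conv_lhs => rw [← Nat.prod_factorization_pow_eq_self (Nat.card_pos (α := H)).ne']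
      rw [Finsupp.prod_of_support_subset _ hsub _ (by simp), Finset.prod_pair (by norm_num)]
    obtain ⟨p₀, hp₀, hp₀5⟩ := hbig
    obtain ⟨p, hpS, hpmax⟩ := Finset.exists_max_image (Nat.card H).primeFactors id ⟨p₀, hp₀⟩
    have hp5 : 5 ≤ p := hp₀5.trans (hpmax p₀ hp₀)
    obtain ⟨hp, hpd, -⟩ := Nat.mem_primeFactors.1 hpS
    haveI : Fact p.Prime := ⟨hp⟩
    have hle : ∀ q : ℕ, q.Prime → q ∣ Nat.card H → q ≤ p := fun q hq hd =>
      hpmax q (Nat.mem_primeFactors.2 ⟨hq, hd, Nat.card_pos.ne'⟩)
    obtain ⟨P⟩ : Nonempty (Sylow p H) := inferInstance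
    obtain ⟨m, hm, hup, -⟩ := hH p hp5
    obtain ⟨k, hk⟩ : ∃ k, Nat.card {x : H // Upper p x} = p ^ k := by
      haveI : Nonempty {x : H // Upper p x} :=
        ⟨⟨1, fun q hq hd => absurd (by rwa [orderOf_one, Nat.dvd_one] at hd) hq.ne_one⟩⟩
      refine ⟨_, Nat.eq_prime_pow_of_unique_prime_dvd Nat.card_pos.ne' fun {q} hq hd => ?_⟩
      exact le_antisymm (hle q hq (hd.trans (hm ▸ dvd_mul_right _ _))) (hup q hq hd)
    have hall : ∀ x : H, Upper p x → x ∈ (P : Subgroup H) := by
      have hsub : {x : H | x ∈ (P : Subgroup H)} ⊆ {x : H | Upper p x} :=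
        fun x hx => upper_of_mem_pGroup P.2 le_rfl hx
      have hcard : {x : H | Upper p x}.ncard ≤ {x : H | x ∈ (P : Subgroup H)}.ncard := by
        rw [← Nat.card_coe_set_eq, ← Nat.card_coe_set_eq]
        show Nat.card {x : H // Upper p x} ≤ Nat.card (P : Subgroup H)
        rw [hk, P.card_eq_multiplicity]
        refine Nat.pow_le_pow_right hp.pos ?_
        rw [← hp.pow_dvd_iff_le_factorization Nat.card_pos.ne', ← hk]
        exact hm ▸ dvd_mul_right _ _
      intro x hx
      have heq := Set.eq_of_subset_of_ncard_le hsub hcard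
      have hx' : x ∈ {x : H | Upper p x} := hx
      rw [← heq] at hx'
      exact hx'
    haveI hPn : (P : Subgroup H).Normal := by
      refine ⟨fun x hx g => hall _ fun q hq hd => ?_⟩
      exact upper_of_mem_pGroup P.2 le_rfl hx q hq (by rwa [← MulAut.conj_apply, MulEquiv.orderOf_eq] at hd)
    have hpP : p ∣ Nat.card (P : Subgroup H) := P.dvd_card_of_dvd_card hpd
    have hcardH := card_eq_card_quotient_mul_card_subgroup (P : Subgroup H)
    have hlt : Nat.card (H ⧸ (P : Subgroup H)) < n := by
      rw [← hn, hcardH]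
      exact lt_mul_of_one_lt_right Nat.card_pos (hp.one_lt.trans_le (Nat.le_of_dvd Nat.card_pos hpP))
    suffices hQ : TowerCount 5 (H ⧸ (P : Subgroup H)) by
      haveI := P.2.isNilpotent
      haveI := ih _ hlt _ rfl hQ
      exact Group.isSolvable_of_ker_le_range (P : Subgroup H).subtype (QuotientGroup.mk' (P : Subgroup H))
        (by simp)
    intro t ht
    by_cases htp : t ≤ p
    · obtain ⟨m, hm, hup, hdown⟩ := hH t ht
      have hc : Nat.card {x : H // Upper t x} = Nat.card (P : Subgroup H) *
          Nat.card {y : H ⧸ (P : Subgroup H) // Upper t y} := by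
        rw [← Nat.card_prod]
        refine Nat.card_congr ((Equiv.subtypeEquivRight fun x =>
          ⟨fun hx => upper_mk (P : Subgroup H) hx, fun hx => upper_of_mk (P : Subgroup H) P.2 htp hx⟩).trans ?_)
        exact QuotientGroup.preimageMkEquivSubgroupProdSet (P : Subgroup H) {y | Upper t y}
      refine ⟨m, ?_, fun q hq hd => hup q hq (hc ▸ hd.mul_left _), hdown⟩
      apply Nat.eq_of_mul_eq_mul_left (Nat.card_pos (α := (P : Subgroup H)))
      rw [← mul_assoc, ← hc, hm, hcardH, mul_comm]
    · have hqle : ∀ q : ℕ, q.Prime → q ∣ Nat.card (H ⧸ (P : Subgroup H)) → q < t := by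
        intro q hq hd
        have := hle q hq (hd.trans ⟨_, hcardH⟩)
        omega
      have h1 : Nat.card {y : H ⧸ (P : Subgroup H) // Upper t y} = 1 := by
        rw [Nat.card_eq_one_iff_exists]
        refine ⟨⟨1, fun q hq hd => absurd (by rwa [orderOf_one, Nat.dvd_one] at hd) hq.ne_one⟩, ?_⟩
        rintro ⟨y, hy⟩
        apply Subtype.ext
        rw [← orderOf_eq_one_iff]
        by_contra hne
        obtain ⟨q, hq, hd⟩ := Nat.exists_prime_and_dvd hne
        have := hy q hq hd
        have := hqle q hq (hd.trans (orderOf_dvd_natCard _))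
        omega
      exact ⟨_, by rw [h1, one_mul], fun q hq hd => absurd (h1 ▸ hd) hq.not_dvd_one, hqle⟩

/-- Odd prime-power subgroups need one generator, 2-subgroups at most two. -/
def SmallRank (G : Type*) [Group G] [Finite G] : Prop :=
  ∀ (p : ℕ) [Fact p.Prime] (Q : Subgroup G), IsPGroup p Q →
    Group.rank Q ≤ if p = 2 then 2 else 1

theorem SmallRank.quotient {G : Type u} [Group G] [Finite G] (h : SmallRank G) (A : Subgroup G)
    [A.Normal] : SmallRank (G ⧸ A) := by
  intro p hp Q hQ
  let f := (QuotientGroup.mk' A).subgroupComap Q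
  have hf : Function.Surjective f :=
    MonoidHom.subgroupComap_surjective_of_surjective _ _ (QuotientGroup.mk'_surjective A)
  obtain ⟨S⟩ : Nonempty (Sylow p (Q.comap (QuotientGroup.mk' A))) := inferInstance
  have hmap : (S : Subgroup _).map f = ⊤ := by
    rw [← Sylow.coe_mapSurjective hf S]
    exact (S.mapSurjective hf).3 (IsPGroup.of_equiv hQ topEquiv.symm) le_top |>.symm
  let g : ((S : Subgroup _).map (Q.comap (QuotientGroup.mk' A)).subtype) →* Q :=
    f.comp (inclusion (by rintro _ ⟨y, -, rfl⟩; exact y.2))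
  have hg : Function.Surjective g := by
    intro y
    obtain ⟨z, hz, hzy⟩ := (hmap ▸ mem_top y : y ∈ (S : Subgroup _).map f)
    exact ⟨⟨z, ⟨z, hz, rfl⟩⟩, hzy⟩
  exact (Group.rank_le_of_surjective g hg).trans (h p _ (S.2.map _))

/-- A solvable group with small ranks has a subgroup of upper elements for each threshold `≥ 5`. -/
theorem exists_upper : ∀ (n : ℕ) (G : Type u) [Group G] [Finite G],
    Nat.card G = n → Group.IsSolvable G → SmallRank G → ∀ t : ℕ, 5 ≤ t →
      ∃ N : Subgroup G, ∀ x, x ∈ N ↔ Upper t x := by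
  intro n
  induction n using Nat.strong_induction_on with
  | _ n ih =>
    intro G _ _ hn hsol hR t ht
    rcases subsingleton_or_nontrivial G with h | h
    · exact ⟨⊥, fun x => by
        rw [Subsingleton.elim x 1]
        simp only [one_mem, true_iff, Upper, orderOf_one]
        intro q hq hd
        exact absurd (Nat.eq_one_of_dvd_one hd) hq.ne_one⟩
    haveI : Group.IsSolvable (⊤ : Subgroup G) := inferInstance
    obtain ⟨p, P, hp, hP1, -, hPn', hP⟩ := Lib.Coprime.exists_normal_pSubgroup (A := (⊤ : Subgroup G)) top_ne_bot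
    haveI hPn : P.Normal := normalizer_eq_top_iff.1 (top_le_iff.1 hPn')
    haveI : Fact p.Prime := ⟨hp⟩
    have hlt : Nat.card (G ⧸ P) < n := by
      rw [← hn, card_eq_card_quotient_mul_card_subgroup P]
      exact lt_mul_of_one_lt_right Nat.card_pos ((one_lt_card_iff_ne_bot P).2 hP1)
    haveI : Group.IsSolvable (G ⧸ P) :=
      Group.isSolvable_of_surjective (QuotientGroup.mk'_surjective P)
    obtain ⟨Nb, hNb⟩ := ih _ hlt (G ⧸ P) rfl inferInstance (hR.quotient P) t ht
    by_cases hpt : t ≤ p
    · refine ⟨Nb.comap (QuotientGroup.mk' P), fun x => ?_⟩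
      rw [mem_comap, QuotientGroup.mk'_apply, hNb]
      exact ⟨upper_of_mk P hP hpt, upper_mk P⟩
    replace hpt : p < t := Nat.lt_of_not_le hpt
    let K := Nb.comap (QuotientGroup.mk' P)
    have hPK : P ≤ K := fun a ha => by
      rw [mem_comap, QuotientGroup.mk'_apply, (QuotientGroup.eq_one_iff a).2 ha]
      exact one_mem _
    let f : K →* Nb := (QuotientGroup.mk' P).subgroupComap Nb
    have hf : Function.Surjective f :=
      MonoidHom.subgroupComap_surjective_of_surjective _ _ (QuotientGroup.mk'_surjective P)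
    have hfker : f.ker = P.subgroupOf K := by
      ext x
      rw [MonoidHom.mem_ker, mem_subgroupOf, ← QuotientGroup.eq_one_iff]
      exact Subtype.ext_iff
    obtain ⟨e, he⟩ := hP.exists_card_eq
    have hkerc : Nat.card (P.subgroupOf K) = p ^ e := by
      rw [Nat.card_congr (subgroupOfEquivOfLe hPK).toEquiv, he]
    have hidx : f.ker.index = Nat.card Nb := by
      rw [index_ker, f.range_eq_top.2 hf, card_top]
    have hpN : ∀ q : ℕ, q.Prime → q ∣ Nat.card Nb → t ≤ q := by
      intro q hq hd
      haveI : Fact q.Prime := ⟨hq⟩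
      obtain ⟨x, hx⟩ := exists_prime_orderOf_dvd_card' q hd
      exact (hNb x).1 x.2 q hq (by rw [orderOf_coe, hx])
    have hcop : Nat.Coprime (Nat.card (P.subgroupOf K)) (P.subgroupOf K).index := by
      rw [hkerc, ← hfker, hidx]
      refine (hp.coprime_iff_not_dvd.2 fun hd => ?_).pow_left e
      exact absurd (hpN p hp hd) (by omega)
    obtain ⟨C, hC⟩ := exists_right_complement'_of_coprime hcop
    have hCc : Nat.card C = Nat.card Nb := by
      rw [← hC.symm.index_eq_card, ← hfker, hidx]
    have hCup : ∀ c : K, c ∈ C → Upper t c := by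
      intro c hc q hq hd
      exact hpN q hq (hCc ▸ hd.trans (orderOf_dvd_natCard C hc))
    have hcomm : ∀ c : K, c ∈ C → ∀ a ∈ P, (c : G) * a = a * c := by
      intro c hc a ha
      have hmem : (c : G) ∈ centralizer (P : Set G) := by
        refine Lib.Fg6.RankComplement.mem_centralizer_of_coprime hP (hR p P hP)
          (by rw [normalizer_eq_top_iff.2 hPn]; exact mem_top _) ?_ fun q hq hqd i hi1 hi2 hd => ?_
        · refine (hp.coprime_iff_not_dvd.2 fun hd => ?_).symm
          have := hCup c hc p hp (by rwa [orderOf_coe] at hd)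
          omega
        · rw [orderOf_coe] at hqd
          have := hCup c hc q hq hqd
          by_cases h2 : p = 2
          · subst h2
            simp only [if_true] at hi2
            have hpos : 0 < 2 ^ i - 1 := by
              have := Nat.pow_le_pow_right (show 1 ≤ 2 by norm_num) hi1
              omega
            have := Nat.le_of_dvd hpos hd
            have := Nat.pow_le_pow_right (show 1 ≤ 2 by norm_num) hi2
            omega
          · rw [if_neg h2] at hi2
            obtain rfl : i = 1 := by omega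
            rw [pow_one] at hd
            have := Nat.le_of_dvd (by have := hp.two_le; omega) hd
            omega
      exact (mem_centralizer_iff.1 hmem a ha).symm
    refine ⟨C.map K.subtype, fun x => ⟨?_, fun hx => ?_⟩⟩
    · rintro ⟨c, hc, rfl⟩ q hq hd
      rw [coe_subtype, orderOf_coe] at hd
      exact hCup c hc q hq hd
    · have hxK : x ∈ K := by
        rw [mem_comap, QuotientGroup.mk'_apply, hNb]
        exact upper_mk P hx
      obtain ⟨⟨a, c⟩, hac, -⟩ := hC.existsUnique ⟨x, hxK⟩
      refine ⟨c, c.2, ?_⟩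
      simp only at hac
      have hxe : x = (a : K) * ((c : K) : G) := by rw [← coe_mul, hac]
      have hco : Commute ((a : K) : G) ((c : K) : G) := (hcomm c c.2 _ a.2).symm
      have hpow : ((a : K) : G) ^ orderOf x * ((c : K) : G) ^ orderOf x = 1 := by
        rw [← hco.mul_pow, ← hxe, pow_orderOf_eq_one]
      have hmem : (a : K) ^ orderOf x ∈ C := by
        have : (a : K) ^ orderOf x = ((c : K) ^ orderOf x)⁻¹ := by
          apply Subtype.ext
          push_cast
          exact eq_inv_of_mul_eq_one_left hpow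
        rw [this]; exact inv_mem (pow_mem c.2 _)
      have h1 : (a : K) ^ orderOf x = 1 :=
        disjoint_def.1 hC.disjoint (pow_mem a.2 _) hmem
      have ha1 : (a : K) = 1 := by
        rw [← orderOf_eq_one_iff]
        refine Nat.eq_one_of_dvd_coprimes ((hp.coprime_iff_not_dvd.2 fun hd => ?_).pow_left e)
          (hkerc ▸ orderOf_dvd_natCard _ a.2) (orderOf_dvd_of_pow_eq_one h1)
        have := hx p hp hd
        omega
      rw [hxe, ha1]; simp

end Cfsg.Agent.Lib.Fg6.OrderType
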