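/-
Groups with the order type of a Frobenius group (the kernel's nilpotency is a hypothesis here).
-/
import Cfsg.Agent.Lib.Fg6.OrderType
import Cfsg.Agent.Lib.Fg6.InvertedExt
import Cfsg.Agent.Lib.Induced.FrobeniusKernel
import Cfsg.Agent.Lib.Frobenius.Complement
import Cfsg.Agent.Lib.PGroups.UniqueInvolution
import Cfsg.Prelude.Def_Solvable

set_option autoImplicit false
set_option linter.style.haveILetI false

namespace Cfsg.Agent.Lib.Fg6.FrobeniusOrderType

open Subgroup Cfsg.Agent.Lib.Fg6.OrderType

universe u v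

/-- The order is a power of `p`. -/
def IsPElem {G : Type*} [Group G] (p : ℕ) (x : G) : Prop := ∃ a, orderOf x = p ^ a

theorem isPElem_of_mem {G : Type*} [Group G] {p : ℕ} [Fact p.Prime] {P : Subgroup G}
    (hP : IsPGroup p P) {x : G} (hx : x ∈ P) : IsPElem p x := by
  obtain ⟨k, hk⟩ := IsPGroup.iff_orderOf.1 hP ⟨x, hx⟩
  exact ⟨k, by rw [← hk, orderOf_mk]⟩

/-- A Sylow subgroup is normal when there are no more `p`-elements than its order. -/
theorem sylow_normal_of_count {G : Type*} [Group G] [Finite G] {p : ℕ} [hp : Fact p.Prime]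
    (P : Sylow p G)
    (h : Nat.card {x : G // IsPElem p x} ≤ p ^ (Nat.card G).factorization p) :
    (P : Subgroup G).Normal ∧ ∀ x : G, IsPElem p x → x ∈ (P : Subgroup G) := by
  have hsub : ((P : Subgroup G) : Set G) ⊆ {x | IsPElem p x} := fun x hx => isPElem_of_mem P.2 hx
  have hle : ({x : G | IsPElem p x}).ncard ≤ ((P : Subgroup G) : Set G).ncard := by
    rw [← Nat.card_coe_set_eq, ← Nat.card_coe_set_eq]
    show Nat.card {x : G // IsPElem p x} ≤ Nat.card (P : Subgroup G)
    rw [P.card_eq_multiplicity]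
    exact h
  have heq := Set.eq_of_subset_of_ncard_le hsub hle
  have hall : ∀ x : G, IsPElem p x → x ∈ (P : Subgroup G) := fun x hx => by
    rw [← SetLike.mem_coe, heq]; exact hx
  refine ⟨⟨fun x hx g => hall _ ?_⟩, hall⟩
  obtain ⟨a, ha⟩ := hsub hx
  exact ⟨a, by rw [← MulAut.conj_apply, MulEquiv.orderOf_eq, ha]⟩

variable {F : Type u} [Group F] [Finite F] {K C : Subgroup F}

theorem card_kernel (hc : K.IsComplement' C) : C.index = Nat.card K := hc.index_eq_card

/-- Elements are either of order dividing the kernel's, or conjugate into the complement. -/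
theorem kernel_or_conjUnion (hC : Cfsg.IsFrobeniusComplement C) (hK : K.Normal)
    (hc : K.IsComplement' C) (x : F) : x ∈ K ∨ x ∈ Lib.Frobenius.conjUnion C := by
  by_cases hx : x ∈ K
  · exact Or.inl hx
  · right
    rw [← SetLike.mem_coe, Lib.Frobenius.coe_eq_frobeniusKernel hC hK hc,
      Lib.Frobenius.frobeniusKernel_eq_compl, Set.mem_compl_iff, not_not] at hx
    exact hx

theorem orderOf_dvd_or (hC : Cfsg.IsFrobeniusComplement C) (hK : K.Normal)
    (hc : K.IsComplement' C) (x : F) : orderOf x ∣ Nat.card K ∨ orderOf x ∣ Nat.card C := by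
  rcases kernel_or_conjUnion hC hK hc x with h | ⟨-, g, hg⟩
  · exact Or.inl (orderOf_dvd_natCard K h)
  · refine Or.inr ?_
    have h1 := orderOf_dvd_natCard C hg
    rwa [show g⁻¹ * x * g = MulAut.conj g⁻¹ x by simp, MulEquiv.orderOf_eq] at h1

theorem mem_kernel_iff (hC : Cfsg.IsFrobeniusComplement C) (hK : K.Normal)
    (hc : K.IsComplement' C) (x : F) : x ∈ K ↔ orderOf x ∣ Nat.card K := by
  refine ⟨fun h => orderOf_dvd_natCard K h, fun h => ?_⟩
  rcases kernel_or_conjUnion hC hK hc x with h' | ⟨hx1, g, hg⟩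
  · exact h'
  · exfalso
    refine hx1 (orderOf_eq_one_iff.1 (Nat.eq_one_of_dvd_coprimes
      (Lib.Frobenius.coprime_card_index hC) ?_ (by rw [card_kernel hc]; exact h)))
    have h1 := orderOf_dvd_natCard C hg
    rwa [show g⁻¹ * x * g = MulAut.conj g⁻¹ x by simp, MulEquiv.orderOf_eq] at h1

/-- Nonidentity elements of a given kind of order dividing `|C|`: `|K|` times those in `C`. -/
theorem count_complement (hC : Cfsg.IsFrobeniusComplement C) (hK : K.Normal)
    (hc : K.IsComplement' C) (P : ℕ → Prop) :
    Nat.card {x : F // P (orderOf x) ∧ orderOf x ∣ Nat.card C ∧ x ≠ 1} =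
      Nat.card K * Nat.card {y : C // P (orderOf y) ∧ y ≠ 1} := by
  have h := Lib.Frobenius.ncard_inter_conjUnion hC (S := {x : F | P (orderOf x)})
    (fun a x hx => by
      show P (orderOf (a * x * a⁻¹))
      rw [← MulAut.conj_apply, MulEquiv.orderOf_eq]; exact hx)
  rw [card_kernel hc] at h
  have e1 : Nat.card {x : F // P (orderOf x) ∧ orderOf x ∣ Nat.card C ∧ x ≠ 1} =
      ({x : F | P (orderOf x)} ∩ Lib.Frobenius.conjUnion C).ncard := by
    rw [← Nat.card_coe_set_eq]
    refine Nat.card_congr (Equiv.subtypeEquivRight fun x => ⟨fun hx => ⟨hx.1, ?_⟩, fun hx => ⟨hx.1, ?_, hx.2.1⟩⟩)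
    · exact Lib.Frobenius.mem_conjUnion_of_coprime hC hx.2.2
        (Nat.Coprime.coprime_dvd_left hx.2.1 (Lib.Frobenius.coprime_card_index hC))
    · obtain ⟨-, g, hg⟩ := hx.2
      have h1 := orderOf_dvd_natCard C hg
      rwa [show g⁻¹ * x * g = MulAut.conj g⁻¹ x by simp, MulEquiv.orderOf_eq] at h1
  have e2 : Nat.card {y : C // P (orderOf y) ∧ y ≠ 1} =
      {x : F | x ∈ {x : F | P (orderOf x)} ∧ x ∈ C ∧ x ≠ 1}.ncard := by
    rw [← Nat.card_coe_set_eq]
    refine Nat.card_congr
      { toFun := fun y => ⟨y.1, by rw [Set.mem_ofPred_eq]; exact ⟨by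
          show P (orderOf (y.1 : F)); rw [orderOf_coe]; exact y.2.1, y.1.2, fun h => y.2.2 (Subtype.ext h)⟩⟩
        invFun := fun x => ⟨⟨x.1, x.2.2.1⟩, by rw [← orderOf_coe]; exact x.2.1,
          fun h => x.2.2.2 (congrArg Subtype.val h)⟩
        left_inv := fun _ => rfl
        right_inv := fun _ => rfl }
  rw [e1, e2, h]

theorem card_upper_eq {G : Type*} [Group G] [Finite G] (t : ℕ) :
    Nat.card {x : G // Upper t x} = Nat.card {x : G // Upper t x ∧ x ≠ 1} + 1 := by
  classical
  haveI := Fintype.ofFinite G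
  have h1 : Upper t (1 : G) := fun q hq hd => absurd (by rwa [orderOf_one, Nat.dvd_one] at hd) hq.ne_one
  simp only [Nat.card_eq_fintype_card, Fintype.card_subtype]
  rw [← Finset.card_erase_add_one (show (1 : G) ∈ Finset.univ.filter (Upper t) by simp [h1])]
  congr 2
  ext x
  simp [and_comm]

/-- A Frobenius complement of a group with normal kernel has small ranks. -/
theorem smallRank_complement (hC : Cfsg.IsFrobeniusComplement C) (hK : K.Normal)
    (hc : K.IsComplement' C) : SmallRank C := by
  intro p hp Q hQ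
  have hu : ∀ x y : Q, orderOf x = p → orderOf y = p → y ∈ zpowers x := fun x y hx hy => by
    rw [Lib.Frobenius.zpowers_eq_of_isPGroup hC hc hQ hx hy]
    exact mem_zpowers y
  rcases Lib.PGroups.isCyclic_or_quaternion hQ hu with hcyc | ⟨hp2, n, -, ⟨e⟩⟩
  · obtain ⟨g, hg⟩ := hcyc.exists_generator
    classical
    refine (Group.rank_le (S := {g}) ?_).trans ?_
    · rw [Finset.coe_singleton, ← zpowers_eq_closure, eq_top_iff]
      exact fun y _ => hg y
    · split_ifs <;> simp
  · rw [if_pos hp2, Group.rank_congr e]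
    classical
    refine (Group.rank_le (S := {QuaternionGroup.a 1, QuaternionGroup.xa 0}) ?_).trans Finset.card_le_two
    rw [Finset.coe_pair]
    exact Lib.Fg6.InvertedExt.closure_quaternion

/-- A group with the order type of a Frobenius group (nilpotent kernel) is a Frobenius group. -/
theorem main {G : Type v} [Group G] [Finite G] (hC : Cfsg.IsFrobeniusComplement C) (hK : K.Normal)
    (hc : K.IsComplement' C) (hKn : Group.IsNilpotent K)
    (hT : ∀ m : ℕ, Nat.card {g : F // orderOf g = m} = Nat.card {h : G // orderOf h = m}) :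
    (∃ D : Subgroup G, Cfsg.IsFrobeniusComplement D) ∧
      (Group.IsSolvable G ↔ Group.IsSolvable F) := by
  obtain ⟨e, he⟩ := exists_equiv hT
  have hFG : Nat.card F = Nat.card G := Nat.card_congr e
  set k := Nat.card K with hk
  set c := Nat.card C with hcdef
  have hkc : k * c = Nat.card F := hc.card_mul_card
  have hcop : Nat.Coprime c k := by
    have := Lib.Frobenius.coprime_card_index hC
    rwa [card_kernel hc] at this
  have hk1 : 1 < k := by
    have := Lib.Frobenius.two_le_index hC
    rw [card_kernel hc] at this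
    omega
  have hc1 : 1 < c := Lib.Frobenius.two_le_card hC
  -- the kernel of `G`
  have hsyl : ∀ p ∈ k.primeFactors, ∃ P : Subgroup G, P.Normal ∧ IsPGroup p P ∧
      Nat.card P = p ^ (Nat.card G).factorization p := by
    intro p hp
    obtain ⟨hpp, hpk, -⟩ := Nat.mem_primeFactors.1 hp
    haveI := Fact.mk hpp
    obtain ⟨PF⟩ : Nonempty (Sylow p F) := inferInstance
    obtain ⟨PG⟩ : Nonempty (Sylow p G) := inferInstance
    obtain ⟨PK⟩ : Nonempty (Sylow p K) := inferInstance
    haveI := hKn
    haveI : Subsingleton (Sylow p K) := by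
      haveI := PK.unique_of_normal inferInstance
      infer_instance
    have hPKcard : Nat.card (PK : Subgroup K) = p ^ (Nat.card G).factorization p := by
      rw [PK.card_eq_multiplicity, ← hFG, ← hkc,
        Nat.factorization_mul (by omega) (by omega), Finsupp.add_apply,
        Nat.factorization_eq_zero_of_not_dvd (fun hd : p ∣ c =>
          hpp.not_dvd_one (hcop ▸ Nat.dvd_gcd hd hpk)), add_zero]
    have hcount : Nat.card {x : G // IsPElem p x} ≤ p ^ (Nat.card G).factorization p := by
      have h1 : Nat.card {x : G // IsPElem p x} = Nat.card {x : F // IsPElem p x} :=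
        (card_eq_of_equiv e he fun n => ∃ a, n = p ^ a).symm
      rw [h1, ← hPKcard]
      have hmem : ∀ x : F, IsPElem p x → x ∈ K := by
        rintro x ⟨a, ha⟩
        rcases orderOf_dvd_or hC hK hc x with h | h
        · exact (mem_kernel_iff hC hK hc x).2 h
        · have : orderOf x = 1 := by
            rw [ha]
            refine Nat.eq_one_of_dvd_coprimes ((hpp.coprime_iff_not_dvd.2 ?_).pow_left a) dvd_rfl (ha ▸ h)
            exact fun hd => hpp.not_dvd_one (hcop ▸ Nat.dvd_gcd hd hpk)
          rw [orderOf_eq_one_iff.1 this]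
          exact one_mem _
      refine Nat.card_le_card_of_injective
        (fun x : {x : F // IsPElem p x} => (⟨⟨x.1, hmem _ x.2⟩, ?_⟩ : (PK : Subgroup K))) ?_
      · obtain ⟨a, ha⟩ := x.2
        obtain ⟨Q, hQ⟩ := (IsPGroup.of_card (p := p) (G := zpowers (⟨x.1, hmem _ x.2⟩ : K)) (n := a)
          (by rw [Nat.card_zpowers, orderOf_mk, ha])).exists_le_sylow
        rw [Subsingleton.elim PK Q]
        exact hQ (mem_zpowers _)
      · intro x y h
        exact Subtype.ext (congrArg (fun z : (PK : Subgroup K) => ((z : K) : F)) h)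
    exact ⟨PG, (sylow_normal_of_count PG hcount).1, PG.2, PG.card_eq_multiplicity⟩
  have hbuild : ∀ s : Finset ℕ, s ⊆ k.primeFactors → ∃ M : Subgroup G, M.Normal ∧
      Nat.card M = ∏ p ∈ s, p ^ (Nat.card G).factorization p ∧
      ∀ p ∈ s, ∃ P : Subgroup G, P ≤ M ∧ P.Normal ∧ IsPGroup p P ∧
        Nat.card P = p ^ (Nat.card G).factorization p := by
    intro s
    induction s using Finset.induction_on with
    | empty => exact fun _ => ⟨⊥, inferInstance, by simp, by simp⟩
    | @insert p s hps ih =>
      intro hs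
      obtain ⟨M, hM, hMc, hMs⟩ := ih fun q hq => hs (Finset.mem_insert_of_mem hq)
      obtain ⟨P, hP, hPp, hPc⟩ := hsyl p (hs (Finset.mem_insert_self _ _))
      have hcp : (Nat.card P).Coprime (Nat.card M) := by
        rw [hPc, hMc, Nat.coprime_prod_right_iff]
        intro q hq
        refine ((Nat.coprime_primes (Nat.prime_of_mem_primeFactors (hs (Finset.mem_insert_self _ _)))
          (Nat.prime_of_mem_primeFactors (hs (Finset.mem_insert_of_mem hq)))).2 ?_).pow _ _
        rintro rfl; exact hps hq
      haveI := hM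
      haveI := hP
      refine ⟨P ⊔ M, inferInstance, ?_, ?_⟩
      · rw [Finset.prod_insert hps, ← hMc, ← hPc]
        exact Lib.Coprime.card_sup_of_disjoint (A := P) (K := M) (by rw [normalizer_eq_top_iff.2 hM]; exact le_top)
          (disjoint_iff.2 (Lib.Coprime.inf_eq_bot_of_coprime hcp))
      · intro q hq
        rcases Finset.mem_insert.1 hq with rfl | hq
        · exact ⟨P, le_sup_left, hP, hPp, hPc⟩
        · obtain ⟨Q, hQ, h⟩ := hMs q hq
          exact ⟨Q, hQ.trans le_sup_right, h⟩
  obtain ⟨M, hM, hMc, hMs⟩ := hbuild k.primeFactors subset_rfl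
  haveI := hM
  have hMk : Nat.card M = k := by
    rw [hMc]
    conv_rhs => rw [← Nat.prod_factorization_pow_eq_self (show k ≠ 0 by omega)]
    rw [Finsupp.prod, Nat.support_factorization]
    refine Finset.prod_congr rfl fun p hp => ?_
    obtain ⟨hpp, hpk, -⟩ := Nat.mem_primeFactors.1 hp
    rw [← hFG, ← hkc, Nat.factorization_mul (by omega) (by omega), Finsupp.add_apply,
      Nat.factorization_eq_zero_of_not_dvd (fun hd : p ∣ c =>
        hpp.not_dvd_one (hcop ▸ Nat.dvd_gcd hd hpk)), add_zero]
  have hMn : Group.IsNilpotent M := by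
    refine (Group.isNilpotent_of_finite_tfae (G := M)).out 3 0 |>.mp fun p hp S => ?_
    haveI := hp
    by_cases hpk : p ∈ k.primeFactors
    · obtain ⟨P, hPM, hP, hPp, hPc⟩ := hMs p hpk
      haveI := hP
      obtain ⟨S', hS'⟩ := (IsPGroup.of_equiv hPp (subgroupOfEquivOfLe hPM).symm).exists_le_sylow
      have heq : P.subgroupOf M = S' := by
        refine eq_of_le_of_card_ge hS' ?_
        rw [S'.card_eq_multiplicity, Nat.card_congr (subgroupOfEquivOfLe hPM).toEquiv, hPc]
        exact Nat.pow_le_pow_right hp.out.pos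
          ((Nat.factorization_le_iff_dvd Nat.card_pos.ne' Nat.card_pos.ne').2 (card_subgroup_dvd_card M) p)
      haveI hS'n : (S' : Subgroup M).Normal := heq ▸ inferInstance
      haveI := S'.unique_of_normal hS'n
      rw [Subsingleton.elim S S']
      exact hS'n
    · have : (S : Subgroup M) = ⊥ := by
        rw [← card_eq_one, S.card_eq_multiplicity, hMk, Nat.factorization_eq_zero_of_not_dvd, pow_zero]
        exact fun hd => hpk (Nat.mem_primeFactors.2 ⟨hp.out, hd, by omega⟩)
      rw [this]; infer_instance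
  have hMidx : M.index = c := by
    have h1 := M.card_mul_index
    rw [hMk, ← hFG, ← hkc] at h1
    exact Nat.eq_of_mul_eq_mul_left (by omega) h1
  obtain ⟨D, hD⟩ := exists_right_complement'_of_coprime (N := M) (by rw [hMk, hMidx]; exact hcop.symm)
  have hDc : Nat.card D = c := by rw [← hMidx, hD.symm.index_eq_card]
  have hspec : ∀ y : G, orderOf y ∣ k ∨ orderOf y ∣ c := by
    intro y
    rw [← e.apply_symm_apply y, he]
    exact orderOf_dvd_or hC hK hc _
  have hDfc : Cfsg.IsFrobeniusComplement D := by
    refine (Lib.Frobenius.isFrobeniusComplement_iff_centralizer hD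
      ((one_lt_card_iff_ne_bot M).1 (by rw [hMk]; exact hk1))
      ((one_lt_card_iff_ne_bot D).1 (by rw [hDc]; exact hc1))).2 fun h hh hh1 => ?_
    rw [eq_bot_iff_forall]
    intro y hy
    have h1 : orderOf y ∣ k := hMk ▸ orderOf_dvd_natCard M hy.1
    have h2 : orderOf h ∣ c := hDc ▸ orderOf_dvd_natCard D hh
    have hco : Nat.Coprime (orderOf y) (orderOf h) :=
      Nat.Coprime.of_dvd h1 h2 hcop.symm
    have hcm : Commute y h := mem_centralizer_singleton_iff.1 hy.2
    have h3 := hcm.orderOf_mul_eq_mul_orderOf_of_coprime hco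
    rcases hspec (y * h) with h4 | h4 <;> rw [h3] at h4
    · exact absurd (orderOf_eq_one_iff.1 (Nat.eq_one_of_dvd_coprimes hcop h2
        ((dvd_mul_left _ _).trans h4))) hh1
    · exact orderOf_eq_one_iff.1 (Nat.eq_one_of_dvd_coprimes hcop.symm h1
        ((dvd_mul_right _ _).trans h4))
  refine ⟨⟨D, hDfc⟩, ?_⟩
  -- solvability
  have hred : ∀ {X : Type v} [Group X] [Finite X] (A B : Subgroup X) [A.Normal],
      A.IsComplement' B → Group.IsNilpotent A → (Group.IsSolvable X ↔ Group.IsSolvable B) := by
    intro X _ _ A B _ hAB hA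
    refine ⟨fun _ => inferInstance, fun hB => ?_⟩
    haveI : Group.IsSolvable (X ⧸ A) := Group.isSolvable_of_surjective
      (f := (QuotientGroup.mk' A).comp B.subtype) fun q => by
        obtain ⟨x, rfl⟩ := QuotientGroup.mk'_surjective A q
        obtain ⟨⟨a, b⟩, hab, -⟩ := hAB.existsUnique x
        refine ⟨b, ?_⟩
        simp only at hab
        show QuotientGroup.mk' A (b : X) = QuotientGroup.mk' A x
        rw [← hab, map_mul, (QuotientGroup.eq_one_iff (a : X)).2 a.2 |>
          (fun h => show QuotientGroup.mk' A (a : X) = 1 from h), one_mul]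
    haveI := hA
    exact Group.isSolvable_of_ker_le_range A.subtype (QuotientGroup.mk' A) (by simp)
  have hredF : Group.IsSolvable F ↔ Group.IsSolvable C := by
    refine ⟨fun _ => inferInstance, fun hB => ?_⟩
    haveI := hK
    haveI : Group.IsSolvable (F ⧸ K) := Group.isSolvable_of_surjective
      (f := (QuotientGroup.mk' K).comp C.subtype) fun q => by
        obtain ⟨x, rfl⟩ := QuotientGroup.mk'_surjective K q
        obtain ⟨⟨a, b⟩, hab, -⟩ := hc.existsUnique x
        refine ⟨b, ?_⟩
        simp only at hab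
        show QuotientGroup.mk' K (b : F) = QuotientGroup.mk' K x
        rw [← hab, map_mul, (QuotientGroup.eq_one_iff (a : F)).2 a.2 |>
          (fun h => show QuotientGroup.mk' K (a : F) = 1 from h), one_mul]
    haveI := hKn
    exact Group.isSolvable_of_ker_le_range K.subtype (QuotientGroup.mk' K) (by simp)
  have hupper : ∀ t, Nat.card {x : D // Upper t x} = Nat.card {x : C // Upper t x} := by
    intro t
    rw [card_upper_eq, card_upper_eq (G := C), Nat.add_right_cancel_iff]
    have h1 := count_complement hC hK hc (fun n => ∀ q : ℕ, q.Prime → q ∣ n → t ≤ q)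
    have h2 := count_complement hDfc hM hD (fun n => ∀ q : ℕ, q.Prime → q ∣ n → t ≤ q)
    rw [hMk, hDc] at h2
    have h3 := card_eq_of_equiv e he
      (fun n => (∀ q : ℕ, q.Prime → q ∣ n → t ≤ q) ∧ n ∣ c ∧ n ≠ 1)
    simp only [ne_eq, orderOf_eq_one_iff] at h3
    rw [show Nat.card K = k from rfl, show Nat.card C = c from rfl] at h1
    rw [h3] at h1
    exact Nat.eq_of_mul_eq_mul_left (show 0 < k by omega) (h2.symm.trans h1)
  have htc : TowerCount 5 D ↔ TowerCount 5 C := by
    unfold TowerCount
    rw [hDc]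
    simp only [hupper, ← hcdef]
  rw [hred M D hD hMn, hredF]
  constructor
  · intro h
    have hR := smallRank_complement hDfc hM hD
    exact solvable_of_towerCount _ C rfl (htc.1 (towerCount_of_subgroups fun t ht =>
      exists_upper _ D rfl h hR t ht))
  · intro h
    have hR := smallRank_complement hC hK hc
    exact solvable_of_towerCount _ D rfl (htc.2 (towerCount_of_subgroups fun t ht =>
      exists_upper _ C rfl h hR t ht))

end Cfsg.Agent.Lib.Fg6.FrobeniusOrderType
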