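/-
Frobenius' theorem on the number of solutions of `g ^ m = 1` (Isaacs-Robinson's elementary proof).
-/
import Mathlib.GroupTheory.Sylow
import Mathlib.GroupTheory.SpecificGroups.Cyclic
import Mathlib.GroupTheory.GroupAction.Quotient
import Mathlib.GroupTheory.QuotientGroup.Basic
import Mathlib.Data.Nat.ModEq

set_option autoImplicit false
set_option linter.style.haveILetI false

namespace Cfsg.Agent.Lib.Fg6.FrobeniusTheorem

open scoped Classical

universe u

variable {G : Type*} [Group G] [Finite G]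

/-- Conjugation-invariant sums are divisible when every class contributes a multiple. -/
theorem dvd_sum_of_conj (S : Finset G) (f : G → ℕ) (k : ℕ)
    (hS : ∀ g u, u ∈ S → g * u * g⁻¹ ∈ S) (hf : ∀ g u, f (g * u * g⁻¹) = f u)
    (hk : ∀ u ∈ S, k ∣ (Subgroup.centralizer ({u} : Set G)).index * f u) :
    k ∣ ∑ u ∈ S, f u := by
  rw [← Finset.sum_fiberwise_of_maps_to (g := ConjClasses.mk) (t := S.image ConjClasses.mk)
    (fun u hu => Finset.mem_image_of_mem _ hu) f]
  refine Finset.dvd_sum fun c hc => ?_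
  obtain ⟨u, hu, rfl⟩ := Finset.mem_image.1 hc
  have hset : ((S.filter fun v => ConjClasses.mk v = ConjClasses.mk u : Finset G) : Set G)
      = MulAction.orbit (ConjAct G) u := by
    ext v
    rw [ConjAct.mem_orbit_conjAct, Finset.coe_filter]
    simp only [Set.mem_ofPred_eq, ConjClasses.mk_eq_mk_iff_isConj]
    refine ⟨fun h => h.2, fun h => ⟨?_, h⟩⟩
    obtain ⟨g, hg⟩ := isConj_iff.1 h.symm
    exact hg ▸ hS g u hu
  have hcard : (S.filter fun v => ConjClasses.mk v = ConjClasses.mk u).card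
      = (Subgroup.centralizer ({u} : Set G)).index := by
    rw [← Set.ncard_coe_finset, hset, ← MulAction.index_stabilizer,
      Subgroup.centralizer_eq_comap_stabilizer]
    exact (Subgroup.index_comap_of_surjective _ (ConjAct.toConjAct (G := G)).surjective).symm
  rw [Finset.sum_congr rfl (g := fun _ => f u) (fun v hv => ?_), Finset.sum_const, smul_eq_mul,
    hcard]
  · exact hk u hu
  · obtain ⟨g, hg⟩ := isConj_iff.1 (ConjClasses.mk_eq_mk_iff_isConj.1 (Finset.mem_filter.1 hv).2).symm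
    rw [← hg, hf]

/-- Sorting the solutions of `g ^ (N * K) = 1` by their `N`-part. -/
theorem card_eq_sum {N K e : ℕ} (he1 : e ≡ 1 [MOD N]) (he0 : e ≡ 0 [MOD K]) (S : Finset G)
    (hS : ∀ u ∈ S, u ^ N = 1) :
    Nat.card {g : G // g ^ (N * K) = 1 ∧ g ^ e ∈ S} =
      ∑ u ∈ S, Nat.card {v : G // Commute u v ∧ v ^ K = 1} := by
  have := Fintype.ofFinite G
  simp only [Nat.card_eq_fintype_card, Fintype.card_subtype]
  rw [Finset.card_eq_sum_card_fiberwise (f := fun g => g ^ e) (t := S)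
    (fun g hg => by simp only [Finset.coe_filter, Set.mem_ofPred_eq] at hg; exact hg.2.2)]
  refine Finset.sum_congr rfl fun u hu => ?_
  refine Finset.card_bij' (fun g _ => u⁻¹ * g) (fun v _ => u * v) ?_ ?_ ?_ ?_
  · intro g hg
    simp only [Finset.mem_filter, Finset.mem_univ, true_and] at hg ⊢
    obtain ⟨⟨hg1, -⟩, rfl⟩ := hg
    have hc : Commute (g ^ e) g := Commute.pow_self g e
    refine ⟨(Commute.refl _).inv_right.mul_right hc, ?_⟩
    rw [hc.inv_left.mul_pow, inv_pow, inv_mul_eq_one, ← pow_mul]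
    refine pow_eq_pow_iff_modEq.2 (Nat.ModEq.of_dvd (orderOf_dvd_of_pow_eq_one hg1) ?_)
    simpa using he1.mul_right' K
  · intro v hv
    simp only [Finset.mem_filter, Finset.mem_univ, true_and] at hv ⊢
    obtain ⟨hc, hv1⟩ := hv
    have h1 : (u * v) ^ e = u := by
      rw [hc.mul_pow]
      have h2 : u ^ e = u := by
        conv_rhs => rw [← pow_one u]
        exact pow_eq_pow_iff_modEq.2 (he1.of_dvd (orderOf_dvd_of_pow_eq_one (hS u hu)))
      have h3 : v ^ e = 1 := orderOf_dvd_iff_pow_eq_one.1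
        ((orderOf_dvd_of_pow_eq_one hv1).trans (Nat.modEq_zero_iff_dvd.1 he0))
      rw [h2, h3, mul_one]
    refine ⟨⟨?_, by rw [h1]; exact hu⟩, h1⟩
    rw [hc.mul_pow, pow_mul, hS u hu, one_pow, one_mul, mul_comm, pow_mul, hv1, one_pow]
  · intro g _; simp
  · intro v _; simp

theorem card_commute_eq (u : G) (K : ℕ) :
    Nat.card {v : G // Commute u v ∧ v ^ K = 1} =
      Nat.card {v : Subgroup.centralizer ({u} : Set G) // v ^ K = 1} :=
  Nat.card_congr
    { toFun := fun v => ⟨⟨v.1, Subgroup.mem_centralizer_singleton_iff.2 v.2.1.eq.symm⟩,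
        Subtype.ext v.2.2⟩
      invFun := fun v => ⟨v.1.1, (Subgroup.mem_centralizer_singleton_iff.1 v.1.2).symm,
        congrArg Subtype.val v.2⟩
      left_inv := fun _ => rfl
      right_inv := fun _ => rfl }

theorem card_pow_eq_one_gcd (K : ℕ) :
    Nat.card {g : G // g ^ Nat.gcd K (Nat.card G) = 1} = Nat.card {g : G // g ^ K = 1} :=
  Nat.card_congr (Equiv.subtypeEquivRight fun g => by
    rw [← orderOf_dvd_iff_pow_eq_one, ← orderOf_dvd_iff_pow_eq_one, Nat.dvd_gcd_iff]
    exact and_iff_left (orderOf_dvd_natCard g))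

theorem conj_commute_iff (u g v : G) (K : ℕ) :
    (Commute (g * u * g⁻¹) (g * v * g⁻¹) ∧ (g * v * g⁻¹) ^ K = 1) ↔
      (Commute u v ∧ v ^ K = 1) := by
  rw [conj_pow, conj_eq_one_iff]
  exact and_congr_left fun _ => Commute.conj_iff g

theorem card_commute_conj (u g : G) (K : ℕ) :
    Nat.card {v : G // Commute (g * u * g⁻¹) v ∧ v ^ K = 1} =
      Nat.card {v : G // Commute u v ∧ v ^ K = 1} :=
  (Nat.card_congr ((MulAut.conj g).toEquiv.subtypeEquiv fun v =>
    (conj_commute_iff u g v K).symm)).symm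

theorem dvd_card_of_centralizers {N K e : ℕ} (he1 : e ≡ 1 [MOD N]) (he0 : e ≡ 0 [MOD K])
    (P : G → Prop) (hP : ∀ g u, P u → P (g * u * g⁻¹)) (hPN : ∀ u, P u → u ^ N = 1)
    (hKG : K ∣ Nat.card G)
    (hC : ∀ u, P u → Nat.gcd K (Nat.card (Subgroup.centralizer ({u} : Set G))) ∣
      Nat.card {v : G // Commute u v ∧ v ^ K = 1}) :
    K ∣ Nat.card {g : G // g ^ (N * K) = 1 ∧ P (g ^ e)} := by
  have := Fintype.ofFinite G
  have heq : Nat.card {g : G // g ^ (N * K) = 1 ∧ P (g ^ e)} =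
      Nat.card {g : G // g ^ (N * K) = 1 ∧ g ^ e ∈ Finset.univ.filter P} :=
    Nat.card_congr (Equiv.subtypeEquivRight fun g => by simp)
  rw [heq, card_eq_sum he1 he0 _ (fun u hu => hPN u (Finset.mem_filter.1 hu).2)]
  refine dvd_sum_of_conj _ _ K (fun g u hu => ?_) (fun g u => card_commute_conj u g K) ?_
  · simpa using hP g u (Finset.mem_filter.1 hu).2
  · intro u hu
    refine dvd_trans ?_ (mul_dvd_mul_left _ (hC u (Finset.mem_filter.1 hu).2))
    rw [← Nat.gcd_mul_left]
    exact Nat.dvd_gcd (dvd_mul_left _ _) (by rw [Subgroup.index_mul_card]; exact hKG)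

/-- The elements of exact `p`-height are counted in multiples of `p ^ a`. -/
theorem pow_dvd_card_layer (p a : ℕ) (hp : p.Prime) (M : ℕ) :
    p ^ a ∣ Nat.card {g : G // orderOf g ∣ M ∧ p ^ (a + 1) ∣ orderOf g} := by
  have := Fintype.ofFinite G
  rw [Nat.card_eq_fintype_card, Fintype.card_subtype,
    Finset.card_eq_sum_card_fiberwise (f := Subgroup.zpowers)
      (t := (Finset.univ.filter fun g : G => orderOf g ∣ M ∧ p ^ (a + 1) ∣ orderOf g).image
        Subgroup.zpowers)
      (fun g hg => Finset.mem_image_of_mem _ hg)]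
  refine Finset.dvd_sum fun Z hZ => ?_
  obtain ⟨y, hy, rfl⟩ := Finset.mem_image.1 hZ
  obtain ⟨-, hyM, hyp⟩ := Finset.mem_filter.1 hy
  have h : Finset.card (Finset.filter (fun g => Subgroup.zpowers g = Subgroup.zpowers y)
      (Finset.univ.filter fun g : G => orderOf g ∣ M ∧ p ^ (a + 1) ∣ orderOf g)) =
      Nat.totient (orderOf y) := by
    rw [← IsCyclic.card_orderOf_eq_totient (α := Subgroup.zpowers y) (d := orderOf y)
      (by rw [← Nat.card_eq_fintype_card, Nat.card_zpowers])]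
    refine Finset.card_bij' (fun g hg => (⟨g, ?_⟩ : Subgroup.zpowers y)) (fun z _ => (z : G))
      ?_ ?_ ?_ ?_
    · simp only [Finset.mem_filter] at hg
      rw [← hg.2]; exact Subgroup.mem_zpowers g
    · intro g hg
      simp only [Finset.mem_filter, Finset.mem_univ, true_and] at hg ⊢
      rw [Subgroup.orderOf_mk, ← Nat.card_zpowers g, hg.2, Nat.card_zpowers]
    · intro z hz
      simp only [Finset.mem_filter, Finset.mem_univ, true_and] at hz ⊢
      have hzo : orderOf (z : G) = orderOf y := by rw [Subgroup.orderOf_coe]; exact hz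
      refine ⟨by rw [hzo]; exact ⟨hyM, hyp⟩, ?_⟩
      refine Subgroup.eq_of_le_of_card_ge (Subgroup.zpowers_le.2 z.2) ?_
      rw [Nat.card_zpowers, Nat.card_zpowers, hzo]
    · intros; rfl
    · intros; rfl
  rw [h]
  refine dvd_trans ?_ (Nat.totient_dvd_of_dvd hyp)
  rw [Nat.totient_prime_pow hp (Nat.succ_pos a)]
  simp

/-- Passing to the quotient by a central element of coprime order. -/
theorem card_pow_eq_one_quotient {H : Type*} [Group H] [Finite H] (w : H)
    (hw : ∀ h, Commute w h) [(Subgroup.zpowers w).Normal] {k : ℕ} (hk : (orderOf w).Coprime k) :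
    Nat.card {v : H // v ^ k = 1} =
      Nat.card {x : H ⧸ Subgroup.zpowers w // x ^ k = 1} := by
  refine Nat.card_congr (Equiv.ofBijective (fun v => ⟨(v.1 : H ⧸ Subgroup.zpowers w),
    by rw [← QuotientGroup.mk_pow, v.2, QuotientGroup.mk_one]⟩) ⟨?_, ?_⟩)
  · intro v v' hvv
    have h1 : v.1⁻¹ * v'.1 ∈ Subgroup.zpowers w :=
      QuotientGroup.eq.1 (congrArg Subtype.val hvv)
    obtain ⟨i, hi⟩ := Subgroup.mem_zpowers_iff.1 h1
    have h2 : v'.1 = v.1 * w ^ i := by rw [hi]; group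
    have h3 : (w ^ i) ^ k = 1 := by
      have := v'.2
      rw [h2, Commute.mul_pow ((hw v.1).zpow_left i).symm, v.2, one_mul] at this
      exact this
    have h4 : orderOf (w ^ i) = 1 := Nat.eq_one_of_dvd_coprimes hk
      (orderOf_dvd_of_mem_zpowers (Subgroup.zpow_mem _ (Subgroup.mem_zpowers w) i))
      (orderOf_dvd_of_pow_eq_one h3)
    refine Subtype.ext ?_
    rw [h2, orderOf_eq_one_iff.1 h4, mul_one]
  · rintro ⟨x, hx⟩
    obtain ⟨v, rfl⟩ := QuotientGroup.mk_surjective x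
    have h1 : v ^ k ∈ Subgroup.zpowers w := by
      rw [← QuotientGroup.eq_one_iff, QuotientGroup.mk_pow]; exact hx
    obtain ⟨j, hj⟩ := exists_pow_eq_self_of_coprime (x := v ^ k) (n := k)
      (Nat.Coprime.coprime_dvd_right (orderOf_dvd_of_mem_zpowers h1) hk.symm)
    -- `(v ^ k) ^ j` is a `k`-th root of `v ^ k` inside `⟨w⟩`
    have h2 : ((v ^ k) ^ j) ^ k = v ^ k := by rw [← pow_mul, mul_comm, pow_mul]; exact hj
    refine ⟨⟨v * ((v ^ k) ^ j)⁻¹, ?_⟩, Subtype.ext ?_⟩
    · rw [Commute.mul_pow (((Commute.self_pow v k).pow_right j).inv_right), inv_pow, h2,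
        mul_inv_cancel]
    · refine QuotientGroup.eq.2 ?_
      simpa [mul_assoc] using Subgroup.pow_mem _ h1 j

theorem frobenius_aux : ∀ (c : ℕ) (G : Type u) [Group G] [Finite G], Nat.card G = c →
    ∀ n, n ∣ Nat.card G → n ∣ Nat.card {g : G // g ^ n = 1} := by
  intro c
  induction c using Nat.strong_induction_on with
  | _ c IH =>
  intro G _ _ hc
  suffices ∀ d n : ℕ, n * d = Nat.card G → n ∣ Nat.card {g : G // g ^ n = 1} from
    fun n ⟨d, hd⟩ => this d n hd.symm
  intro d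
  induction d using Nat.strong_induction_on with
  | _ d IHd =>
  intro n hnd
  by_cases hd1 : d = 1
  · subst hd1
    rw [mul_one] at hnd
    subst hnd
    rw [Nat.card_congr (Equiv.subtypeUnivEquiv fun g : G => pow_card_eq_one')]
  obtain ⟨p, hp, hpd⟩ := Nat.exists_prime_and_dvd hd1
  have hd0 : 0 < d := Nat.pos_of_ne_zero (by
    rintro rfl; simp at hnd; exact absurd hnd.symm Nat.card_pos.ne')
  have hn0 : n ≠ 0 := by
    rintro rfl; simp at hnd; exact absurd hnd.symm Nat.card_pos.ne'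
  obtain ⟨d', rfl⟩ := hpd
  have hnp := IHd d' (lt_mul_of_one_lt_left (Nat.pos_of_mul_pos_left hd0) hp.one_lt) (n * p)
    (by rw [← hnd, mul_assoc])
  obtain ⟨a, k, hk, rfl⟩ := Nat.exists_eq_pow_mul_and_not_dvd hn0 p hp.ne_one
  have hcop : Nat.Coprime (p ^ (a + 1)) k :=
    Nat.Coprime.pow_left _ (hp.coprime_iff_not_dvd.2 hk)
  obtain ⟨e, he1, he0⟩ := Nat.chineseRemainder hcop 1 0
  have hM : p ^ a * k * p = p ^ (a + 1) * k := by rw [pow_succ]; ring
  have hMG : p ^ (a + 1) * k ∣ Nat.card G := ⟨d', by rw [← hnd, ← hM]; ring⟩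
  have hlayer : ∀ g : G, g ^ (p ^ (a + 1) * k) = 1 →
      (¬ g ^ (p ^ a * k) = 1 ↔ p ^ (a + 1) ∣ orderOf g) := by
    intro g hg
    rw [← orderOf_dvd_iff_pow_eq_one] at hg ⊢
    constructor
    · intro h
      by_contra hnot
      apply h
      obtain ⟨x, y, hx, hy, hxy⟩ := Nat.dvd_mul.1 hg
      obtain ⟨i, hi, rfl⟩ := (Nat.dvd_prime_pow hp).1 hx
      rw [← hxy]
      rcases Nat.lt_or_eq_of_le hi with hlt | rfl
      · exact mul_dvd_mul (pow_dvd_pow p (Nat.le_of_lt_succ hlt)) hy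
      · exact absurd (hxy ▸ dvd_mul_right _ _) hnot
    · intro h h'
      have := (Nat.Coprime.dvd_of_dvd_mul_right
        (hcop : Nat.Coprime (p ^ (a + 1)) k) (h.trans h'))
      exact absurd (Nat.le_of_dvd (pow_pos hp.pos a) this)
        (Nat.not_le.2 (Nat.pow_lt_pow_right hp.one_lt a.lt_succ_self))
  have hsplit : Nat.card {g : G // g ^ (p ^ a * k * p) = 1} =
      Nat.card {g : G // g ^ (p ^ a * k) = 1} +
        Nat.card {g : G // orderOf g ∣ p ^ (a + 1) * k ∧ p ^ (a + 1) ∣ orderOf g} := by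
    rw [hM, ← Nat.card_sum]
    refine Nat.card_congr ((Equiv.sumCompl fun g : {g : G // g ^ (p ^ (a + 1) * k) = 1} =>
      g.1 ^ (p ^ a * k) = 1).symm.trans (Equiv.sumCongr ?_ ?_))
    · exact (Equiv.subtypeSubtypeEquivSubtype (p := fun g : G => g ^ (p ^ (a + 1) * k) = 1)
        (q := fun g : G => g ^ (p ^ a * k) = 1) fun {g} hg => by
          rw [← orderOf_dvd_iff_pow_eq_one] at hg ⊢
          exact hg.trans (mul_dvd_mul_right (pow_dvd_pow p a.le_succ) k))
    · refine (Equiv.subtypeSubtypeEquivSubtypeInter (fun g : G => g ^ (p ^ (a + 1) * k) = 1)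
        (fun g : G => ¬ g ^ (p ^ a * k) = 1)).trans (Equiv.subtypeEquivRight fun g => ?_)
      rw [orderOf_dvd_iff_pow_eq_one]
      exact and_congr_right fun hg => hlayer g hg
  have hYk : k ∣ Nat.card {g : G // orderOf g ∣ p ^ (a + 1) * k ∧ p ^ (a + 1) ∣ orderOf g} := by
    have h1 : Nat.card {g : G // orderOf g ∣ p ^ (a + 1) * k ∧ p ^ (a + 1) ∣ orderOf g} =
        Nat.card {g : G // g ^ (p ^ (a + 1) * k) = 1 ∧ orderOf (g ^ e) = p ^ (a + 1)} := by
      refine Nat.card_congr (Equiv.subtypeEquivRight fun g => ?_)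
      rw [orderOf_dvd_iff_pow_eq_one]
      refine and_congr_right fun hg => ⟨fun h => ?_, fun h => ?_⟩
      · have h2 : orderOf (g ^ e) ∣ p ^ (a + 1) := by
          refine orderOf_dvd_of_pow_eq_one ?_
          rw [← pow_mul]
          refine orderOf_dvd_iff_pow_eq_one.1 ((orderOf_dvd_of_pow_eq_one hg).trans ?_)
          rw [mul_comm]
          exact mul_dvd_mul_right (Nat.modEq_zero_iff_dvd.1 he0) _
        refine Nat.dvd_antisymm h2 ?_
        rw [orderOf_pow]
        have hce : Nat.Coprime (p ^ (a + 1)) e := by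
          rw [Nat.coprime_iff_gcd_eq_one, Nat.gcd_comm, he1.gcd_eq, Nat.gcd_one_left]
        refine (Nat.Coprime.dvd_of_dvd_mul_right ?_ (h.trans (dvd_of_eq
          (Nat.div_mul_cancel (Nat.gcd_dvd_left (orderOf g) e)).symm)))
        exact hce.coprime_dvd_right (Nat.gcd_dvd_right _ _)
      · rw [← h]; exact orderOf_pow_dvd e
    rw [h1]
    refine dvd_card_of_centralizers he1 he0 (fun u => orderOf u = p ^ (a + 1)) ?_ ?_
      ((dvd_mul_left _ _).trans hMG) ?_
    · intro g u hu; rw [← MulAut.conj_apply, MulEquiv.orderOf_eq]; exact hu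
    · intro u hu; rw [← hu]; exact pow_orderOf_eq_one u
    intro u hu
    rw [card_commute_eq]
    set C := Subgroup.centralizer ({u} : Set G) with hC
    let w : C := ⟨u, Subgroup.mem_centralizer_singleton_iff.2 rfl⟩
    have hw : ∀ h : C, Commute w h := fun h =>
      Subtype.ext (Subgroup.mem_centralizer_singleton_iff.1 h.2).symm
    have hwo : orderOf w = p ^ (a + 1) := by rw [Subgroup.orderOf_mk]; exact hu
    have hnorm : (Subgroup.zpowers w).Normal := ⟨fun x hx h => by
      obtain ⟨i, rfl⟩ := Subgroup.mem_zpowers_iff.1 hx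
      rw [← ((hw h).zpow_left i).eq, mul_inv_cancel_right]; exact hx⟩
    have hcard := Subgroup.card_eq_card_quotient_mul_card_subgroup (Subgroup.zpowers w)
    rw [Nat.card_zpowers, hwo] at hcard
    have hlt : Nat.card (C ⧸ Subgroup.zpowers w) < c := by
      refine lt_of_lt_of_le ?_ (hc ▸ Subgroup.card_le_card_group C)
      rw [hcard]
      exact lt_mul_of_one_lt_right Nat.card_pos (Nat.one_lt_pow (Nat.succ_ne_zero a) hp.one_lt)
    have hgcd : Nat.gcd k (Nat.card C) = Nat.gcd k (Nat.card (C ⧸ Subgroup.zpowers w)) := by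
      rw [hcard, Nat.Coprime.gcd_mul_right_cancel_right _ hcop]
    rw [hgcd, card_pow_eq_one_quotient w hw (hwo ▸ hcop),
      ← card_pow_eq_one_gcd (G := C ⧸ Subgroup.zpowers w) k]
    exact IH _ hlt (C ⧸ Subgroup.zpowers w) rfl _ (Nat.gcd_dvd_right _ _)
  have hY : p ^ a * k ∣
      Nat.card {g : G // orderOf g ∣ p ^ (a + 1) * k ∧ p ^ (a + 1) ∣ orderOf g} :=
    Nat.Coprime.mul_dvd_of_dvd_of_dvd (Nat.Coprime.pow_left _ (hp.coprime_iff_not_dvd.2 hk))
      (pow_dvd_card_layer p a hp _) hYk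
  exact (Nat.dvd_add_left hY).1 (hsplit ▸ (dvd_mul_right _ p).trans hnp)

/-- **Frobenius.** -/
theorem dvd_card_pow_eq_one {G : Type u} [Group G] [Finite G] {m : ℕ} (hm : m ∣ Nat.card G) :
    m ∣ Nat.card {g : G // g ^ m = 1} :=
  frobenius_aux _ G rfl m hm

/-- Zero or a multiple of the `n'`-part: the elements of order divisible by `n`. -/
theorem card_dvd_orderOf {G : Type u} [Group G] [Finite G] (n : ℕ) (hn : 0 < n) :
    Nat.card {g : G // n ∣ orderOf g} = 0 ∨
      (Nat.card G / Nat.gcd (Nat.card G) (n ^ Nat.card G)) ∣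
        Nat.card {g : G // n ∣ orderOf g} := by
  by_cases hnG : n ∣ Nat.card G
  swap
  · left
    rw [Nat.card_eq_zero]
    exact Or.inl ⟨fun g => hnG (g.2.trans (orderOf_dvd_natCard g.1))⟩
  right
  set c := Nat.card G with hc
  have hc0 : c ≠ 0 := Nat.card_pos.ne'
  set N := Nat.gcd c (n ^ c) with hN
  set K := c / N with hK
  have hNK : N * K = c := Nat.mul_div_cancel' (Nat.gcd_dvd_left _ _)
  have hnN : n ∣ N := Nat.dvd_gcd hnG (dvd_pow_self n hc0)
  have hcn : Nat.Coprime n K := by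
    rw [Nat.coprime_iff_gcd_eq_one]
    by_contra hg
    obtain ⟨q, hq, hqd⟩ := Nat.exists_prime_and_dvd hg
    obtain ⟨hqn, hqK⟩ := Nat.dvd_gcd_iff.1 hqd
    have hv : q ^ (c.factorization q) ∣ N := by
      refine Nat.dvd_gcd (Nat.ordProj_dvd c q) ?_
      exact (pow_dvd_pow q (Nat.factorization_lt q hc0).le).trans (pow_dvd_pow_of_dvd hqn c)
    have h2 : q ^ (c.factorization q + 1) ∣ c := by
      rw [pow_succ]; exact (mul_dvd_mul hv hqK).trans (dvd_of_eq hNK)
    have := (hq.pow_dvd_iff_le_factorization hc0).1 h2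
    omega
  have hcop : Nat.Coprime N K := (hcn.pow_left c).coprime_dvd_left (Nat.gcd_dvd_right _ _)
  obtain ⟨e, he1, he0⟩ := Nat.chineseRemainder hcop 1 0
  have hPN : ∀ g : G, (g ^ e) ^ N = 1 := fun g => by
    rw [← pow_mul]
    refine orderOf_dvd_iff_pow_eq_one.1 ((orderOf_dvd_natCard g).trans ?_)
    rw [← hc, ← hNK, mul_comm]
    exact mul_dvd_mul_right (Nat.modEq_zero_iff_dvd.1 he0) _
  have h1 : Nat.card {g : G // n ∣ orderOf g} =
      Nat.card {g : G // g ^ (N * K) = 1 ∧ (n ∣ orderOf (g ^ e) ∧ (g ^ e) ^ N = 1)} := by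
    refine Nat.card_congr (Equiv.subtypeEquivRight fun g => ?_)
    refine ⟨fun h => ⟨by rw [hNK]; exact pow_card_eq_one', ?_, hPN g⟩,
      fun h => h.2.1.trans (orderOf_pow_dvd e)⟩
    rw [orderOf_pow]
    have hce : Nat.Coprime n e := by
      rw [Nat.coprime_iff_gcd_eq_one, Nat.gcd_comm, (he1.of_dvd hnN).gcd_eq, Nat.gcd_one_left]
    exact (hce.coprime_dvd_right (Nat.gcd_dvd_right _ _)).dvd_of_dvd_mul_right
      (h.trans (dvd_of_eq (Nat.div_mul_cancel (Nat.gcd_dvd_left (orderOf g) e)).symm))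
  rw [h1]
  refine dvd_card_of_centralizers he1 he0 (fun u => n ∣ orderOf u ∧ u ^ N = 1) ?_
    (fun u hu => hu.2) ((dvd_mul_left K N).trans (dvd_of_eq hNK)) fun u _ => ?_
  · intro g u hu
    refine ⟨?_, by rw [conj_pow, hu.2]; simp⟩
    rw [← MulAut.conj_apply, MulEquiv.orderOf_eq]; exact hu.1
  · rw [card_commute_eq, ← card_pow_eq_one_gcd]
    exact dvd_card_pow_eq_one (Nat.gcd_dvd_right _ _)

end Cfsg.Agent.Lib.Fg6.FrobeniusTheorem
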