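/-
Wielandt's count: subgroups of prime power order are 1 mod p in number.
-/
import Mathlib.GroupTheory.Sylow
import Mathlib.GroupTheory.GroupAction.Quotient
import Mathlib.GroupTheory.SpecificGroups.Cyclic
import Mathlib.Algebra.Group.Pointwise.Set.Scalar
import Mathlib.Data.ZMod.Basic
import Mathlib.Data.Set.Card

set_option autoImplicit false
set_option linter.style.haveILetI false

namespace Cfsg.Agent.Lib.Fg6.SubgroupCount

open Subgroup MulAction
open scoped Pointwise

variable {G : Type*} [Group G] [Finite G]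

theorem ncard_smul_eq (g : G) (S : Set G) : (g • S).ncard = S.ncard :=
  Set.ncard_image_of_injective S (MulAction.injective g)

/-- The stabiliser of a set has order dividing the size of the set. -/
theorem card_stabilizer_dvd (S : Set G) : Nat.card (stabilizer G S) ∣ S.ncard := by
  set H := stabilizer G S with hH
  have hsat : ∀ h ∈ H, ∀ s ∈ S, h * s ∈ S := fun h hh s hs => by
    have : h • s ∈ h • S := Set.smul_mem_smul_set hs
    rwa [mem_stabilizer_iff.1 hh] at this
  have hpre : S⁻¹ = (QuotientGroup.mk : G → G ⧸ H) ⁻¹' ((QuotientGroup.mk : G → G ⧸ H) '' S⁻¹) := by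
    refine Set.Subset.antisymm (Set.subset_preimage_image _ _) ?_
    rintro x ⟨y, hy, hxy⟩
    rw [Set.mem_inv] at hy ⊢
    have := hsat _ (inv_mem (QuotientGroup.eq.1 hxy)) _ hy
    rwa [mul_inv_rev, inv_inv, mul_assoc, mul_inv_cancel, mul_one] at this
  refine ⟨((QuotientGroup.mk : G → G ⧸ H) '' S⁻¹).ncard, ?_⟩
  rw [← Set.ncard_image_of_injective S inv_injective, Set.image_inv_eq_inv, ← Nat.card_coe_set_eq, ← Nat.card_coe_set_eq, ← Nat.card_prod]
  conv_lhs => rw [hpre]
  exact Nat.card_congr (QuotientGroup.preimageMkEquivSubgroupProdSet H _)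

/-- If the stabiliser is as large as the set, the set is a right coset of it. -/
theorem exists_eq_translate (S : Set G) (hS : S.Nonempty)
    (h : Nat.card (stabilizer G S) = S.ncard) :
    ∃ (K : Subgroup G) (g : G), Nat.card K = S.ncard ∧ g • (K : Set G) = S := by
  obtain ⟨s, hs⟩ := hS
  refine ⟨(stabilizer G S).map (MulAut.conj s⁻¹).toMonoidHom, s,
    by rw [card_map_of_injective (MulAut.conj s⁻¹).injective, h], ?_⟩
  refine Set.eq_of_subset_of_ncard_le ?_ (le_of_eq ?_)
  · rintro x ⟨k, hk, rfl⟩
    obtain ⟨y, hy, rfl⟩ := hk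
    have : y • s ∈ y • S := Set.smul_mem_smul_set hs
    rw [mem_stabilizer_iff.1 hy] at this
    show s * (s⁻¹ * y * s⁻¹⁻¹) ∈ S
    rw [inv_inv, ← mul_assoc, ← mul_assoc, mul_inv_cancel, one_mul]
    exact this
  · rw [ncard_smul_eq, ← Nat.card_coe_set_eq (((stabilizer G S).map _ : Subgroup G) : Set G)]
    exact (h.symm.trans (card_map_of_injective (MulAut.conj s⁻¹).injective).symm)

theorem stabilizer_coe (H : Subgroup G) : stabilizer G (H : Set G) = H := by
  ext g
  rw [mem_stabilizer_iff]
  constructor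
  · intro h
    have : g • (1 : G) ∈ g • (H : Set G) := Set.smul_mem_smul_set (one_mem H)
    rwa [h, smul_eq_mul, mul_one] at this
  · exact fun hg => smul_coe_set hg

/-- Right-hand form: the number of `p ^ β`-subsets is congruent to `(|G| / p ^ β)` times the number of
subgroups of that order, modulo `p * (|G| / p ^ β)`. -/
theorem card_subsets_modEq (p β : ℕ) (hp : p.Prime) (hdiv : p ^ β ∣ Nat.card G) :
    Nat.card {S : Set G // S.ncard = p ^ β} ≡
      (Nat.card G / p ^ β) * Nat.card {H : Subgroup G // Nat.card H = p ^ β}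
      [MOD p * (Nat.card G / p ^ β)] := by
  classical
  haveI := Fintype.ofFinite G
  haveI : Fintype (Subgroup G) := Fintype.ofFinite _
  haveI : Fintype (Quotient (orbitRel G (Set G))) := Fintype.ofFinite _
  set d := p ^ β with hd
  set m := Nat.card G / d with hm
  have hdm : d * m = Nat.card G := Nat.mul_div_cancel' hdiv
  let X : Finset (Set G) := Finset.univ.filter fun S => S.ncard = d
  have hX : Nat.card {S : Set G // S.ncard = d} = X.card := by
    rw [Nat.card_eq_fintype_card, Fintype.card_subtype]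
  have hinv : ∀ (g : G) (S : Set G), S.ncard = d → (g • S).ncard = d :=
    fun g S h => (ncard_smul_eq g S).trans h
  let π : Set G → Quotient (orbitRel G (Set G)) := Quotient.mk (orbitRel G (Set G))
  have hfib : ∀ S ∈ X, (X.filter fun T => π T = π S).card * Nat.card (stabilizer G S) = Nat.card G := by
    intro S hS
    have e : (X.filter fun T => π T = π S) = (orbit G S).toFinset := by
      ext T
      simp only [X, Finset.mem_filter, Finset.mem_univ, true_and, π, Quotient.eq, Set.mem_toFinset]
      constructor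
      · exact fun h => h.2
      · intro h
        refine ⟨?_, h⟩
        obtain ⟨g, rfl⟩ := h
        exact hinv g S (Finset.mem_filter.1 hS).2
    rw [e, Set.toFinset_card, Nat.card_eq_fintype_card, Nat.card_eq_fintype_card,
      card_orbit_mul_card_stabilizer_eq_card_group]
  let big : Finset (Quotient (orbitRel G (Set G))) :=
    (Finset.univ.filter fun H : Subgroup G => Nat.card H = d).image fun H : Subgroup G => π (H : Set G)
  have hbig : big.card = Nat.card {H : Subgroup G // Nat.card H = d} := by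
    rw [Nat.card_eq_fintype_card, Fintype.card_subtype]
    refine Finset.card_image_of_injOn fun H _ K _ hHK => ?_
    obtain ⟨g, hg⟩ := Quotient.eq.1 hHK
    simp only at hg
    have h1 : (1 : G) ∈ g • (K : Set G) := by rw [show g • (K : Set G) = H from hg]; exact one_mem H
    obtain ⟨k, hk, hgk⟩ := h1
    have hgK : g ∈ K := by
      have : g = k⁻¹ := eq_inv_of_mul_eq_one_left hgk
      rw [this]; exact inv_mem hk
    rw [show g • (K : Set G) = K from smul_coe_set hgK] at hg
    exact SetLike.coe_injective (Eq.symm hg)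
  have hsub : big ⊆ X.image π := by
    intro ω hω
    obtain ⟨H, hH, rfl⟩ := Finset.mem_image.1 hω
    refine Finset.mem_image.2 ⟨H, ?_, rfl⟩
    simp only [X, Finset.mem_filter, Finset.mem_univ, true_and]
    rw [← Nat.card_coe_set_eq]
    exact (Finset.mem_filter.1 hH).2
  have hbigfib : ∀ ω ∈ big, (X.filter fun T => π T = ω).card = m := by
    intro ω hω
    obtain ⟨H, hH, rfl⟩ := Finset.mem_image.1 hω
    have hHd := (Finset.mem_filter.1 hH).2
    have hHX : (H : Set G) ∈ X := by
      simp only [X, Finset.mem_filter, Finset.mem_univ, true_and]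
      rw [← Nat.card_coe_set_eq]; exact hHd
    have := hfib _ hHX
    rw [stabilizer_coe, hHd, ← hdm, mul_comm d] at this
    exact Nat.eq_of_mul_eq_mul_right (hd ▸ pow_pos hp.pos β) this
  have hsmall : ∀ ω ∈ X.image π \ big, p * m ∣ (X.filter fun T => π T = ω).card := by
    intro ω hω
    obtain ⟨hω1, hω2⟩ := Finset.mem_sdiff.1 hω
    obtain ⟨S, hS, rfl⟩ := Finset.mem_image.1 hω1
    have hSd : S.ncard = d := (Finset.mem_filter.1 hS).2
    obtain ⟨i, hi, hH⟩ := (Nat.dvd_prime_pow hp).1 ((card_stabilizer_dvd S).trans (hSd.trans hd).dvd)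
    have hne : i ≠ β := by
      rintro rfl
      obtain ⟨K, g, hK, hgK⟩ := exists_eq_translate S
        (Set.nonempty_of_ncard_ne_zero (by rw [hSd, hd]; exact pow_ne_zero _ hp.ne_zero)) (by rw [hH, hSd, hd])
      refine hω2 (Finset.mem_image.2 ⟨K, Finset.mem_filter.2 ⟨Finset.mem_univ _, hK.trans hSd⟩, Quotient.eq.2 ?_⟩)
      exact ⟨g⁻¹, by show g⁻¹ • S = (K : Set G); rw [← hgK, inv_smul_smul]⟩
    have h := hfib S hS
    rw [hH, ← hdm, hd] at h
    obtain ⟨j, rfl⟩ := Nat.exists_eq_add_of_le hi
    rw [pow_add, mul_assoc, mul_comm _ (p ^ i)] at h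
    have := Nat.eq_of_mul_eq_mul_left (pow_pos hp.pos i) h
    rw [this]
    exact Nat.mul_dvd_mul_right (dvd_pow_self p (by rintro rfl; simp at hne)) m
  rw [hX, Finset.card_eq_sum_card_fiberwise (t := X.image π) (f := π) (fun S hS => Finset.mem_image_of_mem π hS),
    ← Finset.sum_sdiff hsub, Finset.sum_congr rfl hbigfib, Finset.sum_const, hbig, smul_eq_mul, mul_comm m]
  obtain ⟨c, hc⟩ := Finset.dvd_sum hsmall
  rw [hc, Nat.add_comm]
  exact Nat.add_modulus_mul_modEq_iff.2 rfl

theorem card_subgroup_modEq_one (p β : ℕ) (hp : p.Prime) (hdiv : p ^ β ∣ Nat.card G) :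
    Nat.card {H : Subgroup G // Nat.card H = p ^ β} ≡ 1 [MOD p] := by
  classical
  haveI : NeZero (Nat.card G) := ⟨Nat.card_pos.ne'⟩
  let C := Multiplicative (ZMod (Nat.card G))
  have hC : Nat.card C = Nat.card G := (Nat.card_congr Multiplicative.toAdd).trans (Nat.card_zmod _)
  haveI : Fintype C := Fintype.ofFinite _
  have hm : 0 < Nat.card G / p ^ β :=
    Nat.div_pos (Nat.le_of_dvd Nat.card_pos hdiv) (pow_pos hp.pos β)
  have h1 := card_subsets_modEq (G := G) p β hp hdiv
  have h2 := card_subsets_modEq (G := C) p β hp (hC ▸ hdiv)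
  rw [hC] at h2
  have e : Nat.card {S : Set G // S.ncard = p ^ β} = Nat.card {S : Set C // S.ncard = p ^ β} := by
    obtain ⟨f⟩ := Finite.card_eq.1 hC.symm
    exact Nat.card_congr ((Equiv.Set.congr f).subtypeEquiv fun S => by
      show S.ncard = _ ↔ (f '' S).ncard = _
      rw [Set.ncard_image_of_injective S f.injective])
  have one : Nat.card {H : Subgroup C // Nat.card H = p ^ β} = 1 := by
    rw [Nat.card_eq_one_iff_unique]
    haveI := Fact.mk hp
    obtain ⟨H, hH⟩ := Sylow.exists_subgroup_card_pow_prime (G := C) p (hC ▸ hdiv)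
    refine ⟨⟨fun A B => Subtype.ext ?_⟩, ⟨⟨H, hH⟩⟩⟩
    have key : ∀ A : Subgroup C, Nat.card A = p ^ β →
        (A : Set C) = {x : C | x ^ p ^ β = 1} := by
      intro A hA
      refine Set.eq_of_subset_of_ncard_le (fun x hx => ?_) ?_
      · exact orderOf_dvd_iff_pow_eq_one.1 (hA ▸ orderOf_dvd_natCard A hx)
      · rw [← Nat.card_coe_set_eq (A : Set C), show Nat.card (A : Set C) = p ^ β from hA,
          Set.ncard_eq_toFinset_card', Set.toFinset_ofPred]
        exact IsCyclic.card_pow_eq_one_le (pow_pos hp.pos β)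
    exact SetLike.coe_injective ((key _ A.2).trans (key _ B.2).symm)
  rw [one, ← e] at h2
  have h3 := h1.symm.trans h2
  rw [mul_comm p] at h3
  exact Nat.ModEq.mul_left_cancel' hm.ne' h3

end Cfsg.Agent.Lib.Fg6.SubgroupCount
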