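/-
Kulakoff's theorem: in a noncyclic `p`-group, `p` odd, the cyclic subgroups of order `p ^ s`,
`2 ≤ s`, are a multiple of `p` in number.
-/
import Cfsg.Agent.Lib.Fg6.SubgroupCount
import Cfsg.Agent.Lib.PGroups.CyclicIndexP
import Cfsg.Agent.Lib.PGroups.Frattini
import Cfsg.Agent.Lib.PGroups.Omega
import Mathlib.GroupTheory.QuotientGroup.Basic

set_option autoImplicit false
set_option linter.style.haveILetI false

namespace Cfsg.Agent.Lib.Fg6.Kulakoff

open Subgroup
open scoped commutatorElement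

section Basic

variable {G : Type*} [Group G] [Finite G]

/-- The elements of order `q` are `φ q` times the cyclic subgroups of order `q`. -/
theorem card_orderOf_eq_totient_mul (q : ℕ) :
    Nat.card {g : G // orderOf g = q} =
      q.totient * Nat.card {U : Subgroup G // IsCyclic U ∧ Nat.card U = q} := by
  classical
  have := Fintype.ofFinite G
  have := Fintype.ofFinite (Subgroup G)
  rw [Nat.card_eq_fintype_card, Fintype.card_subtype, Nat.card_eq_fintype_card,
    Fintype.card_subtype, Finset.card_eq_sum_card_fiberwise (f := Subgroup.zpowers)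
      (t := Finset.univ.filter fun U : Subgroup G => IsCyclic U ∧ Nat.card U = q)
      (fun g hg => Finset.mem_filter.2 ⟨Finset.mem_univ _, inferInstance,
        (Nat.card_zpowers g).trans (Finset.mem_filter.1 hg).2⟩)]
  rw [Finset.sum_congr rfl (g := fun _ => q.totient), Finset.sum_const, smul_eq_mul, mul_comm]
  intro U hU
  obtain ⟨-, hUc, hUq⟩ := Finset.mem_filter.1 hU
  obtain ⟨y, rfl⟩ := (U.isCyclic_iff_exists_zpowers_eq_top).1 hUc
  rw [Nat.card_zpowers] at hUq
  subst hUq
  rw [← IsCyclic.card_orderOf_eq_totient (α := Subgroup.zpowers y) (d := orderOf y)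
    (by rw [← Nat.card_eq_fintype_card, Nat.card_zpowers])]
  refine Finset.card_bij'
    (fun g hg => (⟨g, (Finset.mem_filter.1 hg).2 ▸ Subgroup.mem_zpowers g⟩ : Subgroup.zpowers y))
    (fun z _ => (z : G)) ?_ ?_ ?_ ?_
  · intro g hg
    simp only [Finset.mem_filter, Finset.mem_univ, true_and] at hg ⊢
    rw [Subgroup.orderOf_mk]; exact hg.1
  · intro z hz
    simp only [Finset.mem_filter, Finset.mem_univ, true_and] at hz ⊢
    have hzo : orderOf (z : G) = orderOf y := by rw [Subgroup.orderOf_coe]; exact hz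
    refine ⟨hzo, Subgroup.eq_of_le_of_card_ge (Subgroup.zpowers_le.2 z.2) ?_⟩
    rw [Nat.card_zpowers, Nat.card_zpowers, hzo]
  · intros; rfl
  · intros; rfl

end Basic

section PGroup

variable {P : Type*} [Group P] [Finite P] {p : ℕ} [hp : Fact p.Prime]

/-- In a noncyclic `p`-group, `p` odd, of order at least `p ^ 3` with a cyclic maximal subgroup
there are exactly `p` of those. -/
theorem card_cyclic_maximal (hodd : p ≠ 2) (hP : IsPGroup p P) (hnc : ¬ IsCyclic P) {n : ℕ}
    (hcard : Nat.card P = p ^ (n + 3)) {a : P} (ha : orderOf a = p ^ (n + 2)) :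
    Nat.card {U : Subgroup P // IsCyclic U ∧ Nat.card U = p ^ (n + 2)} = p := by
  classical
  have hpp : p.Prime := Fact.out
  have hidx : (Subgroup.zpowers a).index = p := by
    have h := (Subgroup.zpowers a).card_mul_index
    rw [Nat.card_zpowers, ha, hcard, pow_succ p (n + 2)] at h
    exact Nat.eq_of_mul_eq_mul_left (pow_pos hpp.pos _) h
  have hCn := PGroups.coe_index_prime_normal hP hidx
  obtain ⟨E, hE, hEa, hEc⟩ := PGroups.omega_of_cyclic_index_prime hodd hP hnc
    (C := Subgroup.zpowers a) inferInstance hidx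
  have hEn : E.Normal := ⟨fun x hx g => (hE _).2 (by rw [conj_pow, (hE x).1 hx, mul_one,
    mul_inv_cancel])⟩
  have hint : ∀ z ∈ Subgroup.zpowers a ⊓ E, z ^ p = 1 ∧ z ∈ Subgroup.center P := by
    intro z hz
    refine ⟨(hE z).1 hz.2, ?_⟩
    have hcyc : IsCyclic (Subgroup.zpowers a ⊓ E : Subgroup P) :=
      Subgroup.isCyclic_of_le inf_le_left
    have hd : Nat.card (Subgroup.zpowers a ⊓ E : Subgroup P) ∣ p :=
      PGroups.elemAb_card_dvd_of_isCyclic (PGroups.elemAb_mono hEa inf_le_right)
    rcases (Nat.dvd_prime hpp).1 hd with h1 | h1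
    · rw [Subgroup.eq_bot_of_card_eq _ h1, Subgroup.mem_bot] at hz
      rw [hz]; exact one_mem _
    · exact PGroups.le_center_of_normal_card_prime hP _ h1 hz
  have hsup : Subgroup.zpowers a ⊔ E = ⊤ := by
    have hnle : ¬ E ≤ Subgroup.zpowers a := fun hle => by
      have hcyc : IsCyclic E := Subgroup.isCyclic_of_le hle
      exact PGroups.not_isCyclic_of_elemAb_card le_rfl hEa hEc hcyc
    obtain ⟨e, heE, heC⟩ := SetLike.not_le_iff_exists.1 hnle
    refine Subgroup.eq_top_of_le_card _ ?_
    calc Nat.card P = Nat.card (Subgroup.zpowers a) * p := by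
            rw [← hidx, Subgroup.card_mul_index]
      _ ≤ _ := PGroups.card_mul_le_card_of_mem le_sup_left (hP.to_subgroup _)
            (le_sup_right (a := Subgroup.zpowers a) heE) heC
  set q := p ^ (n + 1) with hq
  have hqp : p ∣ q := dvd_pow_self p n.succ_ne_zero
  have hsplit : ∀ c ∈ Subgroup.zpowers a, ∀ e ∈ E, (c * e) ^ q = c ^ q := by
    intro c hc e he
    have hce : ⁅e, c⁆ ∈ Subgroup.zpowers a ⊓ E := by
      refine Subgroup.mem_inf.2 ⟨?_, ?_⟩
      · rw [commutatorElement_def]
        exact mul_mem (hCn.conj_mem c hc e) (inv_mem hc)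
      · rw [commutatorElement_def, mul_assoc, mul_assoc]
        refine mul_mem he ?_
        rw [← mul_assoc]
        exact hEn.conj_mem _ (inv_mem he) c
    obtain ⟨h1, h2⟩ := hint _ hce
    obtain ⟨d, hd⟩ : p ∣ q.choose 2 := by
      refine hq ▸ PGroups.prime_dvd_choose_two ?_ (by omega)
      intro h
      have h' : p ∣ 2 := h ▸ dvd_pow_self p n.succ_ne_zero
      exact hodd ((Nat.prime_dvd_prime_iff_eq hpp Nat.prime_two).1 h')
    obtain ⟨k, hk⟩ := hqp
    rw [PGroups.mul_pow_of_central_commutator c e (Subgroup.mem_center_iff.1 h2 c)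
      (Subgroup.mem_center_iff.1 h2 e), hd, pow_mul, h1, one_pow, mul_one, hk, pow_mul e,
      (hE e).1 he, one_pow, mul_one]
  have hmem : ∀ x : P, ∃ c ∈ Subgroup.zpowers a, ∃ e ∈ E, c * e = x := fun x =>
    Subgroup.mem_sup_of_normal_right.1 (hsup ▸ Subgroup.mem_top x)
  let f : P →* P := MonoidHom.mk' (fun x => x ^ q) (by
    intro x y
    obtain ⟨c, hc, e, he, rfl⟩ := hmem x
    obtain ⟨d, hd, e', he', rfl⟩ := hmem y
    have h1 : c * e * (d * e') = (c * d) * ((d⁻¹ * e * d) * e') := by group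
    have h2 : d⁻¹ * e * d ∈ E := by simpa using hEn.conj_mem e he d⁻¹
    rw [h1, hsplit _ (mul_mem hc hd) _ (mul_mem h2 he'), hsplit c hc e he, hsplit d hd e' he']
    obtain ⟨i, rfl⟩ := Subgroup.mem_zpowers_iff.1 hc
    obtain ⟨j, rfl⟩ := Subgroup.mem_zpowers_iff.1 hd
    exact ((Commute.refl a).zpow_zpow i j).mul_pow q)
  have hrange : f.range = Subgroup.zpowers (a ^ q) := by
    refine le_antisymm ?_ (Subgroup.zpowers_le.2 ⟨a, rfl⟩)
    rintro _ ⟨x, rfl⟩
    obtain ⟨c, hc, e, he, rfl⟩ := hmem x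
    obtain ⟨i, rfl⟩ := Subgroup.mem_zpowers_iff.1 hc
    show (a ^ i * e) ^ q ∈ _
    rw [hsplit _ hc e he]
    refine Subgroup.mem_zpowers_iff.2 ⟨i, ?_⟩
    rw [← zpow_natCast (a ^ i), ← zpow_mul, ← zpow_natCast a, ← zpow_mul, mul_comm]
  have hker : Nat.card f.ker = p ^ (n + 2) := by
    have h := f.ker.card_mul_index
    rw [Subgroup.index_ker, hrange, Nat.card_zpowers, hcard, pow_succ _ (n + 2)] at h
    have hz : orderOf (a ^ q) = p := by
      rw [orderOf_pow_of_dvd (pow_ne_zero _ hpp.ne_zero) (by rw [ha]; exact pow_dvd_pow _ (by omega)),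
        ha, Nat.pow_div (by omega) hpp.pos]
      simp
    rw [hz] at h
    exact Nat.eq_of_mul_eq_mul_right hpp.pos h
  have hiff : ∀ x : P, orderOf x = p ^ (n + 2) ↔ x ∉ f.ker := by
    intro x
    show _ ↔ ¬ x ^ q = 1
    obtain ⟨i, hi⟩ := IsPGroup.iff_orderOf.1 hP x
    rw [← orderOf_dvd_iff_pow_eq_one, hi, hq, Nat.pow_dvd_pow_iff_le_right hpp.one_lt]
    constructor
    · intro h; have := Nat.pow_right_injective hpp.two_le h; omega
    · intro h
      have h1 : p ^ i ∣ p ^ (n + 3) := hi ▸ hcard ▸ orderOf_dvd_natCard x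
      rw [Nat.pow_dvd_pow_iff_le_right hpp.one_lt] at h1
      rcases eq_or_ne i (n + 3) with rfl | hne
      · exact absurd (isCyclic_of_orderOf_eq_card x (hi.trans hcard.symm)) hnc
      · rw [show i = n + 2 by omega]
  have hcount : Nat.card {x : P // orderOf x = p ^ (n + 2)} + p ^ (n + 2) = p ^ (n + 3) := by
    have h := Nat.card_congr ((Equiv.sumCongr (Equiv.refl {x // x ∈ f.ker})
      (Equiv.subtypeEquivRight hiff)).trans (Equiv.sumCompl fun x => x ∈ f.ker))
    rw [Nat.card_sum, hker, hcard] at h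
    omega
  rw [card_orderOf_eq_totient_mul, Nat.totient_prime_pow_succ hpp, pow_succ p (n + 2)] at hcount
  obtain ⟨r, rfl⟩ : ∃ r, p = r + 2 := ⟨p - 2, by have := hpp.two_le; omega⟩
  have h2 : (r + 2) ^ (n + 1) * ((r + 1) * Nat.card {U : Subgroup P //
      IsCyclic U ∧ Nat.card U = (r + 2) ^ (n + 2)}) = (r + 2) ^ (n + 1) * ((r + 1) * (r + 2)) := by
    rw [show r + 2 - 1 = r + 1 by omega, pow_succ _ (n + 1)] at hcount
    rw [pow_succ _ (n + 1)]
    nlinarith
  exact Nat.eq_of_mul_eq_mul_left (by omega)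
    (Nat.eq_of_mul_eq_mul_left (pow_pos hpp.pos _) h2)

/-- In a `p`-group the maximal subgroups above a proper subgroup are `1` mod `p` in number. -/
theorem card_maximal_above (hP : IsPGroup p P) {U : Subgroup P} (hU : U ≠ ⊤) :
    Nat.card {M : Subgroup P // M.index = p ∧ U ≤ M} ≡ 1 [MOD p] := by
  have hpp : p.Prime := Fact.out
  let N := Subgroup.normalClosure (U : Set P)
  have hUN : U ≤ N := Subgroup.le_normalClosure
  have hM : ∀ M : Subgroup P, M.index = p → M.Normal := fun M hM =>
    PGroups.coe_index_prime_normal hP hM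
  obtain ⟨M₀, hM₀, hUM₀⟩ := (eq_top_or_exists_le_coatom U).resolve_left hU
  have := PGroups.coatom_normal hP hM₀
  have hNM₀ : N ≤ M₀ := Subgroup.normalClosure_le_normal hUM₀
  obtain ⟨j, hj⟩ := IsPGroup.iff_card.1 (hP.to_quotient N)
  obtain ⟨i, rfl⟩ : ∃ i, j = i + 1 := by
    rcases j with _ | i
    · exfalso
      have h1 : N.index = 1 := hj.trans (pow_zero p)
      exact hM₀.ne_top (top_le_iff.1 (Subgroup.index_eq_one.1 h1 ▸ hNM₀))
    · exact ⟨i, rfl⟩
  have key : ∀ K : Subgroup (P ⧸ N), Nat.card K = p ^ i ↔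
      (K.comap (QuotientGroup.mk' N)).index = p := by
    intro K
    rw [Subgroup.index_comap_of_surjective _ (QuotientGroup.mk'_surjective N)]
    have h := K.card_mul_index
    rw [hj, pow_succ] at h
    constructor
    · intro h'; rw [h'] at h
      exact Nat.eq_of_mul_eq_mul_left (pow_pos hpp.pos _) h
    · intro h'; rw [h'] at h
      exact Nat.eq_of_mul_eq_mul_right hpp.pos h
  have e : {K : Subgroup (P ⧸ N) // Nat.card K = p ^ i} ≃
      {M : Subgroup P // M.index = p ∧ U ≤ M} :=
    { toFun := fun K => ⟨K.1.comap (QuotientGroup.mk' N), (key K.1).1 K.2,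
        hUN.trans (QuotientGroup.le_comap_mk' N K.1)⟩
      invFun := fun M => ⟨M.1.map (QuotientGroup.mk' N), (key _).2 (by
        rw [Subgroup.comap_map_eq, QuotientGroup.ker_mk', sup_eq_left.2
          (have := hM M.1 M.2.1; Subgroup.normalClosure_le_normal M.2.2)]
        exact M.2.1)⟩
      left_inv := fun K => Subtype.ext
        (Subgroup.map_comap_eq_self_of_surjective (QuotientGroup.mk'_surjective N) K.1)
      right_inv := fun M => Subtype.ext (by
        show (M.1.map _).comap _ = M.1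
        rw [Subgroup.comap_map_eq, QuotientGroup.ker_mk', sup_eq_left.2
          (have := hM M.1 M.2.1; Subgroup.normalClosure_le_normal M.2.2)]) }
  rw [← Nat.card_congr e]
  exact SubgroupCount.card_subgroup_modEq_one (G := P ⧸ N) p i hpp ⟨p, by rw [hj, pow_succ]⟩

end PGroup

section Main

variable {G : Type*} [Group G] [Finite G] {p : ℕ} [hp : Fact p.Prime]

/-- The cyclic subgroups of order `q` inside `H`. -/
abbrev CycIn (H : Subgroup G) (q : ℕ) := {U : Subgroup G // IsCyclic U ∧ Nat.card U = q ∧ U ≤ H}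

theorem card_cycIn (H : Subgroup G) (q : ℕ) :
    Nat.card (CycIn H q) = Nat.card {U : Subgroup H // IsCyclic U ∧ Nat.card U = q} := by
  refine Nat.card_congr
    { toFun := fun U => ⟨U.1.subgroupOf H,
        (Subgroup.subgroupOfEquivOfLe U.2.2.2).isCyclic.2 U.2.1,
        (Nat.card_congr (Subgroup.subgroupOfEquivOfLe U.2.2.2).toEquiv).trans U.2.2.1⟩
      invFun := fun U => ⟨U.1.map H.subtype,
        (U.1.equivMapOfInjective H.subtype H.subtype_injective).isCyclic.1 U.2.1,
        (Subgroup.card_map_of_injective H.subtype_injective).trans U.2.2,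
        Subgroup.map_subtype_le _⟩
      left_inv := fun U => Subtype.ext (Subgroup.map_subgroupOf_eq_of_le U.2.2.2)
      right_inv := fun U => Subtype.ext (Subgroup.comap_map_eq_self_of_injective H.subtype_injective _) }

/-- A cyclic group has at most one subgroup of each order. -/
theorem eq_of_card_eq_of_isCyclic {M : Type*} [Group M] [Finite M] [IsCyclic M] {A B : Subgroup M}
    (h : Nat.card A = Nat.card B) : A = B := by
  classical
  have := Fintype.ofFinite M
  have key : ∀ C : Subgroup M, (C : Set M) = {x : M | x ^ Nat.card C = 1} := by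
    intro C
    refine Set.eq_of_subset_of_ncard_le (fun x hx => ?_) ?_
    · exact orderOf_dvd_iff_pow_eq_one.1 (C.orderOf_dvd_natCard hx)
    · rw [← Nat.card_coe_set_eq (C : Set M), Set.ncard_eq_toFinset_card', Set.toFinset_ofPred]
      exact IsCyclic.card_pow_eq_one_le Nat.card_pos
  exact SetLike.coe_injective ((key A).trans (h ▸ (key B).symm))

/-- **Kulakoff.** -/
theorem dvd_card_cycIn (hodd : p ≠ 2) (s : ℕ) (hs : 2 ≤ s) (H : Subgroup G) (hH : IsPGroup p H)
    (hnc : ¬ IsCyclic H) : p ∣ Nat.card (CycIn H (p ^ s)) := by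
  classical
  induction hc : Nat.card H using Nat.strong_induction_on generalizing H with
  | _ c ih =>
    have hpp : p.Prime := Fact.out
    have := Fintype.ofFinite (Subgroup G)
    let 𝓜 : Finset (Subgroup G) :=
      Finset.univ.filter fun M => M ≤ H ∧ Nat.card M * p = Nat.card H
    let 𝓤 : Finset (Subgroup G) :=
      Finset.univ.filter fun U => IsCyclic U ∧ Nat.card U = p ^ s ∧ U ≤ H
    have hU : Nat.card (CycIn H (p ^ s)) = 𝓤.card := by
      rw [Nat.card_eq_fintype_card, Fintype.card_subtype]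
    have habove : ∀ U ∈ 𝓤, ((𝓜.filter (U ≤ ·)).card : ZMod p) = 1 := by
      intro U hU
      obtain ⟨-, hUc, -, hUH⟩ := Finset.mem_filter.1 hU
      have h1 := card_maximal_above hH (U := U.subgroupOf H) (fun h => hnc (by
        rw [Subgroup.subgroupOf_eq_top] at h
        exact le_antisymm hUH h ▸ hUc))
      have h2 : (𝓜.filter (U ≤ ·)).card =
          Nat.card {M : Subgroup H // M.index = p ∧ U.subgroupOf H ≤ M} := by
        rw [← Nat.card_eq_finsetCard]
        refine Nat.card_congr
          { toFun := fun M => ⟨M.1.subgroupOf H, ?_, Subgroup.comap_mono (Finset.mem_filter.1 M.2).2⟩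
            invFun := fun M => ⟨M.1.map H.subtype, ?_⟩
            left_inv := fun M => Subtype.ext
              (Subgroup.map_subgroupOf_eq_of_le (Finset.mem_filter.1 (Finset.mem_filter.1 M.2).1).2.1)
            right_inv := fun M => Subtype.ext
              (Subgroup.comap_map_eq_self_of_injective H.subtype_injective _) }
        · obtain ⟨-, hMH, hMc⟩ := Finset.mem_filter.1 (Finset.mem_filter.1 M.2).1
          have h := (M.1.subgroupOf H).card_mul_index
          rw [Nat.card_congr (Subgroup.subgroupOfEquivOfLe hMH).toEquiv, ← hMc] at h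
          exact Nat.eq_of_mul_eq_mul_left Nat.card_pos h
        · refine Finset.mem_filter.2 ⟨Finset.mem_filter.2 ⟨Finset.mem_univ _,
            Subgroup.map_subtype_le _, ?_⟩, ?_⟩
          · have h := M.1.card_mul_index
            rw [M.2.1] at h
            rw [Subgroup.card_map_of_injective H.subtype_injective]
            exact h
          · exact (Subgroup.map_subgroupOf_eq_of_le hUH).ge.trans (Subgroup.map_mono M.2.2)
      rw [h2, ← Nat.cast_one]
      exact (ZMod.natCast_eq_natCast_iff _ _ _).2 h1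
    have hsum : ((∑ M ∈ 𝓜, (𝓤.filter (· ≤ M)).card : ℕ) : ZMod p) = (𝓤.card : ZMod p) := by
      have h := Finset.sum_card_bipartiteAbove_eq_sum_card_bipartiteBelow
        (s := 𝓤) (t := 𝓜) (fun U M => U ≤ M)
      simp only [Finset.bipartiteAbove, Finset.bipartiteBelow] at h
      rw [← h, Nat.cast_sum, Finset.sum_congr rfl habove, Finset.sum_const, nsmul_one]
    have hsub : ∀ M ∈ 𝓜, (𝓤.filter (· ≤ M)).card = Nat.card (CycIn M (p ^ s)) := by
      intro M hM
      obtain ⟨-, hMH, -⟩ := Finset.mem_filter.1 hM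
      rw [Nat.card_eq_fintype_card, Fintype.card_subtype]
      refine congrArg _ (Finset.ext fun U => ?_)
      simp only [𝓤, Finset.mem_filter, Finset.mem_univ, true_and]
      exact ⟨fun h => ⟨h.1.1, h.1.2.1, h.2⟩, fun h => ⟨⟨h.1, h.2.1, h.2.2.trans hMH⟩, h.2.2⟩⟩
    rw [hU, ← ZMod.natCast_eq_zero_iff, ← hsum, Finset.sum_congr rfl hsub,
      ← Finset.sum_filter_add_sum_filter_not 𝓜 (fun M : Subgroup G => IsCyclic M), Nat.cast_add,
      Nat.cast_sum, Nat.cast_sum]
    have hnoncyc : ∀ M ∈ 𝓜.filter (fun M : Subgroup G => ¬ IsCyclic M),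
        ((Nat.card (CycIn M (p ^ s)) : ℕ) : ZMod p) = 0 := by
      intro M hM
      obtain ⟨hM1, hMnc⟩ := Finset.mem_filter.1 hM
      obtain ⟨-, hMH, hMc⟩ := Finset.mem_filter.1 hM1
      refine (ZMod.natCast_eq_zero_iff _ _).2 (ih _ ?_ M (hH.to_le hMH) hMnc rfl)
      rw [← hc, ← hMc]
      exact lt_mul_of_one_lt_right Nat.card_pos hpp.one_lt
    rw [Finset.sum_eq_zero hnoncyc, add_zero]
    obtain ⟨k, hk⟩ := IsPGroup.iff_card.1 hH
    rcases lt_or_ge k (s + 1) with hks | hks
    · -- no room for cyclic subgroups of that order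
      refine Finset.sum_eq_zero fun M hM => ?_
      obtain ⟨-, hMH, hMc⟩ := Finset.mem_filter.1 (Finset.mem_filter.1 hM).1
      have : IsEmpty (CycIn M (p ^ s)) := ⟨fun U => by
        have h1 := Nat.le_of_dvd Nat.card_pos (Subgroup.card_dvd_of_le U.2.2.2)
        rw [U.2.2.1] at h1
        rw [hk] at hMc
        have h2 : p ^ k < p ^ (s + 1) + 1 :=
          Nat.lt_succ_of_le (Nat.pow_le_pow_right hpp.pos hks.le)
        rcases Nat.lt_succ_iff_lt_or_eq.1 hks with hlt | rfl
        · have h3 := Nat.pow_le_pow_right hpp.pos (show k + 1 ≤ s by omega)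
          have h4 := hpp.two_le
          rw [pow_succ] at h3
          nlinarith [h4, pow_pos hpp.pos k, Nat.card_pos (α := M)]
        · have h4 := hpp.two_le
          nlinarith [h4, pow_pos hpp.pos k, Nat.card_pos (α := M)]⟩
      rw [Nat.card_of_isEmpty, Nat.cast_zero]
    · obtain ⟨n, rfl⟩ : ∃ n, k = n + 3 := ⟨k - 3, by omega⟩
      have hcycM : ∀ M ∈ 𝓜.filter (fun M : Subgroup G => IsCyclic M),
          ((Nat.card (CycIn M (p ^ s)) : ℕ) : ZMod p) = 1 := by
        intro M hM
        obtain ⟨hM1, hMc'⟩ := Finset.mem_filter.1 hM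
        obtain ⟨-, hMH, hMc⟩ := Finset.mem_filter.1 hM1
        have hcM : Nat.card M = p ^ (n + 2) :=
          Nat.eq_of_mul_eq_mul_right hpp.pos (by rw [hMc, hk, pow_succ])
        rw [← Nat.cast_one]
        refine congrArg Nat.cast ?_
        rw [card_cycIn, Nat.card_eq_one_iff_unique]
        have hdvd : p ^ s ∣ Nat.card M := hcM ▸ pow_dvd_pow p (by omega)
        refine ⟨⟨fun A B => Subtype.ext ?_⟩, ?_⟩
        · exact eq_of_card_eq_of_isCyclic (A.2.2.trans B.2.2.symm)
        · obtain ⟨B, hB⟩ := Sylow.exists_subgroup_card_pow_prime (G := M) p hdvd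
          exact ⟨⟨B, inferInstance, hB⟩⟩
      rw [Finset.sum_congr rfl hcycM, Finset.sum_const, nsmul_one, ZMod.natCast_eq_zero_iff]
      have h1 : (𝓜.filter fun M : Subgroup G => IsCyclic M).card =
          Nat.card (CycIn H (p ^ (n + 2))) := by
        rw [Nat.card_eq_fintype_card, Fintype.card_subtype]
        refine congrArg _ (Finset.ext fun U => ?_)
        simp only [𝓜, Finset.mem_filter, Finset.mem_univ, true_and]
        constructor
        · exact fun h => ⟨h.2, Nat.eq_of_mul_eq_mul_right hpp.pos (by rw [h.1.2, hk, pow_succ]),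
            h.1.1⟩
        · exact fun h => ⟨⟨h.2.2, by rw [h.2.1, hk, ← pow_succ]⟩, h.1⟩
      rw [h1, card_cycIn]
      rcases isEmpty_or_nonempty {U : Subgroup H // IsCyclic U ∧ Nat.card U = p ^ (n + 2)} with
        he | ⟨⟨U, hUc, hUq⟩⟩
      · rw [Nat.card_of_isEmpty]; exact dvd_zero p
      · obtain ⟨a, ha⟩ := (U.isCyclic_iff_exists_zpowers_eq_top).1 hUc
        rw [card_cyclic_maximal hodd hH hnc hk
          (a := a) (by rw [← hUq, ← ha, Nat.card_zpowers])]

end Main

end Cfsg.Agent.Lib.Fg6.Kulakoff
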