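/-
The derived length of a linear `p`-group.
-/
import Mathlib.GroupTheory.PGroup
import Mathlib.GroupTheory.Solvable
import Mathlib.GroupTheory.Nilpotent
import Mathlib.GroupTheory.Finiteness
import Mathlib.GroupTheory.FiniteAbelian.Basic
import Mathlib.Algebra.CharP.Lemmas
import Mathlib.LinearAlgebra.Eigenspace.Triangularizable
import Mathlib.FieldTheory.IsAlgClosed.Basic
import Mathlib.LinearAlgebra.FiniteDimensional.Lemmas
import Mathlib.RingTheory.Artinian.Module
import Mathlib.Data.Nat.Log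

set_option autoImplicit false
set_option linter.style.haveILetI false

namespace Cfsg.Agent.Lib.Fg6.LinearDerived

open Module (End finrank)

universe u v

theorem derived_le_map {P : Type u} [Group P] (M : Subgroup P) {i : ℕ}
    (h : derivedSeries P i ≤ M) (j : ℕ) :
    derivedSeries P (i + j) ≤ (derivedSeries M j).map M.subtype := by
  induction j with
  | zero => rw [derivedSeries_zero, ← MonoidHom.range_eq_map, Subgroup.range_subtype]; exact h
  | succ j ih =>
    rw [← add_assoc, derivedSeries_succ, derivedSeries_succ, Subgroup.map_commutator]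
    exact Subgroup.commutator_mono ih ih

section Rep

variable {K : Type v} [Field K] {P : Type u} [Group P]
  {V : Type v} [AddCommGroup V] [Module K V]

/-- Restriction to an invariant subspace. -/
def subRep (ρ : P →* End K V) (W : Submodule K V) (h : ∀ g, ∀ w ∈ W, ρ g w ∈ W) :
    P →* End K W where
  toFun g := (ρ g).restrict (h g)
  map_one' := by apply LinearMap.ext; intro x; apply Subtype.ext; simp
  map_mul' a b := by apply LinearMap.ext; intro x; apply Subtype.ext; simp

/-- The action on the quotient by an invariant subspace. -/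
def quotRep (ρ : P →* End K V) (W : Submodule K V) (h : ∀ g, ∀ w ∈ W, ρ g w ∈ W) :
    P →* End K (V ⧸ W) where
  toFun g := W.mapQ W (ρ g) (h g)
  map_one' := by apply Submodule.linearMap_qext; apply LinearMap.ext; intro x; simp
  map_mul' a b := by apply Submodule.linearMap_qext; apply LinearMap.ext; intro x; simp

theorem subRep_apply (ρ : P →* End K V) (W : Submodule K V) (h : ∀ g, ∀ w ∈ W, ρ g w ∈ W)
    (g : P) (hg : subRep ρ W h g = 1) (w : V) (hw : w ∈ W) : ρ g w = w :=
  congrArg Subtype.val (LinearMap.congr_fun hg (⟨w, hw⟩ : W))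

theorem quotRep_apply (ρ : P →* End K V) (W : Submodule K V) (h : ∀ g, ∀ w ∈ W, ρ g w ∈ W)
    (g : P) (hg : quotRep ρ W h g = 1) (x : V) : ρ g x - x ∈ W :=
  (Submodule.Quotient.eq W).1 (LinearMap.congr_fun hg (Submodule.Quotient.mk x))

theorem rep_injective (ρ : P →* End K V) (g : P) : Function.Injective (ρ g) :=
  fun a b hab => by
    have := congrArg (ρ g⁻¹) hab
    simpa [← Module.End.mul_apply, ← map_mul] using this

theorem finrank_map_rep (ρ : P →* End K V) (g : P) (W : Submodule K V) :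
    finrank K (W.map (ρ g)) = finrank K W :=
  (Submodule.equivMapOfInjective _ (rep_injective ρ g) W).finrank_eq.symm

/-- An eigenspace of a map commuting with an irreducible representation is everything. -/
theorem exists_scalar [IsAlgClosed K] [FiniteDimensional K V] [Nontrivial V] (ρ : P →* End K V)
    (hirr : ∀ W : Submodule K V, (∀ g, ∀ w ∈ W, ρ g w ∈ W) → W ≠ ⊥ → W = ⊤)
    (f : End K V) (hf : ∀ g, Commute (ρ g) f) : ∃ c : K, ∀ x, f x = c • x := by
  obtain ⟨c, hc⟩ := Module.End.exists_eigenvalue f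
  refine ⟨c, fun x => ?_⟩
  have h1 : f.eigenspace c = ⊤ := by
    refine hirr _ (fun g w hw => ?_) hc
    rw [Module.End.mem_eigenspace_iff] at hw ⊢
    have := LinearMap.congr_fun (hf g) w
    simp only [Module.End.mul_apply] at this
    rw [← this, hw, map_smul]
  exact Module.End.mem_eigenspace_iff.1 (h1 ▸ Submodule.mem_top)

end Rep

/-- A fixed vector in characteristic `p`. -/
theorem exists_fixed {K : Type v} [Field K] {p : ℕ} [Fact p.Prime] (hp0 : (p : K) = 0)
    {P : Type u} [Group P] [Finite P] (hP : IsPGroup p P) {V : Type v} [AddCommGroup V]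
    [Module K V] [Nontrivial V] (ρ : P →* End K V) : ∃ x : V, x ≠ 0 ∧ ∀ g, ρ g x = x := by
  obtain ⟨v₀, hv₀⟩ := exists_ne (0 : V)
  let A := AddSubgroup.closure (Set.range fun g => ρ g v₀)
  have hA : ∀ (g : P), ∀ a ∈ A, ρ g a ∈ A := by
    intro g a ha
    induction ha using AddSubgroup.closure_induction with
    | mem x hx =>
      obtain ⟨h, rfl⟩ := hx
      exact AddSubgroup.subset_closure ⟨g * h, by simp⟩
    | zero => simp
    | add x y _ _ hx hy => rw [map_add]; exact A.add_mem hx hy
    | neg x _ hx => rw [map_neg]; exact A.neg_mem hx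
  letI : MulAction P A :=
    { smul := fun g a => ⟨ρ g a, hA g a a.2⟩
      one_smul := fun a => Subtype.ext (by show ρ 1 (a : V) = a; simp)
      mul_smul := fun g h a => Subtype.ext (by
        show ρ (g * h) (a : V) = ρ g (ρ h a); simp) }
  have : AddGroup.FG A :=
    (AddGroup.fg_iff_addSubgroup_fg A).2 ((AddSubgroup.fg_iff A).2 ⟨_, rfl, Set.finite_range _⟩)
  have hpA : ∀ a : A, p • a = 0 := fun a => Subtype.ext (by
    show p • (a : V) = 0
    rw [← Nat.cast_smul_eq_nsmul K, hp0, zero_smul])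
  have : Finite A := AddCommGroup.finite_of_fg_isAddTorsion A fun a =>
    isOfFinAddOrder_iff_nsmul_eq_zero.2 ⟨p, Nat.Prime.pos Fact.out, hpA a⟩
  have hv : v₀ ∈ A := AddSubgroup.subset_closure ⟨1, by simp⟩
  have hcard : p ∣ Nat.card A := by
    have h1 : addOrderOf (⟨v₀, hv⟩ : A) = p :=
      addOrderOf_eq_prime (hpA _) (fun e => hv₀ (congrArg Subtype.val e))
    exact h1 ▸ addOrderOf_dvd_natCard _
  obtain ⟨b, hb, hb0⟩ := hP.exists_fixed_point_of_prime_dvd_card_of_fixed_point A hcard
    (a := (0 : A)) (fun g => Subtype.ext (by show ρ g 0 = 0; simp))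
  exact ⟨b, fun e => hb0 (Subtype.ext e.symm), fun g => congrArg Subtype.val (hb g)⟩

/-- Invariant subspaces of every dimension in characteristic `p`. -/
theorem exists_invariant {K : Type v} [Field K] {p : ℕ} [Fact p.Prime] (hp0 : (p : K) = 0)
    {P : Type u} [Group P] [Finite P] (hP : IsPGroup p P) {V : Type v} [AddCommGroup V]
    [Module K V] [FiniteDimensional K V] (ρ : P →* End K V) :
    ∀ k ≤ finrank K V, ∃ W : Submodule K V, finrank K W = k ∧ ∀ g, ∀ w ∈ W, ρ g w ∈ W := by
  intro k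
  induction k with
  | zero =>
    exact fun _ => ⟨⊥, by simp, fun g w hw => by rw [Submodule.mem_bot] at hw ⊢; simp [hw]⟩
  | succ k ih =>
    intro hk
    obtain ⟨W, hW, hinv⟩ := ih (by omega)
    have hWtop : W ≠ ⊤ := by rintro rfl; rw [finrank_top] at hW; omega
    have : Nontrivial (V ⧸ W) := Submodule.Quotient.nontrivial_iff.2 hWtop
    obtain ⟨x, hx0, hx⟩ := exists_fixed hp0 hP (quotRep ρ W hinv)
    obtain ⟨y, rfl⟩ := Submodule.Quotient.mk_surjective W x
    have hyW : y ∉ W := fun h => hx0 ((Submodule.Quotient.mk_eq_zero W).2 h)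
    refine ⟨W ⊔ Submodule.span K {y}, ?_, fun g w hw => ?_⟩
    · have h1 := Submodule.finrank_sup_add_finrank_inf_eq W (Submodule.span K {y})
      have h2 : W ⊓ Submodule.span K {y} = ⊥ := by
        rw [eq_bot_iff]
        rintro z ⟨hz, hz'⟩
        obtain ⟨c, rfl⟩ := Submodule.mem_span_singleton.1 hz'
        by_cases hc : c = 0
        · simp [hc]
        · exact absurd ((Submodule.smul_mem_iff W hc).1 hz) hyW
      rw [h2, finrank_bot, hW, finrank_span_singleton (fun e : y = 0 => hyW (e ▸ W.zero_mem))] at h1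
      omega
    · obtain ⟨w₁, hw₁, w₂, hw₂, rfl⟩ := Submodule.mem_sup.1 hw
      obtain ⟨c, rfl⟩ := Submodule.mem_span_singleton.1 hw₂
      rw [map_add, map_smul, show ρ g y = (ρ g y - y) + y by abel]
      refine Submodule.add_mem _ (Submodule.mem_sup_left (hinv g w₁ hw₁))
        (Submodule.smul_mem _ c (Submodule.add_mem _ ?_
          (Submodule.mem_sup_right (Submodule.mem_span_singleton_self y))))
      exact Submodule.mem_sup_left ((Submodule.Quotient.eq W).1 (hx g))

/-- In characteristic `p` the derived length is at most `clog 2 n`. -/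
theorem derived_modular {K : Type v} [Field K] {p : ℕ} [Fact p.Prime] (hp0 : (p : K) = 0) :
    ∀ (n : ℕ) (P : Type u) [Group P] [Finite P], IsPGroup p P →
      ∀ (V : Type v) [AddCommGroup V] [Module K V] [FiniteDimensional K V],
        finrank K V = n → ∀ ρ : P →* End K V, ∀ g ∈ derivedSeries P (Nat.clog 2 n), ρ g = 1 := by
  intro n
  induction n using Nat.strong_induction_on with
  | _ n ih =>
  intro P _ _ hP V _ _ _ hn ρ
  rcases Nat.lt_or_ge n 2 with h2 | h2
  · intro g _
    apply LinearMap.ext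
    intro x
    rcases subsingleton_or_nontrivial V with hs | hs
    · exact Subsingleton.elim _ _
    obtain ⟨y, hy0, hy⟩ := exists_fixed hp0 hP ρ
    have h1 : finrank K V = 1 := by
      have := Module.finrank_pos (R := K) (M := V)
      omega
    obtain ⟨c, rfl⟩ := (finrank_eq_one_iff_of_nonzero' y hy0).1 h1 x
    simp [hy g]
  obtain ⟨W, hW, hinv⟩ := exists_invariant hp0 hP ρ ((n + 1) / 2) (by omega)
  set d := Nat.clog 2 ((n + 1) / 2) with hd
  have hcl : Nat.clog 2 n = d + 1 := by
    rw [Nat.clog_of_two_le (by norm_num) h2, show n + 2 - 1 = n + 1 by omega]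
  have hq : finrank K (V ⧸ W) ≤ (n + 1) / 2 := by
    have := W.finrank_quotient_add_finrank
    omega
  have hq' : finrank K (V ⧸ W) < n := by omega
  have h1 : ∀ g ∈ derivedSeries P d, subRep ρ W hinv g = 1 :=
    fun g hg => ih _ (by omega) P hP W hW _ g hg
  have h3 : ∀ g ∈ derivedSeries P d, quotRep ρ W hinv g = 1 := fun g hg =>
    ih _ hq' P hP (V ⧸ W) rfl _ g (derivedSeries_antitone P (Nat.clog_mono_right 2 hq) hg)
  have hcomm : ∀ a ∈ derivedSeries P d, ∀ b ∈ derivedSeries P d, ρ (a * b) = ρ (b * a) := by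
    intro a ha b hb
    apply LinearMap.ext
    intro x
    rw [map_mul, map_mul, Module.End.mul_apply, Module.End.mul_apply]
    have ea := quotRep_apply ρ W hinv a (h3 a ha) x
    have eb := quotRep_apply ρ W hinv b (h3 b hb) x
    have ea' := subRep_apply ρ W hinv a (h1 a ha) _ eb
    have eb' := subRep_apply ρ W hinv b (h1 b hb) _ ea
    rw [map_sub, sub_eq_iff_eq_add] at ea' eb'
    rw [ea', eb']
    abel
  intro g hg
  rw [hcl, derivedSeries_succ] at hg
  refine (MonoidHom.mem_ker (f := ρ.toHomUnits)).1 ?_ |> congrArg Units.val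
  refine Subgroup.commutator_le.2 (fun a ha b hb => ?_) hg
  rw [MonoidHom.mem_ker, map_commutatorElement, commutatorElement_eq_one_iff_mul_comm]
  ext1
  rw [Units.val_mul, Units.val_mul]
  show ρ a * ρ b = ρ b * ρ a
  rw [← map_mul, ← map_mul, hcomm a ha b hb]

/-- A noncentral element all whose conjugates differ from it centrally. -/
theorem exists_second_central {p : ℕ} [Fact p.Prime] {Q : Type*} [Group Q] [Finite Q]
    (hQ : IsPGroup p Q) (hne : Subgroup.center Q ≠ ⊤) :
    ∃ z : Q, z ∉ Subgroup.center Q ∧ ∀ q : Q, q * z * q⁻¹ * z⁻¹ ∈ Subgroup.center Q := by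
  have : Nontrivial (Q ⧸ Subgroup.center Q) := QuotientGroup.nontrivial_iff.2 hne
  have := (hQ.to_quotient (Subgroup.center Q)).center_nontrivial
  obtain ⟨w, hw⟩ := exists_ne (1 : Subgroup.center (Q ⧸ Subgroup.center Q))
  obtain ⟨z, hz⟩ := QuotientGroup.mk_surjective (w : Q ⧸ Subgroup.center Q)
  refine ⟨z, fun h => hw (Subtype.ext (hz ▸ (QuotientGroup.eq_one_iff z).2 h)), fun q => ?_⟩
  rw [← QuotientGroup.eq_one_iff]
  simp only [QuotientGroup.mk_mul, QuotientGroup.mk_inv]
  rw [hz, Subgroup.mem_center_iff.1 w.2, mul_inv_cancel_right, mul_inv_cancel]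

/-- Away from characteristic `p` the derived length is at most `log 2 n + 1`. -/
theorem derived_ordinary {K : Type v} [Field K] [IsAlgClosed K] {p : ℕ} [Fact p.Prime]
    (hp0 : (p : K) ≠ 0) :
    ∀ (n : ℕ) (P : Type u) [Group P] [Finite P], IsPGroup p P →
      ∀ (V : Type v) [AddCommGroup V] [Module K V] [FiniteDimensional K V],
        finrank K V = n → ∀ ρ : P →* End K V,
          ∀ g ∈ derivedSeries P (Nat.log 2 n + 1), ρ g = 1 := by
  intro n
  induction n using Nat.strong_induction_on with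
  | _ n ih =>
  intro P _ _ hP V _ _ _ hn ρ g hg
  by_cases hred : ∃ W : Submodule K V, (∀ a, ∀ w ∈ W, ρ a w ∈ W) ∧ W ≠ ⊥ ∧ W ≠ ⊤
  · obtain ⟨W, hinv, hWb, hWt⟩ := hred
    have hlt : finrank K W < n := hn ▸ Submodule.finrank_lt hWt
    have hlt' : finrank K (V ⧸ W) < n := by
      have := W.finrank_quotient_add_finrank
      have := Submodule.one_le_finrank_iff.2 hWb
      omega
    have h1 := ih _ hlt P hP W rfl (subRep ρ W hinv) g
      (derivedSeries_antitone P (Nat.succ_le_succ (Nat.log_mono_right hlt.le)) hg)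
    have h3 := ih _ hlt' P hP (V ⧸ W) rfl (quotRep ρ W hinv) g
      (derivedSeries_antitone P (Nat.succ_le_succ (Nat.log_mono_right hlt'.le)) hg)
    set e := ρ g - 1 with he
    have hee : e * e = 0 := by
      apply LinearMap.ext
      intro x
      have ex := quotRep_apply ρ W hinv g h3 x
      simp [he, subRep_apply ρ W hinv g h1 _ ex]
    have hpow : ∀ k : ℕ, (1 + e) ^ k = 1 + k • e := by
      intro k
      induction k with
      | zero => simp
      | succ k ihk =>
        rw [pow_succ, ihk, add_mul, one_mul, mul_add, mul_one, smul_mul_assoc, hee, smul_zero,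
          add_zero, succ_nsmul]
        abel
    obtain ⟨m, hm⟩ := hP g
    have h4 := hpow (p ^ m)
    rw [he, add_sub_cancel, ← map_pow, hm, map_one, ← he, left_eq_add,
      ← Nat.cast_smul_eq_nsmul K, smul_eq_zero] at h4
    exact sub_eq_zero.1 (h4.resolve_left (by rw [Nat.cast_pow]; exact pow_ne_zero m hp0))
  push Not at hred
  rcases Nat.lt_or_ge n 2 with h2 | h2
  · refine (MonoidHom.mem_ker (f := ρ.toHomUnits)).1 ?_ |> congrArg Units.val
    rw [derivedSeries_succ] at hg
    refine Subgroup.commutator_le.2 (fun a _ b _ => ?_) hg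
    rw [MonoidHom.mem_ker, map_commutatorElement, commutatorElement_eq_one_iff_mul_comm]
    ext1
    rw [Units.val_mul, Units.val_mul]
    show ρ a * ρ b = ρ b * ρ a
    rcases subsingleton_or_nontrivial V with hs | hs
    · apply LinearMap.ext; intro x; exact Subsingleton.elim _ _
    obtain ⟨y, hy⟩ := exists_ne (0 : V)
    have h0 : finrank K V = 1 := by
      have := Module.finrank_pos (R := K) (M := V); omega
    have h1 := (finrank_eq_one_iff_of_nonzero' y hy).1 h0
    obtain ⟨ca, hca⟩ := h1 (ρ a y)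
    obtain ⟨cb, hcb⟩ := h1 (ρ b y)
    apply LinearMap.ext
    intro x
    obtain ⟨c, rfl⟩ := h1 x
    rw [Module.End.mul_apply, Module.End.mul_apply, map_smul (ρ b) c y, map_smul (ρ a) c y, ← hca,
      ← hcb]
    simp only [map_smul, ← hca, ← hcb, smul_smul]
    congr 1; ring
  have hntV : Nontrivial V := Module.nontrivial_of_finrank_pos (R := K) (by omega)
  have hirr : ∀ W : Submodule K V, (∀ a, ∀ w ∈ W, ρ a w ∈ W) → W ≠ ⊥ → W = ⊤ := hred
  let σ := ρ.toHomUnits
  have : Finite σ.range := Finite.of_surjective _ σ.rangeRestrict_surjective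
  have hQ : IsPGroup p σ.range := hP.of_surjective _ σ.rangeRestrict_surjective
  have hne : Subgroup.center σ.range ≠ ⊤ := by
    intro htop
    have hall : ∀ a, ∃ c : K, ∀ x, ρ a x = c • x := fun a => exists_scalar ρ hirr (ρ a) fun b => by
      have h1 := (Subgroup.mem_center_iff.1 (htop ▸ Subgroup.mem_top (σ.rangeRestrict a)))
        (σ.rangeRestrict b)
      exact congrArg Units.val (congrArg Subtype.val h1)
    obtain ⟨y, hy⟩ := exists_ne (0 : V)
    have h1 := hirr (Submodule.span K {y}) (fun a w hw => by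
      obtain ⟨c, hc⟩ := hall a
      rw [hc]; exact Submodule.smul_mem _ c hw) (by simpa using hy)
    have := finrank_span_singleton (K := K) hy
    rw [h1, finrank_top] at this
    omega
  obtain ⟨z, hz, hzc⟩ := exists_second_central hQ hne
  obtain ⟨z₀, rfl⟩ := σ.rangeRestrict_surjective z
  -- `ρ a` multiplies `ρ z₀` by a scalar
  have hscal : ∀ a, ∃ μ : K, ∀ x, ρ (a * z₀ * a⁻¹ * z₀⁻¹) x = μ • x := fun a =>
    exists_scalar ρ hirr _ fun b => by
      have h1 := Subgroup.mem_center_iff.1 (hzc (σ.rangeRestrict a)) (σ.rangeRestrict b)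
      rw [← map_inv, ← map_mul, ← map_mul, ← map_inv, ← map_mul] at h1
      exact congrArg Units.val (congrArg Subtype.val h1)
  let M : Subgroup P :=
    { carrier := {a | ρ a * ρ z₀ = ρ z₀ * ρ a}
      one_mem' := by simp
      mul_mem' := fun {a b} ha hb => by
        simp only [Set.mem_ofPred_eq] at ha hb ⊢
        rw [map_mul, mul_assoc, hb, ← mul_assoc, ha, mul_assoc]
      inv_mem' := fun {a} ha => by
        simp only [Set.mem_ofPred_eq] at ha ⊢
        calc ρ a⁻¹ * ρ z₀ = ρ a⁻¹ * (ρ z₀ * ρ a) * ρ a⁻¹ := by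
              rw [mul_assoc (ρ a⁻¹), mul_assoc (ρ z₀), ← map_mul ρ a, mul_inv_cancel, map_one, mul_one]
          _ = ρ z₀ * ρ a⁻¹ := by
              rw [← ha, ← mul_assoc, ← map_mul ρ a⁻¹, inv_mul_cancel, map_one, one_mul] }
  have hcommM : ∀ a b, a * b * a⁻¹ * b⁻¹ ∈ M := by
    intro a b
    obtain ⟨μa, hμa⟩ := hscal a
    obtain ⟨μb, hμb⟩ := hscal b
    have e : ∀ (c : P) (μ : K), (∀ x, ρ (c * z₀ * c⁻¹ * z₀⁻¹) x = μ • x) →
        μ ≠ 0 ∧ ρ c * ρ z₀ = μ • (ρ z₀ * ρ c) := by
      intro c μ hμ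
      have h1 : ρ (c * z₀ * c⁻¹ * z₀⁻¹) = μ • (1 : End K V) := LinearMap.ext hμ
      refine ⟨fun h0 => ?_, ?_⟩
      · obtain ⟨y, hy⟩ := exists_ne (0 : V)
        refine hy (rep_injective ρ (c * z₀ * c⁻¹ * z₀⁻¹) ?_)
        rw [hμ, h0, zero_smul, map_zero]
      · rw [← one_mul (ρ z₀ * ρ c), ← smul_mul_assoc, ← h1, ← map_mul, ← map_mul, ← map_mul]
        congr 1; group
    obtain ⟨ha0, hab⟩ := e a μa hμa
    obtain ⟨hb0, hba⟩ := e b μb hμb
    have h1 : ρ (a * b) * ρ z₀ = (μb * μa) • (ρ z₀ * ρ (a * b)) := by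
      rw [map_mul, mul_assoc, hba, mul_smul_comm, ← mul_assoc, hab, smul_mul_assoc, smul_smul,
        mul_assoc]
    have h2 : ρ (b * a) * ρ z₀ = (μb * μa) • (ρ z₀ * ρ (b * a)) := by
      rw [map_mul, mul_assoc, hab, mul_smul_comm, ← mul_assoc, hba, smul_mul_assoc, smul_smul,
        mul_assoc, mul_comm μb μa]
    have h3 : ρ z₀ * ρ (b * a)⁻¹ = (μb * μa) • (ρ (b * a)⁻¹ * ρ z₀) := by
      calc ρ z₀ * ρ (b * a)⁻¹ = ρ (b * a)⁻¹ * (ρ (b * a) * ρ z₀) * ρ (b * a)⁻¹ := by
            rw [← mul_assoc, ← map_mul ρ (b * a)⁻¹, inv_mul_cancel, map_one, one_mul]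
        _ = (μb * μa) • (ρ (b * a)⁻¹ * ρ z₀) := by
            rw [h2, mul_smul_comm, smul_mul_assoc, mul_assoc, mul_assoc (ρ z₀), ← map_mul ρ (b * a),
              mul_inv_cancel, map_one, mul_one]
    show ρ (a * b * a⁻¹ * b⁻¹) * ρ z₀ = ρ z₀ * ρ (a * b * a⁻¹ * b⁻¹)
    have hu : a * b * a⁻¹ * b⁻¹ = a * b * (b * a)⁻¹ := by group
    rw [hu, map_mul, map_mul]
    apply smul_right_injective (End K V) (mul_ne_zero hb0 ha0)
    show (μb * μa) • _ = (μb * μa) • _
    rw [mul_assoc, ← mul_smul_comm, ← h3, ← mul_assoc, ← map_mul ρ a, h1, smul_mul_assoc, mul_assoc,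
      map_mul ρ a]
  have hPM : derivedSeries P 1 ≤ M := by
    rw [derivedSeries_succ, derivedSeries_zero, Subgroup.commutator_le]
    exact fun a _ b _ => commutatorElement_def a b ▸ hcommM a b
  have hMn : M.Normal := ⟨fun m hm a => by
    have h1 : a * m * a⁻¹ * m⁻¹ * m ∈ M := M.mul_mem (hcommM a m) hm
    rwa [inv_mul_cancel_right] at h1⟩
  -- a small `M`-invariant subspace
  obtain ⟨c, hc⟩ := Module.End.exists_eigenvalue (ρ z₀)
  set E := (ρ z₀).eigenspace c with hE
  have hEinv : ∀ m : P, m ∈ M → ∀ w ∈ E, ρ m w ∈ E := by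
    intro m hm w hw
    rw [hE, Module.End.mem_eigenspace_iff] at hw ⊢
    have := LinearMap.congr_fun (show ρ m * ρ z₀ = ρ z₀ * ρ m from hm) w
    simp only [Module.End.mul_apply] at this
    rw [← this, hw, map_smul]
  have hEtop : E ≠ ⊤ := by
    intro htop
    refine hz (Subgroup.mem_center_iff.2 fun q => ?_)
    obtain ⟨b, rfl⟩ := σ.rangeRestrict_surjective q
    apply Subtype.ext
    apply Units.ext
    show ρ b * ρ z₀ = ρ z₀ * ρ b
    have hs : ∀ x, ρ z₀ x = c • x := fun x =>
      Module.End.mem_eigenspace_iff.1 (hE ▸ htop ▸ Submodule.mem_top)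
    apply LinearMap.ext
    intro x
    simp [hs]
  let S : Set (Submodule K V) :=
    {W | W ≠ ⊥ ∧ W ≤ E ∧ ∀ m : P, m ∈ M → ∀ w ∈ W, ρ m w ∈ W}
  obtain ⟨W, ⟨hWb, hWE, hWinv⟩, hmin⟩ := (wellFounded_lt (α := Submodule K V)).has_min S ⟨E, hc, le_rfl, hEinv⟩
  have hsmall : 2 * finrank K W ≤ n := by
    obtain ⟨a, ha⟩ : ∃ a, W.map (ρ a) ≠ W := by
      by_contra! hall
      exact hEtop (eq_top_iff.2 ((hirr W (fun a w hw => hall a ▸ Submodule.mem_map_of_mem hw) hWb).ge.trans hWE))
    have hinf : W ⊓ W.map (ρ a) = ⊥ := by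
      by_contra hne'
      refine hmin (W ⊓ W.map (ρ a)) ⟨hne', inf_le_left.trans hWE, ?_⟩
        (lt_of_le_of_ne inf_le_left fun e => ha ?_)
      · rintro m hm _ ⟨hw, w, hw', rfl⟩
        refine ⟨hWinv m hm _ hw, ρ (a⁻¹ * m * a) w, hWinv _ ?_ w hw', ?_⟩
        · simpa using hMn.conj_mem m hm a⁻¹
        · rw [← Module.End.mul_apply, ← map_mul, ← Module.End.mul_apply, ← map_mul]
          congr 2; group
      · exact (Submodule.eq_of_le_of_finrank_eq (inf_eq_left.1 e)
          (finrank_map_rep ρ a W).symm).symm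
    have h1 := Submodule.finrank_sup_add_finrank_inf_eq W (W.map (ρ a))
    rw [hinf, finrank_bot, finrank_map_rep] at h1
    have := Submodule.finrank_le (W ⊔ W.map (ρ a))
    omega
  have hlt : finrank K W < n := by omega
  have hlog : Nat.log 2 (finrank K W) + 1 ≤ Nat.log 2 n := by
    have h1 : Nat.log 2 (finrank K W) ≤ Nat.log 2 (n / 2) := Nat.log_mono_right (by omega)
    have h3 := Nat.log_div_base 2 n
    have := Nat.log_pos (b := 2) (by norm_num) h2
    omega
  let ρW : M →* End K W := subRep (ρ.comp M.subtype) W fun m w hw => hWinv m m.2 w hw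
  have htriv : ∀ x ∈ derivedSeries P (Nat.log 2 n + 1), ∀ w ∈ W, ρ x w = w := by
    intro x hx w hw
    have hx' := derived_le_map M hPM (Nat.log 2 (finrank K W) + 1)
      (derivedSeries_antitone P (by omega) hx)
    obtain ⟨y, hy, rfl⟩ := hx'
    exact subRep_apply (ρ.comp M.subtype) W (fun m w hw => hWinv m m.2 w hw) y
      (ih _ hlt M (hP.to_subgroup M) W rfl ρW y hy) w hw
  -- the translates of `W` span
  let U : Submodule K V := LinearMap.ker (ρ g - 1)
  have hUtop : (⨆ a : P, W.map (ρ a)) = ⊤ := by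
    refine hirr _ (fun b w hw => ?_) (fun h0 => hWb ?_)
    · have : (⨆ a : P, W.map (ρ a)).map (ρ b) ≤ ⨆ a : P, W.map (ρ a) := by
        rw [Submodule.map_iSup]
        refine iSup_le fun a => ?_
        rw [← Submodule.map_comp, ← Module.End.mul_eq_comp, ← map_mul]
        exact le_iSup (fun a => W.map (ρ a)) (b * a)
      exact this (Submodule.mem_map_of_mem hw)
    · rw [eq_bot_iff, ← h0]
      refine le_iSup_of_le 1 ?_
      rw [map_one, Module.End.one_eq_id, Submodule.map_id]
  have hle : (⨆ a : P, W.map (ρ a)) ≤ U := by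
    refine iSup_le fun a => ?_
    rintro _ ⟨w, hw, rfl⟩
    have h1 := htriv (a⁻¹ * g * a) (by simpa using (derivedSeries_normal P _).conj_mem g hg a⁻¹) w hw
    simp only [U, LinearMap.mem_ker, LinearMap.sub_apply, Module.End.one_apply, sub_eq_zero]
    have h3 := congrArg (ρ a) h1
    rw [← Module.End.mul_apply, ← map_mul] at h3
    rwa [← Module.End.mul_apply, ← map_mul, show g * a = a * (a⁻¹ * g * a) by group]
  rw [hUtop, top_le_iff] at hle
  exact sub_eq_zero.1 (LinearMap.ker_eq_top.1 hle)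

end Cfsg.Agent.Lib.Fg6.LinearDerived
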