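/-
Sharp bounds for the derived length of linear `p`-groups.
-/
import Cfsg.Agent.Lib.Fg6.LinearDerived
import Mathlib.Algebra.DirectSum.Module
import Mathlib.LinearAlgebra.Dimension.Constructions
import Mathlib.LinearAlgebra.DFinsupp

set_option autoImplicit false
set_option linter.style.haveILetI false

namespace Cfsg.Agent.Lib.Fg6.LinearDerivedLog

open Module (End finrank)
open LinearDerived

universe u v

theorem sum_finrank_le {K V : Type*} [Field K] [AddCommGroup V] [Module K V] [FiniteDimensional K V]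
    {ι : Type*} [Fintype ι] {W : ι → Submodule K V} (h : iSupIndep W) :
    ∑ i, finrank K (W i) ≤ finrank K V := by
  classical
  rw [← Module.finrank_directSum]
  exact LinearMap.finrank_le_finrank_of_injective (f := DirectSum.coeLinearMap W)
    h.dfinsupp_lsum_injective

/-- A noncentral element, central modulo the centre, with central `p`-th power. -/
theorem exists_second_central_prime {p : ℕ} [Fact p.Prime] {Q : Type*} [Group Q] [Finite Q]
    (hQ : IsPGroup p Q) (hne : Subgroup.center Q ≠ ⊤) :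
    ∃ z : Q, z ∉ Subgroup.center Q ∧ (∀ q : Q, q * z * q⁻¹ * z⁻¹ ∈ Subgroup.center Q) ∧
      z ^ p ∈ Subgroup.center Q := by
  have : Nontrivial (Q ⧸ Subgroup.center Q) := QuotientGroup.nontrivial_iff.2 hne
  have := (hQ.to_quotient (Subgroup.center Q)).center_nontrivial
  obtain ⟨k, hk, hcard⟩ := ((hQ.to_quotient (Subgroup.center Q)).to_subgroup
    (Subgroup.center (Q ⧸ Subgroup.center Q))).nontrivial_iff_card.1 inferInstance
  obtain ⟨w, hw⟩ := exists_prime_orderOf_dvd_card'
    (G := Subgroup.center (Q ⧸ Subgroup.center Q)) p (hcard ▸ dvd_pow_self p (by omega))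
  obtain ⟨z, hz⟩ := QuotientGroup.mk_surjective (w : Q ⧸ Subgroup.center Q)
  refine ⟨z, fun h => ?_, fun q => ?_, ?_⟩
  · have hw1 : w = 1 := Subtype.ext (hz ▸ (QuotientGroup.eq_one_iff z).2 h)
    rw [hw1, orderOf_one] at hw
    exact (Fact.out : p.Prime).one_lt.ne hw
  · rw [← QuotientGroup.eq_one_iff]
    simp only [QuotientGroup.mk_mul, QuotientGroup.mk_inv]
    rw [hz, Subgroup.mem_center_iff.1 w.2, mul_inv_cancel_right, mul_inv_cancel]
  · rw [← QuotientGroup.eq_one_iff, QuotientGroup.mk_pow, hz, ← Subgroup.coe_pow,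
      orderOf_dvd_iff_pow_eq_one.1 (dvd_of_eq hw), Subgroup.coe_one]

/-- Away from characteristic `p` the derived length is at most `log p n + 1`. -/
theorem derived_ordinary_log {K : Type v} [Field K] [IsAlgClosed K] {p : ℕ} [Fact p.Prime]
    (hp0 : (p : K) ≠ 0) :
    ∀ (n : ℕ) (P : Type u) [Group P] [Finite P], IsPGroup p P →
      ∀ (V : Type v) [AddCommGroup V] [Module K V] [FiniteDimensional K V],
        finrank K V = n → ∀ ρ : P →* End K V,
          ∀ g ∈ derivedSeries P (Nat.log p n + 1), ρ g = 1 := by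
  intro n
  induction n using Nat.strong_induction_on with
  | _ n ih =>
  intro P _ _ hP V _ _ _ hn ρ g hg
  by_cases hred : ∃ W : Submodule K V, (∀ a, ∀ w ∈ W, ρ a w ∈ W) ∧ W ≠ ⊥ ∧ W ≠ ⊤
  · obtain ⟨W, hinv, hWb, hWt⟩ := hred
    have hlt : finrank K W < n := hn ▸ Submodule.finrank_lt hWt
    have hlt' : finrank K (V ⧸ W) < n := by
      have := W.finrank_quotient_add_finrank
      have := Submodule.one_le_finrank_iff.2 hWb
      omega
    have h1 := ih _ hlt P hP W rfl (subRep ρ W hinv) g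
      (derivedSeries_antitone P (Nat.succ_le_succ (Nat.log_mono_right hlt.le)) hg)
    have h3 := ih _ hlt' P hP (V ⧸ W) rfl (quotRep ρ W hinv) g
      (derivedSeries_antitone P (Nat.succ_le_succ (Nat.log_mono_right hlt'.le)) hg)
    set e := ρ g - 1 with he
    have hee : e * e = 0 := by
      apply LinearMap.ext
      intro x
      have ex := quotRep_apply ρ W hinv g h3 x
      simp [he, subRep_apply ρ W hinv g h1 _ ex]
    have hpow : ∀ k : ℕ, (1 + e) ^ k = 1 + k • e := by
      intro k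
      induction k with
      | zero => simp
      | succ k ihk =>
        rw [pow_succ, ihk, add_mul, one_mul, mul_add, mul_one, smul_mul_assoc, hee, smul_zero,
          add_zero, succ_nsmul]
        abel
    obtain ⟨m, hm⟩ := hP g
    have h4 := hpow (p ^ m)
    rw [he, add_sub_cancel, ← map_pow, hm, map_one, ← he, left_eq_add,
      ← Nat.cast_smul_eq_nsmul K, smul_eq_zero] at h4
    exact sub_eq_zero.1 (h4.resolve_left (by rw [Nat.cast_pow]; exact pow_ne_zero m hp0))
  push Not at hred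
  rcases Nat.lt_or_ge n 2 with h2 | h2
  · refine (MonoidHom.mem_ker (f := ρ.toHomUnits)).1 ?_ |> congrArg Units.val
    rw [derivedSeries_succ] at hg
    refine Subgroup.commutator_le.2 (fun a _ b _ => ?_) hg
    rw [MonoidHom.mem_ker, map_commutatorElement, commutatorElement_eq_one_iff_mul_comm]
    ext1
    rw [Units.val_mul, Units.val_mul]
    show ρ a * ρ b = ρ b * ρ a
    rcases subsingleton_or_nontrivial V with hs | hs
    · apply LinearMap.ext; intro x; exact Subsingleton.elim _ _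
    obtain ⟨y, hy⟩ := exists_ne (0 : V)
    have h0 : finrank K V = 1 := by
      have := Module.finrank_pos (R := K) (M := V); omega
    have h1 := (finrank_eq_one_iff_of_nonzero' y hy).1 h0
    obtain ⟨ca, hca⟩ := h1 (ρ a y)
    obtain ⟨cb, hcb⟩ := h1 (ρ b y)
    apply LinearMap.ext
    intro x
    obtain ⟨c, rfl⟩ := h1 x
    rw [Module.End.mul_apply, Module.End.mul_apply, map_smul (ρ b) c y, map_smul (ρ a) c y, ← hca,
      ← hcb]
    simp only [map_smul, ← hca, ← hcb, smul_smul]
    congr 1; ring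
  have hntV : Nontrivial V := Module.nontrivial_of_finrank_pos (R := K) (by omega)
  have hirr : ∀ W : Submodule K V, (∀ a, ∀ w ∈ W, ρ a w ∈ W) → W ≠ ⊥ → W = ⊤ := hred
  let σ := ρ.toHomUnits
  have : Finite σ.range := Finite.of_surjective _ σ.rangeRestrict_surjective
  have hQ : IsPGroup p σ.range := hP.of_surjective _ σ.rangeRestrict_surjective
  have hne : Subgroup.center σ.range ≠ ⊤ := by
    intro htop
    have hall : ∀ a, ∃ c : K, ∀ x, ρ a x = c • x := fun a => exists_scalar ρ hirr (ρ a) fun b => by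
      have h1 := (Subgroup.mem_center_iff.1 (htop ▸ Subgroup.mem_top (σ.rangeRestrict a)))
        (σ.rangeRestrict b)
      exact congrArg Units.val (congrArg Subtype.val h1)
    obtain ⟨y, hy⟩ := exists_ne (0 : V)
    have h1 := hirr (Submodule.span K {y}) (fun a w hw => by
      obtain ⟨c, hc⟩ := hall a
      rw [hc]; exact Submodule.smul_mem _ c hw) (by simpa using hy)
    have := finrank_span_singleton (K := K) hy
    rw [h1, finrank_top] at this
    omega
  obtain ⟨z, hz, hzc, hzp⟩ := exists_second_central_prime hQ hne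
  obtain ⟨z₀, rfl⟩ := σ.rangeRestrict_surjective z
  -- `ρ a` multiplies `ρ z₀` by a scalar
  have hscal : ∀ a, ∃ μ : K, ∀ x, ρ (a * z₀ * a⁻¹ * z₀⁻¹) x = μ • x := fun a =>
    exists_scalar ρ hirr _ fun b => by
      have h1 := Subgroup.mem_center_iff.1 (hzc (σ.rangeRestrict a)) (σ.rangeRestrict b)
      rw [← map_inv, ← map_mul, ← map_mul, ← map_inv, ← map_mul] at h1
      exact congrArg Units.val (congrArg Subtype.val h1)
  let M : Subgroup P :=
    { carrier := {a | ρ a * ρ z₀ = ρ z₀ * ρ a}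
      one_mem' := by simp
      mul_mem' := fun {a b} ha hb => by
        simp only [Set.mem_ofPred_eq] at ha hb ⊢
        rw [map_mul, mul_assoc, hb, ← mul_assoc, ha, mul_assoc]
      inv_mem' := fun {a} ha => by
        simp only [Set.mem_ofPred_eq] at ha ⊢
        calc ρ a⁻¹ * ρ z₀ = ρ a⁻¹ * (ρ z₀ * ρ a) * ρ a⁻¹ := by
              rw [mul_assoc (ρ a⁻¹), mul_assoc (ρ z₀), ← map_mul ρ a, mul_inv_cancel, map_one, mul_one]
          _ = ρ z₀ * ρ a⁻¹ := by
              rw [← ha, ← mul_assoc, ← map_mul ρ a⁻¹, inv_mul_cancel, map_one, one_mul] }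
  have hcommM : ∀ a b, a * b * a⁻¹ * b⁻¹ ∈ M := by
    intro a b
    obtain ⟨μa, hμa⟩ := hscal a
    obtain ⟨μb, hμb⟩ := hscal b
    have e : ∀ (c : P) (μ : K), (∀ x, ρ (c * z₀ * c⁻¹ * z₀⁻¹) x = μ • x) →
        μ ≠ 0 ∧ ρ c * ρ z₀ = μ • (ρ z₀ * ρ c) := by
      intro c μ hμ
      have h1 : ρ (c * z₀ * c⁻¹ * z₀⁻¹) = μ • (1 : End K V) := LinearMap.ext hμ
      refine ⟨fun h0 => ?_, ?_⟩
      · obtain ⟨y, hy⟩ := exists_ne (0 : V)
        refine hy (rep_injective ρ (c * z₀ * c⁻¹ * z₀⁻¹) ?_)
        rw [hμ, h0, zero_smul, map_zero]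
      · rw [← one_mul (ρ z₀ * ρ c), ← smul_mul_assoc, ← h1, ← map_mul, ← map_mul, ← map_mul]
        congr 1; group
    obtain ⟨ha0, hab⟩ := e a μa hμa
    obtain ⟨hb0, hba⟩ := e b μb hμb
    have h1 : ρ (a * b) * ρ z₀ = (μb * μa) • (ρ z₀ * ρ (a * b)) := by
      rw [map_mul, mul_assoc, hba, mul_smul_comm, ← mul_assoc, hab, smul_mul_assoc, smul_smul,
        mul_assoc]
    have h2 : ρ (b * a) * ρ z₀ = (μb * μa) • (ρ z₀ * ρ (b * a)) := by
      rw [map_mul, mul_assoc, hab, mul_smul_comm, ← mul_assoc, hba, smul_mul_assoc, smul_smul,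
        mul_assoc, mul_comm μb μa]
    have h3 : ρ z₀ * ρ (b * a)⁻¹ = (μb * μa) • (ρ (b * a)⁻¹ * ρ z₀) := by
      calc ρ z₀ * ρ (b * a)⁻¹ = ρ (b * a)⁻¹ * (ρ (b * a) * ρ z₀) * ρ (b * a)⁻¹ := by
            rw [← mul_assoc, ← map_mul ρ (b * a)⁻¹, inv_mul_cancel, map_one, one_mul]
        _ = (μb * μa) • (ρ (b * a)⁻¹ * ρ z₀) := by
            rw [h2, mul_smul_comm, smul_mul_assoc, mul_assoc, mul_assoc (ρ z₀), ← map_mul ρ (b * a),
              mul_inv_cancel, map_one, mul_one]
    show ρ (a * b * a⁻¹ * b⁻¹) * ρ z₀ = ρ z₀ * ρ (a * b * a⁻¹ * b⁻¹)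
    have hu : a * b * a⁻¹ * b⁻¹ = a * b * (b * a)⁻¹ := by group
    rw [hu, map_mul, map_mul]
    apply smul_right_injective (End K V) (mul_ne_zero hb0 ha0)
    show (μb * μa) • _ = (μb * μa) • _
    rw [mul_assoc, ← mul_smul_comm, ← h3, ← mul_assoc, ← map_mul ρ a, h1, smul_mul_assoc, mul_assoc,
      map_mul ρ a]
  have hPM : derivedSeries P 1 ≤ M := by
    rw [derivedSeries_succ, derivedSeries_zero, Subgroup.commutator_le]
    exact fun a _ b _ => commutatorElement_def a b ▸ hcommM a b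
  have hMn : M.Normal := ⟨fun m hm a => by
    have h1 : a * m * a⁻¹ * m⁻¹ * m ∈ M := M.mul_mem (hcommM a m) hm
    rwa [inv_mul_cancel_right] at h1⟩
  -- a small `M`-invariant subspace
  obtain ⟨c, hc⟩ := Module.End.exists_eigenvalue (ρ z₀)
  set W := (ρ z₀).eigenspace c with hW
  have hWb : W ≠ ⊥ := hc
  have hWinv : ∀ m : P, m ∈ M → ∀ w ∈ W, ρ m w ∈ W := by
    intro m hm w hw
    rw [hW, Module.End.mem_eigenspace_iff] at hw ⊢
    have := LinearMap.congr_fun (show ρ m * ρ z₀ = ρ z₀ * ρ m from hm) w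
    simp only [Module.End.mul_apply] at this
    rw [← this, hw, map_smul]
  obtain ⟨a, μ, hμ, hμ1⟩ : ∃ (a : P) (μ : K), (∀ x, ρ (a * z₀ * a⁻¹ * z₀⁻¹) x = μ • x) ∧ μ ≠ 1 := by
    by_contra! hall
    refine hz (Subgroup.mem_center_iff.2 fun q => ?_)
    obtain ⟨b, rfl⟩ := σ.rangeRestrict_surjective q
    apply Subtype.ext
    apply Units.ext
    show ρ b * ρ z₀ = ρ z₀ * ρ b
    obtain ⟨ν, hν⟩ := hscal b
    have h1 : ρ (b * z₀ * b⁻¹ * z₀⁻¹) = 1 := LinearMap.ext fun x => by
      rw [hν, hall b ν hν, one_smul, Module.End.one_apply]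
    calc ρ b * ρ z₀ = ρ (b * z₀ * b⁻¹ * z₀⁻¹) * (ρ z₀ * ρ b) := by
          rw [← map_mul, ← map_mul, ← map_mul]; congr 1; group
      _ = ρ z₀ * ρ b := by rw [h1, one_mul]
  have hr : ∀ x, ρ a (ρ z₀ x) = μ • ρ z₀ (ρ a x) := by
    intro x
    rw [← hμ, ← Module.End.mul_apply, ← Module.End.mul_apply, ← Module.End.mul_apply, ← map_mul,
      ← map_mul, ← map_mul]
    congr 2; group
  have hμp : μ ^ p = 1 := by
    have hit : ∀ (i : ℕ) x, ρ a ((ρ z₀ ^ i) x) = μ ^ i • (ρ z₀ ^ i) (ρ a x) := by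
      intro i
      induction i with
      | zero => simp
      | succ i ihi =>
        intro x
        simp only [pow_succ', Module.End.mul_apply, hr, ihi, map_smul, smul_smul]
    have hcen : ρ a * ρ z₀ ^ p = ρ z₀ ^ p * ρ a := by
      have h1 := congrArg Units.val (congrArg Subtype.val
        (Subgroup.mem_center_iff.1 hzp (σ.rangeRestrict a)))
      simpa [σ] using h1
    obtain ⟨y, hy⟩ := exists_ne (0 : V)
    have h2 := hit p y
    have h3 := LinearMap.congr_fun hcen y
    simp only [Module.End.mul_apply] at h3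
    rw [h3] at h2
    have hne' : (ρ z₀ ^ p) (ρ a y) ≠ 0 := by
      intro h0
      refine hy (rep_injective ρ a (rep_injective ρ (z₀ ^ p) ?_))
      rw [map_pow, h0, map_zero, map_zero]
    exact smul_left_injective K hne' (by simpa using h2.symm)
  have hμo : orderOf μ = p := orderOf_eq_prime hμp hμ1
  have hc0 : c ≠ 0 := fun h0 => hWb <| (Submodule.eq_bot_iff _).2 fun w hw => by
    rw [hW, Module.End.mem_eigenspace_iff, h0, zero_smul] at hw
    exact rep_injective ρ z₀ (hw.trans (map_zero _).symm)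
  have hμ0 : μ ≠ 0 := fun h0 => by
    rw [h0, zero_pow (Fact.out : p.Prime).ne_zero] at hμp
    exact zero_ne_one hμp
  have hsmall : p * finrank K W ≤ n := by
    have hmove : ∀ (i : ℕ) (w : V), w ∈ W → μ ^ i • ρ z₀ (ρ (a ^ i) w) = c • ρ (a ^ i) w := by
      intro i
      induction i with
      | zero =>
        intro w hw
        simpa using Module.End.mem_eigenspace_iff.1 hw
      | succ i ihi =>
        intro w hw
        rw [pow_succ' a i, map_mul ρ a (a ^ i), Module.End.mul_apply, ← map_smul (ρ a), ← ihi w hw,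
          map_smul (ρ a), hr, smul_smul, pow_succ μ i]
    have hle : ∀ i : Fin p, W.map (ρ (a ^ (i : ℕ))) ≤
        (ρ z₀).eigenspace (c * (μ ^ (i : ℕ))⁻¹) := by
      rintro i _ ⟨w, hw, rfl⟩
      rw [Module.End.mem_eigenspace_iff, mul_comm c, mul_smul, ← hmove i w hw, smul_smul,
        inv_mul_cancel₀ (pow_ne_zero _ hμ0), one_smul]
    have hinj : Function.Injective fun i : Fin p => c * (μ ^ (i : ℕ))⁻¹ := fun i j hij => by
      refine Fin.ext (pow_injOn_Iio_orderOf (x := μ) ?_ ?_ (inv_injective (mul_left_cancel₀ hc0 hij)))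
      · show (i : ℕ) < orderOf μ
        rw [hμo]; exact i.2
      · show (j : ℕ) < orderOf μ
        rw [hμo]; exact j.2
    have h1 := sum_finrank_le (((Module.End.eigenspaces_iSupIndep (ρ z₀)).comp hinj).mono hle)
    simp only [finrank_map_rep, Finset.sum_const, Finset.card_univ, Fintype.card_fin,
      smul_eq_mul] at h1
    omega
  have hWpos : 0 < finrank K W := Submodule.one_le_finrank_iff.2 hWb
  have hp2' := (Fact.out : p.Prime).two_le
  have hlt : finrank K W < n := by nlinarith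
  have hlog : Nat.log p (finrank K W) + 1 ≤ Nat.log p n := by
    rw [← Nat.log_mul_base (by omega) hWpos.ne']
    exact Nat.log_mono_right (by linarith)
  let ρW : M →* End K W := subRep (ρ.comp M.subtype) W fun m w hw => hWinv m m.2 w hw
  have htriv : ∀ x ∈ derivedSeries P (Nat.log p n + 1), ∀ w ∈ W, ρ x w = w := by
    intro x hx w hw
    have hx' := derived_le_map M hPM (Nat.log p (finrank K W) + 1)
      (derivedSeries_antitone P (by omega) hx)
    obtain ⟨y, hy, rfl⟩ := hx'
    exact subRep_apply (ρ.comp M.subtype) W (fun m w hw => hWinv m m.2 w hw) y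
      (ih _ hlt M (hP.to_subgroup M) W rfl ρW y hy) w hw
  -- the translates of `W` span
  let U : Submodule K V := LinearMap.ker (ρ g - 1)
  have hUtop : (⨆ a : P, W.map (ρ a)) = ⊤ := by
    refine hirr _ (fun b w hw => ?_) (fun h0 => hWb ?_)
    · have : (⨆ a : P, W.map (ρ a)).map (ρ b) ≤ ⨆ a : P, W.map (ρ a) := by
        rw [Submodule.map_iSup]
        refine iSup_le fun a => ?_
        rw [← Submodule.map_comp, ← Module.End.mul_eq_comp, ← map_mul]
        exact le_iSup (fun a => W.map (ρ a)) (b * a)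
      exact this (Submodule.mem_map_of_mem hw)
    · rw [eq_bot_iff, ← h0]
      refine le_iSup_of_le 1 ?_
      rw [map_one, Module.End.one_eq_id, Submodule.map_id]
  have hle : (⨆ a : P, W.map (ρ a)) ≤ U := by
    refine iSup_le fun a => ?_
    rintro _ ⟨w, hw, rfl⟩
    have h1 := htriv (a⁻¹ * g * a) (by simpa using (derivedSeries_normal P _).conj_mem g hg a⁻¹) w hw
    simp only [U, LinearMap.mem_ker, LinearMap.sub_apply, Module.End.one_apply, sub_eq_zero]
    have h3 := congrArg (ρ a) h1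
    rw [← Module.End.mul_apply, ← map_mul] at h3
    rwa [← Module.End.mul_apply, ← map_mul, show g * a = a * (a⁻¹ * g * a) by group]
  rw [hUtop, top_le_iff] at hle
  exact sub_eq_zero.1 (LinearMap.ker_eq_top.1 hle)

end Cfsg.Agent.Lib.Fg6.LinearDerivedLog
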