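/-
Derived length of iterated wreath products of a cyclic group of prime order, and of Sylow subgroups
of symmetric groups.
-/
import Mathlib.GroupTheory.RegularWreathProduct
import Mathlib.GroupTheory.Solvable
import Mathlib.GroupTheory.Perm.ViaEmbedding
import Mathlib.GroupTheory.GroupAction.Hom
import Mathlib.Data.Nat.Log

set_option autoImplicit false
set_option linter.style.haveILetI false

namespace Cfsg.Agent.Lib.Fg6.WreathDerived

open scoped commutatorElement

section Wreath

variable {D Q : Type*} [Group D] [Group Q]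

/-- Elements of the base with all coordinates in `H`. -/
def base (H : Subgroup D) : Subgroup (RegularWreathProduct D Q) where
  carrier := {w | w.right = 1 ∧ ∀ x, w.left x ∈ H}
  one_mem' := ⟨rfl, fun _ => H.one_mem⟩
  mul_mem' := fun {a b} ha hb => ⟨by rw [RegularWreathProduct.mul_right, ha.1, hb.1, mul_one],
    fun x => by simpa using H.mul_mem (ha.2 x) (hb.2 (a.right⁻¹ * x))⟩
  inv_mem' := fun {a} ha => ⟨by rw [RegularWreathProduct.inv_right, ha.1, inv_one],
    fun x => by simpa using H.inv_mem (ha.2 (a.right * x))⟩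

theorem mem_base {H : Subgroup D} {w : RegularWreathProduct D Q} :
    w ∈ base H ↔ w.right = 1 ∧ ∀ x, w.left x ∈ H := Iff.rfl

theorem commutator_left {a b : RegularWreathProduct D Q} (ha : a.right = 1) (hb : b.right = 1)
    (x : Q) : ⁅a, b⁆.left x = ⁅a.left x, b.left x⁆ := by
  simp [commutatorElement_def, ha, hb]

theorem derivedSeries_le_base (hQ : ∀ a b : Q, a * b = b * a) (i : ℕ) :
    derivedSeries (RegularWreathProduct D Q) (i + 1) ≤ base (derivedSeries D i) := by
  induction i with
  | zero =>
    rw [derivedSeries_succ, Subgroup.commutator_le]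
    intro a _ b _
    refine ⟨?_, fun x => by simp⟩
    show RegularWreathProduct.rightHom ⁅a, b⁆ = 1
    rw [map_commutatorElement, commutatorElement_eq_one_iff_mul_comm]
    exact hQ _ _
  | succ i ih =>
    rw [derivedSeries_succ _ (i + 1), Subgroup.commutator_le]
    intro a ha b hb
    obtain ⟨ha1, ha2⟩ := ih ha
    obtain ⟨hb1, hb2⟩ := ih hb
    refine ⟨?_, fun x => ?_⟩
    · show RegularWreathProduct.rightHom ⁅a, b⁆ = 1
      rw [map_commutatorElement, commutatorElement_eq_one_iff_mul_comm]
      exact hQ _ _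
    · rw [commutator_left ha1 hb1, derivedSeries_succ]
      exact Subgroup.commutator_mem_commutator (ha2 x) (hb2 x)

theorem exists_lift (hQ : ∀ a b : Q, a * b = b * a) [Nontrivial Q] (i : ℕ) :
    ∀ d ∈ derivedSeries D i, ∃ w ∈ derivedSeries (RegularWreathProduct D Q) (i + 1),
      w.left 1 = d := by
  classical
  induction i with
  | zero =>
    intro d _
    obtain ⟨q, hq⟩ := exists_ne (1 : Q)
    let f : RegularWreathProduct D Q := ⟨Pi.mulSingle 1 d, 1⟩
    refine ⟨⁅f, RegularWreathProduct.inl q⁆, ?_, ?_⟩
    · rw [derivedSeries_succ]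
      exact Subgroup.commutator_mem_commutator (by simp) (by simp)
    · simp [f, commutatorElement_def, Pi.mulSingle, Function.update, hq]
  | succ i ih =>
    intro d hd
    rw [derivedSeries_succ, Subgroup.commutator_def] at hd
    induction hd using Subgroup.closure_induction with
    | mem d hd =>
      obtain ⟨a, ha, b, hb, rfl⟩ := hd
      obtain ⟨u, hu, hu1⟩ := ih a ha
      obtain ⟨v, hv, hv1⟩ := ih b hb
      refine ⟨⁅u, v⁆, ?_, ?_⟩
      · rw [derivedSeries_succ _ (i + 1)]
        exact Subgroup.commutator_mem_commutator hu hv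
      · rw [commutator_left (derivedSeries_le_base hQ i hu).1 (derivedSeries_le_base hQ i hv).1,
          hu1, hv1]
    | one => exact ⟨1, one_mem _, rfl⟩
    | mul a b _ _ ha hb =>
      obtain ⟨u, hu, hu1⟩ := ha
      obtain ⟨v, hv, hv1⟩ := hb
      refine ⟨u * v, mul_mem hu hv, ?_⟩
      simp [(derivedSeries_le_base hQ (i + 1) hu).1, hu1, hv1]
    | inv a _ ha =>
      obtain ⟨u, hu, hu1⟩ := ha
      refine ⟨u⁻¹, inv_mem hu, ?_⟩
      simp [(derivedSeries_le_base hQ (i + 1) hu).1, hu1]

end Wreath

theorem derivedSeries_iterated (G : Type*) [Group G] (hG : ∀ a b : G, a * b = b * a) :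
    ∀ k, derivedSeries (IteratedWreathProduct G k) k = ⊥
  | 0 => (Subgroup.eq_bot_iff_forall _).2 fun (x : PUnit) _ => rfl
  | k + 1 => by
    show derivedSeries (RegularWreathProduct (IteratedWreathProduct G k) G) (k + 1) = ⊥
    rw [Subgroup.eq_bot_iff_forall]
    intro w hw
    obtain ⟨h1, h2⟩ := derivedSeries_le_base hG k hw
    rw [derivedSeries_iterated G hG k] at h2
    exact RegularWreathProduct.ext (funext fun x => h2 x) h1

theorem derivedSeries_iterated_ne (G : Type*) [Group G] [Nontrivial G]
    (hG : ∀ a b : G, a * b = b * a) :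
    ∀ k, derivedSeries (IteratedWreathProduct G (k + 1)) k ≠ ⊥
  | 0 => by
    show derivedSeries (RegularWreathProduct (IteratedWreathProduct G 0) G) 0 ≠ ⊥
    intro h
    obtain ⟨q, hq⟩ := exists_ne (1 : G)
    rw [derivedSeries_zero] at h
    have h1 : (RegularWreathProduct.inl q : RegularWreathProduct (IteratedWreathProduct G 0) G) ∈
        (⊥ : Subgroup _) := h ▸ Subgroup.mem_top _
    exact hq (congrArg RegularWreathProduct.right (Subgroup.mem_bot.1 h1))
  | k + 1 => by
    show derivedSeries (RegularWreathProduct (IteratedWreathProduct G (k + 1)) G) (k + 1) ≠ ⊥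
    intro h
    refine derivedSeries_iterated_ne G hG k ((Subgroup.eq_bot_iff_forall _).2 fun d hd => ?_)
    obtain ⟨w, hw, hw1⟩ := exists_lift hG k d hd
    rw [h, Subgroup.mem_bot] at hw
    rw [← hw1, hw]
    rfl

theorem derivedSeries_eq_bot_of_injective {A B : Type*} [Group A] [Group B] (f : A →* B)
    (hf : Function.Injective f) {n : ℕ} (h : derivedSeries B n = ⊥) : derivedSeries A n = ⊥ := by
  have h1 := map_derivedSeries_le_derivedSeries f n
  rw [h, le_bot_iff, (Subgroup.map_eq_bot_iff_of_injective _ hf)] at h1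
  exact h1

/-- A `p`-group of permutations of fewer than `p ^ (k + 1)` points has derived length at most `k`. -/
theorem derivedSeries_perm_pGroup (p : ℕ) [hp : Fact p.Prime] {α : Type*} [Finite α] (k : ℕ)
    (hα : Nat.card α < p ^ (k + 1)) (P : Subgroup (Equiv.Perm α)) (hP : IsPGroup p P) :
    derivedSeries P k = ⊥ := by
  have hpp : p.Prime := Fact.out
  rw [Subgroup.eq_bot_iff_forall]
  intro g hg
  refine Subtype.ext (Equiv.ext fun a => ?_)
  obtain ⟨j, hj⟩ := hP.card_orbit a
  have hjk : j ≤ k := by
    by_contra hlt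
    have h1 : Nat.card (MulAction.orbit P a) ≤ Nat.card α := Finite.card_subtype_le _
    have h2 := Nat.pow_le_pow_right hpp.pos (show k + 1 ≤ j by omega)
    omega
  let φ := MulAction.toPermHom P (MulAction.orbit P a)
  obtain ⟨S, hS⟩ := (hP.of_surjective φ.rangeRestrict φ.rangeRestrict_surjective).exists_le_sylow
  let C := Multiplicative (ZMod p)
  have hC : Nat.card C = p := (Nat.card_congr Multiplicative.toAdd).trans (Nat.card_zmod p)
  let e := Sylow.mulEquivIteratedWreathProduct p j _ hj C hC S
  let ψ : P →* IteratedWreathProduct C j :=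
    e.toMonoidHom.comp ((Subgroup.inclusion hS).comp φ.rangeRestrict)
  have h1 : ψ g = 1 := by
    rw [← Subgroup.mem_bot, ← derivedSeries_iterated C (fun x y => mul_comm x y) j]
    exact derivedSeries_antitone _ hjk (map_derivedSeries_le_derivedSeries ψ k ⟨g, hg, rfl⟩)
  have h2 : Subgroup.inclusion hS (φ.rangeRestrict g) = 1 :=
    e.injective (h1.trans (map_one e).symm)
  have h3 : φ g = 1 := congrArg Subtype.val h2
  exact congrArg Subtype.val
    (DFunLike.congr_fun h3 (⟨a, MulAction.mem_orbit_self a⟩ : MulAction.orbit P a))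

/-- Some `p`-group of permutations of `p ^ (k + 1)` points has derived length more than `k`. -/
theorem exists_perm_pGroup (p : ℕ) [hp : Fact p.Prime] {α : Type*} [Finite α] (k : ℕ)
    (hα : p ^ (k + 1) ≤ Nat.card α) :
    ∃ H : Subgroup (Equiv.Perm α), IsPGroup p H ∧ derivedSeries H k ≠ ⊥ := by
  have hpp : p.Prime := Fact.out
  let C := Multiplicative (ZMod p)
  have hC : Nat.card C = p := (Nat.card_congr Multiplicative.toAdd).trans (Nat.card_zmod p)
  haveI : Nontrivial C := Finite.one_lt_card_iff_nontrivial.1 (hC ▸ hpp.one_lt)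
  have hcard : Nat.card (Fin (k + 1) → C) ≤ Nat.card α := by
    rw [Nat.card_fun, Nat.card_fin, hC]; exact hα
  let ι : (Fin (k + 1) → C) ↪ α :=
    ((Finite.equivFin (Fin (k + 1) → C)).toEmbedding.trans (Fin.castLEEmb hcard)).trans
      (Finite.equivFin α).symm.toEmbedding
  let f := (Equiv.Perm.viaEmbeddingHom ι).comp (iteratedWreathToPermHom C (k + 1))
  have hf : Function.Injective f :=
    (Equiv.Perm.viaEmbeddingHom_injective ι).comp (iteratedWreathToPermHomInj C (k + 1))
  refine ⟨f.range, ?_, fun h => derivedSeries_iterated_ne C (fun x y => mul_comm x y) k ?_⟩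
  · refine IsPGroup.of_surjective ?_ f.rangeRestrict f.rangeRestrict_surjective
    exact IsPGroup.of_card (by rw [IteratedWreathProduct.card, hC])
  · exact derivedSeries_eq_bot_of_injective f.rangeRestrict
      (fun x y hxy => hf (congrArg Subtype.val hxy)) h

end Cfsg.Agent.Lib.Fg6.WreathDerived
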