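/-
Derived length of the Sylow subgroups of general linear groups in cross characteristic.
-/
import Cfsg.Agent.Lib.Fg6.LinearDerivedLog
import Cfsg.Agent.Lib.Fg6.WreathDerived
import Cfsg.Agent.Lib.PSubgroupGL

set_option autoImplicit false
set_option linter.style.haveILetI false

namespace Cfsg.Agent.Lib.Fg6.LinearSylow

open Module (End finrank)

universe u v

/-- Upper bound over a finite field. -/
theorem derived_finite_field {F : Type u} [Field F] [Finite F] {p : ℕ} [Fact p.Prime]
    (hp0 : (p : F) ≠ 0) :
    ∀ (n : ℕ) (P : Type v) [Group P] [Finite P], IsPGroup p P →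
      ∀ (V : Type u) [AddCommGroup V] [Module F V] [FiniteDimensional F V],
        finrank F V = n → ∀ ρ : P →* End F V,
          ∀ g ∈ derivedSeries P (Nat.log p (n / orderOf (Nat.card F : ZMod p)) + 1), ρ g = 1 := by
  intro n
  induction n using Nat.strong_induction_on with
  | _ n ih =>
  intro P _ _ hP V _ _ _ hn ρ g hg
  have hmono : ∀ m, m ≤ n → g ∈ derivedSeries P
      (Nat.log p (m / orderOf (Nat.card F : ZMod p)) + 1) := fun m hm =>
    derivedSeries_antitone P (Nat.succ_le_succ (Nat.log_mono_right (Nat.div_le_div_right hm))) hg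
  by_cases hred : ∃ W : Submodule F V, (∀ a, ∀ w ∈ W, ρ a w ∈ W) ∧ W ≠ ⊥ ∧ W ≠ ⊤
  · obtain ⟨W, hinv, hWb, hWt⟩ := hred
    have hlt : finrank F W < n := hn ▸ Submodule.finrank_lt hWt
    have hlt' : finrank F (V ⧸ W) < n := by
      have := W.finrank_quotient_add_finrank
      have := Submodule.one_le_finrank_iff.2 hWb
      omega
    exact PSubgroupGL.split ρ hP hp0 W hinv
      (ih _ hlt P hP W rfl (PSubgroupGL.res ρ W hinv) g (hmono _ hlt.le))
      (ih _ hlt' P hP (V ⧸ W) rfl (PSubgroupGL.quo ρ W hinv) g (hmono _ hlt'.le))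
  push Not at hred
  by_cases htriv : ∀ a, ρ a = 1
  · exact htriv g
  push Not at htriv
  obtain ⟨a, ha⟩ := htriv
  have hntV : Nontrivial V := by
    by_contra hs
    rw [not_nontrivial_iff_subsingleton] at hs
    exact ha (LinearMap.ext fun x => Subsingleton.elim _ _)
  have hirr : PSubgroupGL.Irred ρ := fun U hU => or_iff_not_imp_left.2 fun h => hred U hU h
  let σ := ρ.toHomUnits
  have hQ : IsPGroup p σ.range := hP.of_surjective _ σ.rangeRestrict_surjective
  have : Finite σ.range := Finite.of_surjective _ σ.rangeRestrict_surjective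
  have : Nontrivial σ.range := ⟨⟨σ.rangeRestrict a, 1, fun h =>
    ha (congrArg Units.val (congrArg Subtype.val h))⟩⟩
  have := hQ.center_nontrivial
  obtain ⟨k, hk, hcard⟩ := (hQ.to_subgroup (Subgroup.center σ.range)).nontrivial_iff_card.1 inferInstance
  obtain ⟨z, hz⟩ := exists_prime_orderOf_dvd_card' (G := Subgroup.center σ.range) p
    (hcard ▸ dvd_pow_self p (by omega))
  let f : End F V := (((z : σ.range) : (End F V)ˣ) : End F V)
  have hfp : f ^ p = 1 := by
    have h1 := congrArg (fun t : Subgroup.center σ.range => (((t : σ.range) : (End F V)ˣ) : End F V))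
      (orderOf_dvd_iff_pow_eq_one.1 (dvd_of_eq hz))
    simpa [f] using h1
  have hf1 : f ≠ 1 := fun h => by
    have hz1 : z = 1 := Subtype.ext (Subtype.ext (Units.ext h))
    rw [hz1, orderOf_one] at hz
    exact (Fact.out : p.Prime).one_lt.ne hz
  have hf : ∀ b, Commute f (ρ b) := fun b =>
    (congrArg Units.val (congrArg Subtype.val
      (Subgroup.mem_center_iff.1 z.2 (σ.rangeRestrict b)))).symm
  obtain ⟨L, _, _, _, _, _, ρ', φ, hmul, hker, hφ, -⟩ := PSubgroupGL.extend_field ρ hirr f hf
  have : Finite L := Module.finite_of_finite F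
  have := Fintype.ofFinite L
  have hiter : ∀ (i : ℕ) (x : V), φ ^ i • x = (f ^ i) x := by
    intro i
    induction i with
    | zero => intro x; simp
    | succ i ihi => intro x; rw [pow_succ', mul_smul, hφ, ihi, pow_succ', Module.End.mul_apply]
  obtain ⟨y, hy⟩ := exists_ne (0 : V)
  have hφp : φ ^ p = 1 := smul_left_injective L hy (by
    show φ ^ p • y = (1 : L) • y
    rw [hiter, hfp, one_smul, Module.End.one_apply])
  have hφ1 : φ ≠ 1 := fun h => hf1 (LinearMap.ext fun x => by
    rw [← hφ, h, one_smul, Module.End.one_apply])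
  have hp2 := (Fact.out : p.Prime).two_le
  have hφ0 : φ ≠ 0 := fun h => by
    rw [h, zero_pow (by omega)] at hφp
    exact zero_ne_one hφp
  have hdvd : p ∣ Fintype.card L - 1 := by
    rw [← orderOf_eq_prime hφp hφ1]
    exact orderOf_dvd_of_pow_eq_one (FiniteField.pow_card_sub_one_eq_one φ hφ0)
  have he : orderOf (Nat.card F : ZMod p) ∣ finrank F L := by
    refine orderOf_dvd_of_pow_eq_one ?_
    rw [← Nat.cast_pow, ← Module.natCard_eq_pow_finrank, Nat.card_eq_fintype_card,
      ← Nat.sub_add_cancel Fintype.card_pos, Nat.cast_add, (ZMod.natCast_eq_zero_iff _ _).2 hdvd,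
      zero_add, Nat.cast_one]
  have hm : Nat.log p (finrank L V) ≤ Nat.log p (n / orderOf (Nat.card F : ZMod p)) := by
    have hLpos : 0 < finrank F L := Module.finrank_pos
    refine Nat.log_mono_right ((Nat.le_div_iff_mul_le (Nat.pos_of_dvd_of_pos he hLpos)).2 ?_)
    rw [← hn, ← hmul, mul_comm]
    exact Nat.mul_le_mul_right _ (Nat.le_of_dvd hLpos he)
  let E := AlgebraicClosure L
  let b := Module.finBasis L V
  have hinj : Function.Injective (Matrix.map · (algebraMap L E) :
      Matrix (Fin (finrank L V)) (Fin (finrank L V)) L → _) :=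
    Matrix.map_injective (algebraMap L E).injective
  let R : P →* End E (Fin (finrank L V) → E) :=
    ((Matrix.toLinAlgEquiv' (R := E)).toMulEquiv.toMonoidHom.comp
      ((algebraMap L E).mapMatrix.toMonoidHom.comp
        (LinearMap.toMatrixAlgEquiv b).toMulEquiv.toMonoidHom)).comp ρ'
  have hpE : (p : E) ≠ 0 := by
    rw [← map_natCast (algebraMap L E)]
    refine fun h => hp0 ?_
    have h1 : (p : L) = 0 := (algebraMap L E).injective (h.trans (map_zero _).symm)
    rw [← map_natCast (algebraMap F L)] at h1
    exact (algebraMap F L).injective (h1.trans (map_zero _).symm)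
  have h1 := LinearDerivedLog.derived_ordinary_log hpE (finrank L V) P hP (Fin (finrank L V) → E)
    (Module.finrank_fin_fun E) R g (derivedSeries_antitone P (Nat.succ_le_succ hm) hg)
  refine hker g ?_
  have h2 : (Matrix.toLinAlgEquiv' (R := E))
      ((LinearMap.toMatrixAlgEquiv b (ρ' g)).map (algebraMap L E)) = 1 := h1
  rw [map_eq_one_iff _ (AlgEquiv.injective _),
    ← Matrix.map_one _ (map_zero (algebraMap L E)) (map_one (algebraMap L E))] at h2
  exact (map_eq_one_iff _ (AlgEquiv.injective _)).1 (hinj h2)

section Lower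

variable {F : Type u} [Field F] {D Q : Type*} [Group D] [Group Q]
  {V : Type*} [AddCommGroup V] [Module F V]

/-- The imprimitive representation of a regular wreath product. -/
def wreathRep (ρ : D →* End F V) : RegularWreathProduct D Q →* End F (Q → V) where
  toFun w :=
    { toFun := fun f x => ρ (w.left x) (f (w.right⁻¹ * x))
      map_add' := fun f g => funext fun x => by simp
      map_smul' := fun c f => funext fun x => by simp }
  map_one' := LinearMap.ext fun f => funext fun x => by simp
  map_mul' a b := LinearMap.ext fun f => funext fun x => by simp [mul_assoc]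

theorem wreathRep_injective [Nontrivial V] (ρ : D →* End F V) (hρ : Function.Injective ρ) :
    Function.Injective (wreathRep (Q := Q) ρ) := by
  classical
  intro a b hab
  have key : ∀ (f : Q → V) (x : Q),
      ρ (a.left x) (f (a.right⁻¹ * x)) = ρ (b.left x) (f (b.right⁻¹ * x)) :=
    fun f x => congrFun (LinearMap.congr_fun hab f) x
  have hinj : ∀ (d : D) (v : V), ρ d v = 0 → v = 0 := fun d v h => by
    have := congrArg (ρ d⁻¹) h
    rwa [← Module.End.mul_apply, ← map_mul, inv_mul_cancel, map_one, Module.End.one_apply,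
      map_zero] at this
  have hr : a.right = b.right := by
    by_contra hne
    obtain ⟨v, hv⟩ := exists_ne (0 : V)
    have h := key (Pi.single 1 v) a.right
    rw [inv_mul_cancel, Pi.single_eq_same,
      Pi.single_eq_of_ne (fun h' => hne (inv_mul_eq_one.1 h').symm), map_zero] at h
    exact hv (hinj _ _ h)
  refine RegularWreathProduct.ext (funext fun x => hρ (LinearMap.ext fun v => ?_)) hr
  simpa [hr] using key (fun _ => v) x

end Lower

/-- Faithful representation of `C_p ≀ (Sylow of Sym (p ^ j))` in dimension `e * p ^ j`. -/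
theorem exists_rep {F : Type u} [Field F] [Finite F] (p : ℕ) [Fact p.Prime]
    (hq : (Nat.card F : ZMod p) ≠ 0) : ∀ j : ℕ,
    ∃ ρ : IteratedWreathProduct (Multiplicative (ZMod p)) (j + 1) →*
      End F (Fin (orderOf (Nat.card F : ZMod p) * p ^ j) → F), Function.Injective ρ
  | 0 => by
    classical
    have := Fintype.ofFinite F
    set e := orderOf (Nat.card F : ZMod p) with he
    have he0 : 0 < e := by
      rw [he, orderOf_pos_iff]
      exact isOfFinOrder_iff_pow_eq_one.2
        ⟨p - 1, by have := (Fact.out : p.Prime).two_le; omega, ZMod.pow_card_sub_one_eq_one hq⟩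
    have hdvd : p ∣ Nat.card (Matrix.GeneralLinearGroup (Fin (e * p ^ 0)) F) := by
      rw [Matrix.card_GL_field]
      refine dvd_trans ?_ (Finset.dvd_prod_of_mem _ (Finset.mem_univ ⟨0, by simpa using he0⟩))
      simp only [pow_zero, mul_one]
      rw [← ZMod.natCast_eq_zero_iff, Nat.cast_sub (Nat.one_le_pow _ _ Fintype.card_pos),
        Nat.cast_pow, ← Nat.card_eq_fintype_card, he, pow_orderOf_eq_one, Nat.cast_one, sub_self]
    obtain ⟨g, hg⟩ := exists_prime_orderOf_dvd_card' p hdvd
    let C := Multiplicative (ZMod p)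
    have hC : Nat.card C = p := (Nat.card_congr Multiplicative.toAdd).trans (Nat.card_zmod p)
    let e1 : C ≃* Subgroup.zpowers g :=
      mulEquivOfPrimeCardEq (p := p) hC (by rw [Nat.card_zpowers, hg])
    let r : IteratedWreathProduct C 1 →* C :=
      (RegularWreathProduct.rightHom : RegularWreathProduct (IteratedWreathProduct C 0) C →* C)
    have hr : Function.Injective r := fun (a b : RegularWreathProduct PUnit C) h =>
      RegularWreathProduct.ext (funext fun x => Subsingleton.elim (α := PUnit) _ _) h
    let A := Matrix.toLinAlgEquiv' (R := F) (n := Fin (e * p ^ 0))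
    let h0 : C →* Matrix.GeneralLinearGroup (Fin (e * p ^ 0)) F :=
      (Subgroup.zpowers g).subtype.comp e1.toMonoidHom
    have hh0 : Function.Injective h0 := (Subgroup.zpowers g).subtype_injective.comp e1.injective
    refine ⟨(A.toMulEquiv.toMonoidHom.comp ((Units.coeHom _).comp h0)).comp r, ?_⟩
    intro x y hxy
    exact hr (hh0 (Units.ext (A.injective hxy)))
  | j + 1 => by
    obtain ⟨ρ, hρ⟩ := exists_rep p hq j
    have hpos : 0 < orderOf (Nat.card F : ZMod p) * p ^ j := by
      refine Nat.mul_pos ?_ (pow_pos (Fact.out : p.Prime).pos j)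
      exact orderOf_pos_iff.2 (isOfFinOrder_iff_pow_eq_one.2
        ⟨p - 1, by have := (Fact.out : p.Prime).two_le; omega, ZMod.pow_card_sub_one_eq_one hq⟩)
    haveI : Nonempty (Fin (orderOf (Nat.card F : ZMod p) * p ^ j)) := ⟨⟨0, hpos⟩⟩
    let C := Multiplicative (ZMod p)
    have hC : Fintype.card C = p := (Fintype.card_congr Multiplicative.toAdd).trans (ZMod.card p)
    let T := wreathRep (Q := C) ρ
    let l : (C → Fin (orderOf (Nat.card F : ZMod p) * p ^ j) → F) ≃ₗ[F]
        (Fin (orderOf (Nat.card F : ZMod p) * p ^ (j + 1)) → F) :=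
      LinearEquiv.ofFinrankEq _ _ (by
        rw [Module.finrank_pi_fintype, Module.finrank_fin_fun, Module.finrank_fin_fun,
          Finset.sum_const, Finset.card_univ, hC, smul_eq_mul, pow_succ]
        ring)
    refine ⟨(LinearEquiv.conjAlgEquiv F l).toMulEquiv.toMonoidHom.comp T, ?_⟩
    exact fun x y hxy => wreathRep_injective ρ hρ ((LinearEquiv.conjAlgEquiv F l).injective hxy)

end Cfsg.Agent.Lib.Fg6.LinearSylow
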