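/-
Schur multipliers of metacyclic groups.
-/
import Cfsg.Agent.Lib.Multiplier.Basic
import Cfsg.Agent.Lib.Fg6.InvertedExt
import Mathlib.GroupTheory.SemidirectProduct
import Mathlib.GroupTheory.PresentedGroup
import Mathlib.GroupTheory.SpecificGroups.Cyclic
import Mathlib.Algebra.Ring.GeomSum
import Mathlib.RingTheory.Int.Basic
import Mathlib.Tactic.LinearCombination
import Mathlib.Tactic.Ring
import Mathlib.Data.ZMod.QuotientGroup

set_option autoImplicit false
set_option linter.style.haveILetI false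

namespace Cfsg.Agent.Lib.Fg6.Metacyclic

open scoped commutatorElement

/-- The relations. -/
def rels (m n r t : ℕ) : Set (FreeGroup Bool) :=
  {FreeGroup.of true ^ m, (FreeGroup.of false) ^ n * (FreeGroup.of true ^ t)⁻¹,
    FreeGroup.of false * FreeGroup.of true * (FreeGroup.of false)⁻¹ * (FreeGroup.of true ^ r)⁻¹}

/-- The carrying lattice. -/
def carry (m g : ℕ) (f : ℤ) : AddSubgroup (ℤ × ℤ) :=
  (AddMonoidHom.mk' (fun uv : ℤ × ℤ => (uv.1 * m, -(uv.1 * f) + uv.2 * g))
    (fun a b => by simp only [Prod.fst_add, Prod.snd_add, Prod.mk_add_mk]; ext <;> simp <;> ring)).range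

theorem mem_carry {m g : ℕ} {f : ℤ} {i j : ℤ} :
    (i, j) ∈ carry m g f ↔ ∃ u : ℤ, i = u * m ∧ (g : ℤ) ∣ j + u * f := by
  constructor
  · rintro ⟨⟨u, v⟩, huv⟩
    simp only [AddMonoidHom.mk'_apply, Prod.mk.injEq] at huv
    exact ⟨u, huv.1.symm, v, by rw [← huv.2]; ring⟩
  · rintro ⟨u, hi, v, hv⟩
    refine ⟨(u, v), ?_⟩
    simp only [AddMonoidHom.mk'_apply, Prod.mk.injEq]
    exact ⟨hi.symm, by linear_combination -hv⟩

/-- The abelian normal subgroup of the cover. -/
abbrev Core (m g : ℕ) (f : ℤ) : Type := (ℤ × ℤ) ⧸ carry m g f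

theorem finite_core {m g : ℕ} {f : ℤ} (hm : 0 < m) (hg : 0 < g) : Finite (Core m g f) := by
  refine Finite.of_surjective
    (fun ij : Fin m × Fin g => (((ij.1 : ℕ) : ℤ), ((ij.2 : ℕ) : ℤ)) |> QuotientAddGroup.mk) ?_
  intro x
  obtain ⟨⟨i, j⟩, rfl⟩ := QuotientAddGroup.mk_surjective x
  have hm' : (m : ℤ) ≠ 0 := by omega
  have hg' : (g : ℤ) ≠ 0 := by omega
  set j' := j + i / m * f with hj'
  refine ⟨(⟨(i % m).toNat, ?_⟩, ⟨(j' % g).toNat, ?_⟩), ?_⟩
  · have := Int.emod_lt_of_pos i (show (0 : ℤ) < m by omega)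
    have := Int.emod_nonneg i hm'
    omega
  · have := Int.emod_lt_of_pos j' (show (0 : ℤ) < g by omega)
    have := Int.emod_nonneg j' hg'
    omega
  · refine QuotientAddGroup.eq.2 (mem_carry.2 ⟨i / m, ?_, j' / g, ?_⟩)
    · simp only [Prod.fst_add, Prod.fst_neg]
      rw [Int.toNat_of_nonneg (Int.emod_nonneg i hm')]
      linear_combination (Int.emod_add_mul_ediv i (m : ℤ)).symm
    · simp only [Prod.snd_add, Prod.snd_neg]
      rw [Int.toNat_of_nonneg (Int.emod_nonneg j' hg')]
      linear_combination (Int.emod_add_mul_ediv j' (g : ℤ)).symm - hj'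

section Twist

variable (m g : ℕ) (f : ℤ) (r : ℕ) (e : ℤ)

/-- The twisting endomorphism `A ↦ A ^ r w ^ e`, `w ↦ w`. -/
noncomputable def twist (h : (g : ℤ) ∣ f * ((r : ℤ) - 1) + e * m) : Core m g f →+ Core m g f :=
  QuotientAddGroup.map _ _
    (AddMonoidHom.mk' (fun ij : ℤ × ℤ => ((r : ℤ) * ij.1, ij.2 + e * ij.1))
      (fun a b => by ext <;> simp <;> ring)) (by
    rintro ⟨i, j⟩ hij
    obtain ⟨u, hi, hj⟩ := mem_carry.1 hij
    refine mem_carry.2 ⟨r * u, by rw [hi]; ring, ?_⟩
    have h2 := dvd_add hj (h.mul_left u)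
    rw [hi]
    refine h2.trans (dvd_of_eq ?_)
    ring)

theorem twist_mk (h : (g : ℤ) ∣ f * ((r : ℤ) - 1) + e * m) (i j : ℤ) :
    twist m g f r e h (QuotientAddGroup.mk (i, j)) =
      QuotientAddGroup.mk ((r : ℤ) * i, j + e * i) := rfl

theorem twist_iterate (h : (g : ℤ) ∣ f * ((r : ℤ) - 1) + e * m) (k : ℕ) (i j : ℤ) :
    (twist m g f r e h)^[k] (QuotientAddGroup.mk (i, j)) =
      QuotientAddGroup.mk ((r : ℤ) ^ k * i, j + e * (∑ q ∈ Finset.range k, (r : ℤ) ^ q) * i) := by
  induction k with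
  | zero => simp
  | succ k ih =>
    rw [Function.iterate_succ_apply', ih, twist_mk, Finset.sum_range_succ]
    exact congrArg _ (Prod.ext (by simp [pow_succ]; ring) (by simp; ring))

end Twist

/-- Existence of a cover with kernel cyclic of order `g`. -/
theorem exists_cover (m n r g : ℕ) (md rd d S s l : ℤ) (hm : 0 < m) (hn : 0 < n) (hg : 0 < g)
    (hmd : (m : ℤ) = md * d) (hrd : (r : ℤ) - 1 = rd * d) (hcop : IsCoprime rd md)
    (hS : S = ∑ q ∈ Finset.range n, (r : ℤ) ^ q) (hs : S = md * s)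
    (hgd : (g : ℤ) ∣ d) (hgs : (g : ℤ) ∣ s) (hgl : (g : ℤ) ∣ l) (t : ℕ) (ht : (t : ℤ) = md * l) :
    ∃ (Δ : Type) (_ : Group Δ) (_ : Finite Δ) (σ : Δ →* PresentedGroup (rels m n r t)),
      Cfsg.IsStemExtension σ ∧ Nonempty (σ.ker ≃* Multiplicative (ZMod g)) ∧
        (∀ i : ℤ, (PresentedGroup.of (rels := rels m n r t) true) ^ i = 1 → (m : ℤ) ∣ i) := by
  obtain ⟨f, e, hfe⟩ := hcop
  have hφ : (g : ℤ) ∣ f * ((r : ℤ) - 1) + e * m := by
    rw [hrd, hmd]; exact hgd.trans ⟨f * rd + e * md, by ring⟩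
  have hgeom : (r : ℤ) ^ n - 1 = ((r : ℤ) - 1) * S := by
    rw [hS, mul_comm, geom_sum_mul]
  have hφn : ∀ x, (twist m g f r e hφ)^[n] x = x := by
    intro x
    obtain ⟨⟨i, j⟩, rfl⟩ := QuotientAddGroup.mk_surjective x
    rw [twist_iterate, ← hS]
    refine QuotientAddGroup.eq.2 (mem_carry.2 ⟨-(s * rd * i), ?_, ?_⟩)
    · simp only [Prod.fst_add, Prod.fst_neg]
      linear_combination (-i) * hgeom - S * i * hrd - rd * d * i * hs + s * rd * i * hmd
    · refine (hgs.mul_right (-i)).trans ⟨1, ?_⟩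
      simp only [Prod.snd_add, Prod.snd_neg]
      linear_combination (-i) * e * hs - i * s * hfe
  let φ : Core m g f ≃+ Core m g f :=
    { twist m g f r e hφ with
      invFun := (twist m g f r e hφ)^[n - 1]
      left_inv := fun x => by
        show (twist m g f r e hφ)^[n - 1] (twist m g f r e hφ x) = x
        rw [← Function.iterate_succ_apply, show (n - 1).succ = n by omega, hφn]
      right_inv := fun x => by
        show twist m g f r e hφ ((twist m g f r e hφ)^[n - 1] x) = x
        rw [← Function.iterate_succ_apply' (twist m g f r e hφ), show (n - 1).succ = n by omega,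
          hφn] }
  let ψ : MulAut (Multiplicative (Core m g f)) := AddEquiv.toMultiplicative φ
  have hψn : ∀ k : ℕ, ∀ x, (ψ ^ k) x = Multiplicative.ofAdd ((twist m g f r e hφ)^[k] x.toAdd) := by
    intro k
    induction k with
    | zero => intro x; rfl
    | succ k ih =>
      intro x
      rw [pow_succ', MulAut.mul_apply, ih, Function.iterate_succ_apply']
      rfl
  have hψ1 : ψ ^ n = 1 := MulEquiv.ext fun x => by rw [hψn, hφn]; rfl
  let act : Multiplicative ℤ →* MulAut (Multiplicative (Core m g f)) := zpowersHom _ ψ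
  let X := Multiplicative (Core m g f) ⋊[act] Multiplicative ℤ
  let N₀ : ℤ → ℤ → Multiplicative (Core m g f) := fun i j =>
    Multiplicative.ofAdd (QuotientAddGroup.mk (i, j))
  have hψT : ψ (N₀ (-t) 0) = N₀ (-t) 0 := by
    show Multiplicative.ofAdd (twist m g f r e hφ (QuotientAddGroup.mk (-(t : ℤ), 0))) = _
    rw [twist_mk]
    refine congrArg Multiplicative.ofAdd (QuotientAddGroup.eq.2 (mem_carry.2 ⟨l * rd, ?_, ?_⟩))
    · simp only [Prod.fst_add, Prod.fst_neg]
      linear_combination (t : ℤ) * hrd + rd * d * ht - l * rd * hmd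
    · refine hgl.trans ⟨1, ?_⟩
      simp only [Prod.snd_add, Prod.snd_neg]
      linear_combination e * ht + l * hfe
  have hfixpow : ∀ k : Multiplicative ℤ, act k (N₀ (-t) 0) = N₀ (-t) 0 := by
    intro k
    have h : ψ ∈ MulAction.stabilizer (MulAut (Multiplicative (Core m g f))) (N₀ (-t) 0) :=
      MulAction.mem_stabilizer_iff.2 hψT
    exact MulAction.mem_stabilizer_iff.1 (Subgroup.zpow_mem _ h k.toAdd)
  let c : X := ⟨N₀ (-t) 0, Multiplicative.ofAdd (n : ℤ)⟩
  have hactn : act (Multiplicative.ofAdd (n : ℤ)) = 1 := by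
    show ψ ^ (n : ℤ) = 1
    rw [zpow_natCast, hψ1]
  have hc : ∀ x : X, x * c = c * x := by
    intro x
    refine SemidirectProduct.ext ?_ ?_
    · rw [SemidirectProduct.mul_left, SemidirectProduct.mul_left]
      show x.left * act x.right (N₀ (-t) 0) = N₀ (-t) 0 * act (Multiplicative.ofAdd (n : ℤ)) x.left
      rw [hfixpow, hactn, MulAut.one_apply, mul_comm]
    · rw [SemidirectProduct.mul_right, SemidirectProduct.mul_right, mul_comm]
  let M := Subgroup.zpowers c
  have hMn : M.Normal := ⟨fun x hx y => by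
    obtain ⟨k, rfl⟩ := Subgroup.mem_zpowers_iff.1 hx
    rw [(Commute.zpow_right (show Commute y c from hc y) k).eq, mul_inv_cancel_right]; exact hx⟩
  let q : X →* X ⧸ M := QuotientGroup.mk' M
  have hqc : q c = 1 := (QuotientGroup.eq_one_iff c).2 (Subgroup.mem_zpowers c)
  have hMmem : ∀ x : Multiplicative (Core m g f), q (SemidirectProduct.inl x) = 1 → x = 1 := by
    intro x hx
    obtain ⟨k, hk⟩ := Subgroup.mem_zpowers_iff.1 ((QuotientGroup.eq_one_iff _).1 hx)
    have h1 := congrArg (SemidirectProduct.rightHom : X →* Multiplicative ℤ) hk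
    rw [map_zpow, SemidirectProduct.rightHom_inl] at h1
    have h2 : k * (n : ℤ) = 0 := by
      have := congrArg Multiplicative.toAdd h1
      simpa [c] using this
    obtain rfl : k = 0 := by
      rcases mul_eq_zero.1 h2 with h | h
      · exact h
      · omega
    rw [zpow_zero] at hk
    exact SemidirectProduct.inl_injective (hk.symm.trans (map_one _).symm)
  let A : X ⧸ M := q (SemidirectProduct.inl (N₀ 1 0))
  let B : X ⧸ M := q (SemidirectProduct.inr (Multiplicative.ofAdd 1))
  let W : X ⧸ M := q (SemidirectProduct.inl (N₀ 0 1))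
  let i₁ : Multiplicative (Core m g f) →* X ⧸ M := q.comp SemidirectProduct.inl
  have hN : ∀ i j : ℤ, i₁ (N₀ i j) = A ^ i * W ^ j := by
    intro i j
    show i₁ (N₀ i j) = i₁ (N₀ 1 0) ^ i * i₁ (N₀ 0 1) ^ j
    rw [← map_zpow i₁, ← map_zpow i₁, ← map_mul i₁]
    congr 1
    show N₀ i j = Multiplicative.ofAdd (i • QuotientAddGroup.mk ((1 : ℤ), (0 : ℤ)) +
      j • QuotientAddGroup.mk ((0 : ℤ), (1 : ℤ)))
    rw [← QuotientAddGroup.mk_zsmul, ← QuotientAddGroup.mk_zsmul, ← QuotientAddGroup.mk_add]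
    simp [N₀]
  have hBA : B * A * B⁻¹ = A ^ (r : ℤ) * W ^ e := by
    rw [← hN]
    show q _ * q _ * (q _)⁻¹ = q _
    rw [← map_inv, ← map_mul, ← map_mul]
    congr 1
    rw [← map_inv, ← SemidirectProduct.inl_aut]
    congr 1
    show (zpowersHom _ ψ (Multiplicative.ofAdd 1)) (N₀ 1 0) = _
    rw [zpowersHom_apply, toAdd_ofAdd, zpow_one]
    show Multiplicative.ofAdd (twist m g f r e hφ (QuotientAddGroup.mk ((1 : ℤ), (0 : ℤ)))) = _
    rw [twist_mk]; simp [N₀]
  have hBn : B ^ n = A ^ (t : ℤ) := by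
    have hBn' : B ^ n = q (SemidirectProduct.inr (Multiplicative.ofAdd (n : ℤ))) := by
      rw [show B = q (SemidirectProduct.inr (Multiplicative.ofAdd 1)) from rfl, ← map_pow, ← map_pow,
        ← ofAdd_nsmul, nsmul_eq_mul, mul_one]
    have h1 : q (SemidirectProduct.inl (N₀ (-t) 0)) *
        q (SemidirectProduct.inr (Multiplicative.ofAdd (n : ℤ))) = 1 := by
      rw [← map_mul, ← SemidirectProduct.mk_eq_inl_mul_inr]; exact hqc
    rw [← hBn', show q (SemidirectProduct.inl (N₀ (-t) 0)) = A ^ (-(t : ℤ)) * W ^ (0 : ℤ) from hN _ _,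
      zpow_zero, mul_one] at h1
    rw [zpow_neg] at h1
    exact (inv_mul_eq_one.1 h1).symm
  have hAm : A ^ (m : ℤ) = W ^ f := by
    have h1 : N₀ (m : ℤ) (-f) = 1 := by
      show Multiplicative.ofAdd _ = 1
      rw [ofAdd_eq_one, QuotientAddGroup.eq_zero_iff]
      exact mem_carry.2 ⟨1, by simp, by simp⟩
    have := congrArg i₁ h1
    rw [hN, map_one, zpow_neg, mul_inv_eq_one] at this
    exact this
  have hWc : W ∈ Subgroup.center (X ⧸ M) := by
    rw [Subgroup.mem_center_iff]
    intro y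
    obtain ⟨x, rfl⟩ := QuotientGroup.mk'_surjective M y
    show q x * q _ = q _ * q x
    rw [← map_mul, ← map_mul]
    congr 1
    refine SemidirectProduct.ext ?_ ?_
    · rw [SemidirectProduct.mul_left, SemidirectProduct.mul_left]
      simp only [SemidirectProduct.left_inl, SemidirectProduct.right_inl, map_one, MulAut.one_apply]
      have h : ψ ∈ MulAction.stabilizer (MulAut (Multiplicative (Core m g f))) (N₀ 0 1) := by
        refine MulAction.mem_stabilizer_iff.2 ?_
        show Multiplicative.ofAdd (twist m g f r e hφ (QuotientAddGroup.mk ((0 : ℤ), (1 : ℤ)))) = _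
        rw [twist_mk]; simp [N₀]
      rw [show act x.right (N₀ 0 1) = N₀ 0 1 from
        MulAction.mem_stabilizer_iff.1 (Subgroup.zpow_mem _ h x.right.toAdd), mul_comm]
    · exact mul_comm _ _
  have hKn : (Subgroup.zpowers W).Normal := ⟨fun x hx y => by
    rw [Subgroup.mem_center_iff.1 (Subgroup.zpowers_le.2 hWc hx) y, mul_inv_cancel_right]; exact hx⟩
  let p : X ⧸ M →* (X ⧸ M) ⧸ Subgroup.zpowers W := QuotientGroup.mk' _
  have hpW : p W = 1 := (QuotientGroup.eq_one_iff W).2 (Subgroup.mem_zpowers W)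
  -- from the presented group
  let back : PresentedGroup (rels m n r t) →* (X ⧸ M) ⧸ Subgroup.zpowers W :=
    PresentedGroup.toGroup (f := fun b => if b then p A else p B) (by
      rintro x (rfl | rfl | rfl)
      · rw [map_pow, FreeGroup.lift_apply_of, if_pos rfl, ← map_pow, ← zpow_natCast, hAm, map_zpow,
          hpW, one_zpow]
      · simp only [map_mul, map_inv, map_pow, FreeGroup.lift_apply_of]
        simp only [Bool.false_eq_true, if_true, if_false]
        rw [← map_pow p B n, hBn, map_zpow, zpow_natCast,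
          mul_inv_cancel]
      · simp only [map_mul, map_inv, map_pow, FreeGroup.lift_apply_of]
        simp only [Bool.false_eq_true, if_true, if_false]
        rw [← map_inv, ← map_mul, ← map_mul, hBA, map_mul,
          map_zpow, map_zpow, hpW, one_zpow, mul_one, zpow_natCast, mul_inv_cancel])
  set a : PresentedGroup (rels m n r t) := PresentedGroup.of true with ha
  set b : PresentedGroup (rels m n r t) := PresentedGroup.of false with hb
  have ha1 : a ^ m = 1 := by
    have := PresentedGroup.one_of_mem (rels := rels m n r t) (x := FreeGroup.of true ^ m) (Or.inl rfl)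
    rwa [map_pow] at this
  have hb1 : b ^ n = a ^ t := by
    have := PresentedGroup.one_of_mem (rels := rels m n r t)
      (x := (FreeGroup.of false) ^ n * (FreeGroup.of true ^ t)⁻¹) (Or.inr (Or.inl rfl))
    rwa [map_mul, map_inv, map_pow, map_pow, mul_inv_eq_one] at this
  have hba : b * a * b⁻¹ = a ^ r := by
    have := PresentedGroup.one_of_mem (rels := rels m n r t)
      (x := FreeGroup.of false * FreeGroup.of true * (FreeGroup.of false)⁻¹ *
        (FreeGroup.of true ^ r)⁻¹) (Or.inr (Or.inr rfl))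
    rwa [map_mul, map_inv, map_pow, mul_inv_eq_one, map_mul, map_mul, map_inv] at this
  let toG₀ : ℤ × ℤ →+ Additive (PresentedGroup (rels m n r t)) :=
    AddMonoidHom.mk' (fun ij => Additive.ofMul (a ^ ij.1)) (fun u v => by
      rw [Prod.fst_add, zpow_add]; rfl)
  let toG : Multiplicative (Core m g f) →* PresentedGroup (rels m n r t) :=
    AddMonoidHom.toMultiplicativeLeft (QuotientAddGroup.lift (carry m g f) toG₀ (by
      rintro ⟨i, j⟩ hij
      obtain ⟨u, hi, -⟩ := mem_carry.1 hij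
      show Additive.ofMul (a ^ i) = 0
      rw [hi, mul_comm, zpow_mul, zpow_natCast, ha1, one_zpow]; rfl))
  have htoG : ∀ i j : ℤ, toG (N₀ i j) = a ^ i := fun i j => rfl
  let G' : X →* PresentedGroup (rels m n r t) :=
    SemidirectProduct.lift toG (zpowersHom _ b) (by
      have hst : ∀ k : Multiplicative ℤ, ∀ x,
          toG (act k x) = (zpowersHom _ b k) * toG x * (zpowersHom _ b k)⁻¹ := by
        have base : ∀ x, toG (ψ x) = b * toG x * b⁻¹ := by
          intro x
          obtain ⟨⟨i, j⟩, hij⟩ := QuotientAddGroup.mk_surjective x.toAdd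
          obtain rfl : x = N₀ i j := by rw [show N₀ i j = Multiplicative.ofAdd x.toAdd by rw [← hij]]; rfl
          have h2 : ψ (N₀ i j) = N₀ (r * i) (j + e * i) := rfl
          rw [h2, htoG, htoG, zpow_mul, zpow_natCast, ← hba, conj_zpow]
        intro k x
        show toG ((ψ ^ k.toAdd) x) = b ^ k.toAdd * toG x * (b ^ k.toAdd)⁻¹
        induction k.toAdd using Int.induction_on generalizing x with
        | zero => simp
        | succ k ih =>
          rw [zpow_add_one, MulAut.mul_apply, ih, base, zpow_add_one]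
          group
        | pred k ih =>
          have h1 := base ((ψ⁻¹ : MulAut _) x)
          rw [MulAut.apply_inv_self] at h1
          rw [zpow_sub_one, MulAut.mul_apply, ih, zpow_sub_one, h1]
          group
      intro k
      refine MonoidHom.ext fun x => ?_
      simp only [MonoidHom.comp_apply, MulEquiv.coe_toMonoidHom, MulAut.conj_apply]
      exact hst k x)
  let σ : X ⧸ M →* PresentedGroup (rels m n r t) := QuotientGroup.lift M G' (by
    rw [Subgroup.zpowers_le, MonoidHom.mem_ker]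
    show toG (N₀ (-t) 0) * b ^ (n : ℤ) = 1
    rw [htoG, zpow_natCast, hb1, zpow_neg, zpow_natCast, inv_mul_cancel])
  have hσA : σ A = a := by
    show G' (SemidirectProduct.inl (N₀ 1 0)) = a
    rw [SemidirectProduct.lift_inl, htoG, zpow_one]
  have hσB : σ B = b := by
    show G' (SemidirectProduct.inr (Multiplicative.ofAdd 1)) = b
    rw [SemidirectProduct.lift_inr]; simp
  have hσW : σ W = 1 := by
    show G' (SemidirectProduct.inl (N₀ 0 1)) = 1
    rw [SemidirectProduct.lift_inl, htoG, zpow_zero]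
  have hgen : ∀ x : X ⧸ M, ∃ i j k : ℤ, x = A ^ i * W ^ j * B ^ k := by
    intro x
    obtain ⟨⟨u, v⟩, rfl⟩ := QuotientGroup.mk'_surjective M x
    obtain ⟨⟨i, j⟩, hij⟩ := QuotientAddGroup.mk_surjective u.toAdd
    refine ⟨i, j, v.toAdd, ?_⟩
    rw [← hN]
    show q _ = q _ * (q _) ^ v.toAdd
    rw [← map_zpow, ← map_zpow, ← map_mul, SemidirectProduct.mk_eq_inl_mul_inr]
    congr 2
    · congr 1
      exact (congrArg Multiplicative.ofAdd hij).symm
    · rw [← ofAdd_zsmul, zsmul_eq_mul, mul_one]; rfl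
  have hbackσ : back.comp σ = p := by
    refine MonoidHom.ext fun x => ?_
    obtain ⟨i, j, k, rfl⟩ := hgen x
    simp only [MonoidHom.comp_apply, map_mul, map_zpow, hσA, hσB, hσW, hpW, one_zpow, mul_one, ha,
      hb, back, PresentedGroup.toGroup.of]
    simp
  have hker : σ.ker = Subgroup.zpowers W := by
    refine le_antisymm (fun x hx => ?_) (Subgroup.zpowers_le.2 (MonoidHom.mem_ker.2 hσW))
    have h1 : p x = 1 := by rw [← hbackσ, MonoidHom.comp_apply, MonoidHom.mem_ker.1 hx, map_one]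
    exact (QuotientGroup.eq_one_iff x).1 h1
  have hAWmem : ∀ i j : ℤ, A ^ i * W ^ j = 1 → ∃ u : ℤ, i = u * m ∧ (g : ℤ) ∣ j + u * f := by
    intro i j h
    rw [← hN] at h
    have h1 := hMmem _ h
    have h2 : (QuotientAddGroup.mk (i, j) : Core m g f) = 0 := congrArg Multiplicative.toAdd h1
    exact mem_carry.1 ((QuotientAddGroup.eq_zero_iff _).1 h2)
  have hWo : orderOf W = g := by
    refine Nat.dvd_antisymm (orderOf_dvd_of_pow_eq_one ?_) ?_
    · have h1 : N₀ 0 (g : ℤ) = 1 := by
        show Multiplicative.ofAdd _ = 1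
        rw [ofAdd_eq_one, QuotientAddGroup.eq_zero_iff]
        exact mem_carry.2 ⟨0, by simp, by simp⟩
      have := congrArg i₁ h1
      rwa [hN, map_one, zpow_zero, one_mul, zpow_natCast] at this
    · obtain ⟨u, hu, hdvd⟩ := hAWmem 0 (orderOf W) (by
        rw [zpow_zero, one_mul, zpow_natCast, pow_orderOf_eq_one])
      obtain rfl : u = 0 := by
        rcases mul_eq_zero.1 hu.symm with h | h
        · exact h
        · omega
      rw [zero_mul, add_zero, Int.natCast_dvd_natCast] at hdvd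
      exact hdvd
  have hfin : Finite (X ⧸ M) := by
    have := finite_core (f := f) hm hg
    refine Finite.of_surjective (fun xk : Multiplicative (Core m g f) × Fin n =>
      i₁ xk.1 * B ^ (xk.2 : ℕ)) fun x => ?_
    obtain ⟨i, j, k, rfl⟩ := hgen x
    have hkn : B ^ k = A ^ ((t : ℤ) * (k / n)) * B ^ ((k % n).toNat) := by
      conv_lhs => rw [← Int.emod_add_mul_ediv k (n : ℤ), add_comm]
      rw [zpow_add, zpow_mul, zpow_natCast, hBn, ← zpow_mul, ← zpow_natCast,
        Int.toNat_of_nonneg (Int.emod_nonneg k (by omega))]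
    refine ⟨(N₀ (i + (t : ℤ) * (k / n)) j, ⟨(k % n).toNat, by
      have := Int.emod_lt_of_pos k (show (0 : ℤ) < n by omega)
      have := Int.emod_nonneg k (show (n : ℤ) ≠ 0 by omega)
      omega⟩), ?_⟩
    show i₁ _ * B ^ ((k % n).toNat) = _
    rw [hN, hkn, zpow_add]
    have hcW := Subgroup.mem_center_iff.1 (Subgroup.zpow_mem _ hWc j) (A ^ ((t : ℤ) * (k / n)))
    rw [mul_assoc (A ^ i), hcW]
    group
  have hsurj : Function.Surjective σ := by
    rw [← MonoidHom.range_eq_top, ← top_le_iff, ← PresentedGroup.closure_range_of (rels m n r t),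
      Subgroup.closure_le]
    rintro _ ⟨x, rfl⟩
    cases x
    · exact ⟨B, hσB⟩
    · exact ⟨A, hσA⟩
  have hC : ⁅B, A⁆ ^ md = W := by
    have e1 : ⁅B, A⁆ = i₁ (N₀ ((r : ℤ) - 1) e) := by
      rw [commutatorElement_def, hBA, hN, zpow_sub_one]
      rw [mul_assoc (A ^ (r : ℤ)) (A⁻¹) (W ^ e), mul_assoc, Subgroup.mem_center_iff.1
        (Subgroup.zpow_mem _ hWc e) A⁻¹]
    rw [e1, ← map_zpow]
    show i₁ _ = i₁ (N₀ 0 1)
    congr 1
    show Multiplicative.ofAdd (md • QuotientAddGroup.mk (((r : ℤ) - 1), e)) = _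
    rw [← QuotientAddGroup.mk_zsmul]
    refine congrArg Multiplicative.ofAdd (QuotientAddGroup.eq.2 (mem_carry.2 ⟨-rd, ?_, ⟨0, ?_⟩⟩))
    · simp only [Prod.smul_fst, smul_eq_mul, Prod.fst_add, Prod.fst_neg]
      linear_combination (-md) * hrd + rd * hmd
    · simp only [Prod.smul_snd, smul_eq_mul, Prod.snd_add, Prod.snd_neg]
      linear_combination -hfe
  refine ⟨X ⧸ M, inferInstance, hfin, σ, ⟨hsurj, ?_, ?_⟩, ?_, ?_⟩
  · rw [hker, Subgroup.zpowers_le]; exact hWc
  · rw [hker, Subgroup.zpowers_le, ← hC]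
    refine Subgroup.zpow_mem _ ?_ _
    rw [_root_.commutator_def]
    exact Subgroup.commutator_mem_commutator (Subgroup.mem_top _) (Subgroup.mem_top _)
  · have hc' : IsCyclic σ.ker := by rw [hker]; infer_instance
    exact ⟨mulEquivOfCyclicCardEq (by
      rw [hker, Nat.card_zpowers, hWo, Nat.card_congr Multiplicative.toAdd, Nat.card_zmod])⟩
  · intro i hi
    have h1 : A ^ i ∈ σ.ker := by rw [MonoidHom.mem_ker, map_zpow, hσA]; exact hi
    rw [hker, Subgroup.mem_zpowers_iff] at h1
    obtain ⟨j, hj⟩ := h1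
    obtain ⟨u, hu, -⟩ := hAWmem i (-j) (by rw [zpow_neg, hj, mul_inv_cancel])
    exact ⟨u, by rw [hu]; ring⟩

/-- The kernel of every stem extension is small. -/
theorem card_ker_dvd (m n r t g : ℕ) (md : ℤ) (hn : 0 < n) (hm : 0 < m)
    (hord : ∀ i : ℤ, (PresentedGroup.of (rels := rels m n r t) true) ^ i = 1 → (m : ℤ) ∣ i)
    (hmdvd : ∀ j : ℤ, (m : ℤ) ∣ j * ((r : ℤ) - 1) → md ∣ j)
    (hg : ∀ N : ℤ, (∀ x : ℤ, (x = m ∨ x = (∑ q ∈ Finset.range n, (r : ℤ) ^ q) ∨ x = t) → N ∣ x) →
      N.natAbs ∣ md.natAbs * g)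
    {Δ : Type} [Group Δ] [Finite Δ] (τ : Δ →* PresentedGroup (rels m n r t))
    (hτ : Cfsg.IsStemExtension τ) : Nat.card τ.ker ∣ g := by
  obtain ⟨hs, hc, hd⟩ := hτ
  obtain ⟨A, hA⟩ := hs (PresentedGroup.of true)
  obtain ⟨B, hB⟩ := hs (PresentedGroup.of false)
  have hcen : ∀ z : Δ, τ z = 1 → ∀ x, x * z = z * x := fun z hz =>
    Subgroup.mem_center_iff.1 (hc hz)
  have hrel : ∀ w : FreeGroup Bool, w ∈ rels m n r t →
      τ (FreeGroup.lift (fun b => if b then A else B) w) = 1 := by
    intro w hw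
    have e : τ.comp (FreeGroup.lift (fun b => if b then A else B)) = PresentedGroup.mk _ := by
      refine FreeGroup.ext_hom _ _ fun b => ?_
      cases b
      · simpa [PresentedGroup.of] using hB
      · simpa [PresentedGroup.of] using hA
    rw [← MonoidHom.comp_apply, e]
    exact PresentedGroup.one_of_mem hw
  have hzm : τ (A ^ m) = 1 := by simpa using hrel _ (Or.inl rfl)
  have hzn : τ (B ^ n * (A ^ t)⁻¹) = 1 := by simpa using hrel _ (Or.inr (Or.inl rfl))
  have hz : τ (B * A * B⁻¹ * (A ^ r)⁻¹) = 1 := by simpa using hrel _ (Or.inr (Or.inr rfl))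
  set z := B * A * B⁻¹ * (A ^ r)⁻¹ with hzdef
  have hBA : B * A * B⁻¹ = z * A ^ (r : ℤ) := by rw [zpow_natCast, hzdef, inv_mul_cancel_right]
  set C := ⁅B, A⁆ with hC
  have hCz : C = z * A ^ ((r : ℤ) - 1) := by
    rw [hC, commutatorElement_def, hBA, zpow_sub_one, mul_assoc]
  have hzc : ∀ x, Commute z x := fun x => (hcen z hz x).symm
  have hAC : Commute A C := by
    rw [hCz]; exact (hzc A).symm.mul_right ((Commute.refl A).zpow_right _)
  -- conjugation by `B`
  have hconj : ∀ i : ℤ, B * A ^ i * B⁻¹ = C ^ i * A ^ i := by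
    intro i
    rw [← conj_zpow, show B * A * B⁻¹ = C * A by rw [hC, commutatorElement_def, inv_mul_cancel_right],
      (hAC.symm).mul_zpow]
  have hBC : B * C * B⁻¹ = C ^ (r : ℤ) := by
    calc B * C * B⁻¹ = z * (B * A ^ ((r : ℤ) - 1) * B⁻¹) := by
          rw [hCz, ← mul_assoc B, (hzc B).symm.eq]; group
      _ = z * (C ^ ((r : ℤ) - 1) * A ^ ((r : ℤ) - 1)) := by rw [hconj]
      _ = C ^ ((r : ℤ) - 1) * C := by rw [← mul_assoc, (hzc _).eq, mul_assoc, ← hCz]
      _ = C ^ (r : ℤ) := by rw [← zpow_add_one, sub_add_cancel]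
  have hCm : C ^ (m : ℤ) = 1 := by
    have h1 := hconj m
    rw [zpow_natCast A m, hcen _ hzm B, mul_inv_cancel_right, right_eq_mul] at h1
    exact h1
  have hCt : C ^ (t : ℤ) = 1 := by
    have h1 := hconj t
    have h2 : Commute B (A ^ t) := by
      have : A ^ t = (B ^ n * (A ^ t)⁻¹)⁻¹ * B ^ n := by group
      rw [this]
      exact ((show Commute B (B ^ n * (A ^ t)⁻¹) from hcen _ hzn B).inv_right).mul_right
        ((Commute.refl B).pow_right n)
    rw [zpow_natCast A t, h2.eq, mul_inv_cancel_right, right_eq_mul] at h1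
    exact h1
  have hiter : ∀ k : ℕ, B ^ k * A * (B ^ k)⁻¹ = C ^ (∑ q ∈ Finset.range k, (r : ℤ) ^ q) * A := by
    intro k
    induction k with
    | zero => simp
    | succ k ih =>
      have e1 : B ^ (k + 1) * A * (B ^ (k + 1))⁻¹ = B * (B ^ k * A * (B ^ k)⁻¹) * B⁻¹ := by
        rw [pow_succ']; group
      have e2 : B * (C ^ (∑ q ∈ Finset.range k, (r : ℤ) ^ q) * A) * B⁻¹ =
          (B * C * B⁻¹) ^ (∑ q ∈ Finset.range k, (r : ℤ) ^ q) * (B * A * B⁻¹) := by
        rw [conj_zpow]; group
      rw [e1, ih, e2, hBC, show B * A * B⁻¹ = C * A by rw [hC, commutatorElement_def, inv_mul_cancel_right],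
        ← zpow_mul, ← mul_assoc, ← zpow_add_one]
      congr 2
      rw [Finset.sum_range_succ' (fun q => (r : ℤ) ^ q) k, Finset.mul_sum]
      simp [pow_succ, mul_comm]
  have hCS : C ^ (∑ q ∈ Finset.range n, (r : ℤ) ^ q) = 1 := by
    have h1 := hiter n
    have h2 : Commute A (B ^ n) := by
      have : B ^ n = (B ^ n * (A ^ t)⁻¹) * A ^ t := by group
      rw [this]
      exact (show Commute A (B ^ n * (A ^ t)⁻¹) from hcen _ hzn A).mul_right
        ((Commute.refl A).pow_right t)
    rw [h2.eq.symm, mul_inv_cancel_right, right_eq_mul] at h1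
    exact h1
  have hdvd : (orderOf C : ℕ) ∣ md.natAbs * g := by
    have := hg (orderOf C) (by
      rintro x (rfl | rfl | rfl) <;> rw [orderOf_dvd_iff_zpow_eq_one] <;> assumption)
    simpa using this
  -- the commutator subgroup
  have hCn : (Subgroup.zpowers C).Normal := by
    rw [← Subgroup.normalizer_eq_top_iff, ← top_le_iff]
    have hgen : Subgroup.closure {A, B} ⊔ Subgroup.center Δ = ⊤ := by
      rw [← top_le_iff]
      intro x _
      have h1 : (Subgroup.closure {A, B}).map τ = ⊤ := by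
        rw [← top_le_iff, ← PresentedGroup.closure_range_of (rels m n r t), Subgroup.closure_le]
        rintro _ ⟨b, rfl⟩
        cases b
        · exact ⟨B, Subgroup.subset_closure (by simp), hB⟩
        · exact ⟨A, Subgroup.subset_closure (by simp), hA⟩
      obtain ⟨y, hy, hyx⟩ : τ x ∈ (Subgroup.closure {A, B}).map τ := h1 ▸ Subgroup.mem_top _
      have h2 : y⁻¹ * x ∈ Subgroup.center Δ := hc (by
        rw [MonoidHom.mem_ker, map_mul, map_inv, hyx, inv_mul_cancel])
      simpa using Subgroup.mul_mem_sup hy h2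
    rw [← hgen, sup_le_iff]
    refine ⟨?_, Subgroup.center_le_normalizer _⟩
    rw [Subgroup.closure_le]
    have hfix : ∀ x : Δ, x * C * x⁻¹ ∈ Subgroup.zpowers C →
        x ∈ Subgroup.normalizer (Subgroup.zpowers C : Set Δ) := by
      intro x hx
      refine Subgroup.mem_normalizer_iff.2 ?_
      have hle : (Subgroup.zpowers C).map (MulAut.conj x).toMonoidHom ≤ Subgroup.zpowers C := by
        rw [MonoidHom.map_zpowers, Subgroup.zpowers_le]; exact hx
      have heq := Subgroup.eq_of_le_of_card_ge hle (Subgroup.card_map_of_injective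
        (MulAut.conj x).injective).ge
      intro y
      refine ⟨fun hy => hle ⟨y, hy, rfl⟩, fun hy => ?_⟩
      obtain ⟨w, hw, hwy⟩ := heq.ge hy
      exact (MulAut.conj x).injective hwy ▸ hw
    rintro x (rfl | rfl)
    · refine hfix _ ?_
      rw [hAC.eq, mul_inv_cancel_right]; exact Subgroup.mem_zpowers C
    · refine hfix _ ?_
      rw [hBC]; exact Subgroup.zpow_mem _ (Subgroup.mem_zpowers C) _
  have hD : commutator Δ ≤ Subgroup.zpowers C := by
    refine InvertedExt.commutator_le_of_generators _ {A, B} ?_ ?_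
    · rw [← top_le_iff]
      intro x _
      have h1 : (Subgroup.closure {A, B}).map τ = ⊤ := by
        rw [← top_le_iff, ← PresentedGroup.closure_range_of (rels m n r t), Subgroup.closure_le]
        rintro _ ⟨b, rfl⟩
        cases b
        · exact ⟨B, Subgroup.subset_closure (by simp), hB⟩
        · exact ⟨A, Subgroup.subset_closure (by simp), hA⟩
      obtain ⟨y, hy, hyx⟩ : τ x ∈ (Subgroup.closure {A, B}).map τ := h1 ▸ Subgroup.mem_top _
      have h2 : y⁻¹ * x ∈ Subgroup.center Δ := hc (by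
        rw [MonoidHom.mem_ker, map_mul, map_inv, hyx, inv_mul_cancel])
      simpa using Subgroup.mul_mem_sup hy h2
    · rintro x (rfl | rfl) y (rfl | rfl)
      · simp [commutatorElement_self]
      · rw [← commutatorElement_inv]; exact inv_mem (Subgroup.mem_zpowers C)
      · exact Subgroup.mem_zpowers C
      · simp [commutatorElement_self]
  have hker : τ.ker ≤ Subgroup.zpowers (C ^ md) := by
    intro x hx
    obtain ⟨j, rfl⟩ := Subgroup.mem_zpowers_iff.1 (hD (hd hx))
    rw [MonoidHom.mem_ker, map_zpow, hCz, map_mul, hz, one_mul, map_zpow, hA, ← zpow_mul] at hx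
    obtain ⟨u, rfl⟩ := hmdvd j (by rw [mul_comm]; exact hord _ hx)
    exact Subgroup.mem_zpowers_iff.2 ⟨u, by rw [← zpow_mul]⟩
  refine (Subgroup.card_dvd_of_le hker).trans ?_
  rw [Nat.card_zpowers]
  refine orderOf_dvd_of_pow_eq_one ?_
  rw [← zpow_natCast, ← zpow_mul, ← orderOf_dvd_iff_zpow_eq_one]
  refine Int.natCast_dvd.2 ?_
  rw [Int.natAbs_mul, Int.natAbs_natCast]
  exact hdvd

end Cfsg.Agent.Lib.Fg6.Metacyclic
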