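import Mathlib
import Cfsg.Agent.Lib.SmallGroups.Sylow

/-!
Simple groups of order `1092`: every proper nontrivial subgroup has a maximal normalizer.
-/

set_option autoImplicit false
set_option linter.style.haveILetI false
set_option linter.unusedSectionVars false

namespace Cfsg.Agent.Lib.Fg6.Order1092

open Subgroup
open scoped commutatorElement
open Cfsg.Agent.Lib.SmallGroups

variable {G : Type*} [Group G] [Finite G] [IsSimpleGroup G]

theorem not_comm (h : Nat.card G = 1092) : ¬ IsMulCommutative G :=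
  Sylow.not_comm_of_card (by rw [h]; norm_num)

theorem card_sylow13 (h : Nat.card G = 1092) : Nat.card (Sylow 13 G) = 14 := by
  haveI : Fact (Nat.Prime 13) := ⟨by norm_num⟩
  have hm := Sylow.card_sylow_mem (p := 13) (G := G) (a := 1) (m := 84) (by rw [h]; norm_num) (by norm_num)
  have h1 := Sylow.card_sylow_ne_one (p := 13) (G := G) (a := 1) (m := 84) (by rw [h]; norm_num)
    (by norm_num) (by norm_num) (by norm_num)
  rw [show (Nat.divisors 84).filter (fun d => d % 13 = 1) = {1, 14} by decide] at hm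
  simpa [h1] using hm

theorem card_sylow7 (h : Nat.card G = 1092) : Nat.card (Sylow 7 G) = 78 := by
  haveI : Fact (Nat.Prime 7) := ⟨by norm_num⟩
  have hm := Sylow.card_sylow_mem (p := 7) (G := G) (a := 1) (m := 156) (by rw [h]; norm_num) (by norm_num)
  have h1 := Sylow.card_sylow_ne_one (p := 7) (G := G) (a := 1) (m := 156) (by rw [h]; norm_num)
    (by norm_num) (by norm_num) (by norm_num)
  rw [show (Nat.divisors 156).filter (fun d => d % 7 = 1) = {1, 78} by decide +kernel] at hm
  simpa [h1] using hm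

theorem card_normalizer13 (h : Nat.card G = 1092) [Fact (Nat.Prime 13)] (P : Sylow 13 G) :
    Nat.card (normalizer ((P : Subgroup G) : Set G)) = 78 := by
  have := Sylow.card_normalizer_mul P
  rw [card_sylow13 h, h] at this
  omega

theorem card_normalizer7 (h : Nat.card G = 1092) [Fact (Nat.Prime 7)] (P : Sylow 7 G) :
    Nat.card (normalizer ((P : Subgroup G) : Set G)) = 14 := by
  have := Sylow.card_normalizer_mul P
  rw [card_sylow7 h, h] at this
  omega

/-- A subgroup whose order has the shape `q m`, with no divisor of `m` congruent to `1`,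
normalises a Sylow `q`-subgroup. -/
theorem exists_le_normalizer {q m : ℕ} [Fact q.Prime] (M : Subgroup G) (hM : Nat.card M = q * m)
    (hqm : ¬ q ∣ m) (hG : ∃ k, Nat.card G = q * k ∧ ¬ q ∣ k)
    (hm : ∀ n, n ∣ m → n % q = 1 → n = 1) :
    ∃ P : Sylow q G, (P : Subgroup G) ≤ M ∧ M ≤ normalizer ((P : Subgroup G) : Set G) := by
  obtain ⟨k, hk, hqk⟩ := hG
  obtain ⟨R⟩ : Nonempty (Sylow q M) := inferInstance
  have hR : Nat.card (R : Subgroup M) = q := by
    have := Sylow.card_sylow_eq R (a := 1) (m := m) (by rw [pow_one]; exact hM) hqm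
    rwa [pow_one] at this
  obtain ⟨P, hP⟩ := (R.2.map M.subtype).exists_le_sylow
  have hPc : Nat.card (P : Subgroup G) = q := by
    have := Sylow.card_sylow_eq P (a := 1) (m := k) (by rw [pow_one]; exact hk) hqk
    rwa [pow_one] at this
  have he : (R : Subgroup M).map M.subtype = P := eq_of_le_of_card_ge hP (by
    rw [hPc, card_map_of_injective M.subtype_injective, hR])
  have hn : Nat.card (Sylow q M) = 1 :=
    hm _ (Sylow.card_sylow_dvd (a := 1) (by rw [pow_one]; exact hM) hqm) Sylow.card_sylow_mod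
  haveI : Subsingleton (Sylow q M) := (Nat.card_eq_one_iff_unique.mp hn).1
  have hRn : (R : Subgroup M).Normal := R.normal_of_subsingleton
  refine ⟨P, he ▸ map_subtype_le _, fun x hx => ?_⟩
  rw [mem_normalizer_iff_map_conj_eq, ← he]
  refine eq_of_le_of_card_ge ?_ (card_map_of_injective (MulAut.conj x).injective).ge
  rintro _ ⟨_, ⟨r, hr, rfl⟩, rfl⟩
  exact ⟨⟨x, hx⟩ * r * ⟨x, hx⟩⁻¹, hRn.conj_mem r hr _, by simp⟩

/-- The proper subgroups. -/
theorem cases_of_ne_top (h : Nat.card G = 1092) (M : Subgroup G) (hM : M ≠ ⊤) :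
    Nat.card M ∣ 12 ∨ Nat.card M = 7 ∨ Nat.card M = 14 ∨
      (13 ∣ Nat.card M ∧ Nat.card M ∣ 78 ∧ ∃ P : Sylow 13 G, (P : Subgroup G) ≤ M ∧
        M ≤ normalizer ((P : Subgroup G) : Set G)) := by
  haveI : Fact (Nat.Prime 13) := ⟨by norm_num⟩
  haveI : Fact (Nat.Prime 7) := ⟨by norm_num⟩
  have hd : Nat.card M ∣ 1092 := h ▸ card_subgroup_dvd_card M
  have hidx := M.card_mul_index
  rw [h] at hidx
  have hbig : 13 ≤ M.index := by
    by_contra hlt
    have hdvd := Sylow.two_mul_card_dvd_factorial (not_comm h) hM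
    rw [h] at hdvd
    have h13 : 13 ∣ M.index.factorial := (by norm_num : 13 ∣ 2 * 1092).trans hdvd
    exact hlt ((Nat.Prime.dvd_factorial (by norm_num)).1 h13)
  by_cases h13 : 13 ∣ Nat.card M
  · obtain ⟨m, hm⟩ := h13
    have hm84 : m ∣ 84 := Nat.dvd_of_mul_dvd_mul_left (by norm_num : 0 < 13) (hm ▸ hd : 13 * m ∣ 13 * 84)
    have hqm : ¬ 13 ∣ m := fun h' => absurd (h'.trans hm84) (by norm_num)
    obtain ⟨P, hP, hPN⟩ := exists_le_normalizer M hm hqm ⟨84, by rw [h], by norm_num⟩ (by
      intro n hn hn1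
      have hn' : n ∈ (Nat.divisors 84).filter (fun d => d % 13 = 1) :=
        Finset.mem_filter.2 ⟨Nat.mem_divisors.2 ⟨hn.trans hm84, by norm_num⟩, hn1⟩
      rw [show (Nat.divisors 84).filter (fun d => d % 13 = 1) = {1, 14} by decide] at hn'
      simp only [Finset.mem_insert, Finset.mem_singleton] at hn'
      rcases hn' with rfl | rfl
      · rfl
      · exfalso
        obtain ⟨c, rfl⟩ := hn
        rcases Nat.eq_zero_or_pos c with rfl | hc
        · simp at hm84
        rw [hm] at hidx
        have : 13 * (14 * c) * 13 ≤ 1092 := hidx ▸ Nat.mul_le_mul_left _ hbig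
        omega)
    exact Or.inr (Or.inr (Or.inr ⟨⟨m, hm⟩,
      card_normalizer13 h P ▸ card_dvd_of_le hPN, P, hP, hPN⟩))
  by_cases h7 : 7 ∣ Nat.card M
  · obtain ⟨m, hm⟩ := h7
    have hm12 : m ∣ 12 := by
      have h84 : Nat.card M ∣ 84 :=
        (Nat.Coprime.dvd_of_dvd_mul_left ((Nat.Prime.coprime_iff_not_dvd (by norm_num)).2 h13).symm
          (by exact hd : Nat.card M ∣ 13 * 84))
      exact Nat.dvd_of_mul_dvd_mul_left (by norm_num : 0 < 7) (hm ▸ h84 : 7 * m ∣ 7 * 12)
    have hqm : ¬ 7 ∣ m := fun h' => absurd (h'.trans hm12) (by norm_num)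
    obtain ⟨P, hP, hPN⟩ := exists_le_normalizer M hm hqm ⟨156, by rw [h], by norm_num⟩ (by
      intro n hn hn1
      have hn' : n ∈ (Nat.divisors 12).filter (fun d => d % 7 = 1) :=
        Finset.mem_filter.2 ⟨Nat.mem_divisors.2 ⟨hn.trans hm12, by norm_num⟩, hn1⟩
      rw [show (Nat.divisors 12).filter (fun d => d % 7 = 1) = {1} by decide] at hn'
      simpa using hn')
    have h14 := card_normalizer7 h P ▸ card_dvd_of_le hPN
    rw [hm] at h14 ⊢
    have : m ∣ 2 := Nat.dvd_of_mul_dvd_mul_left (by norm_num : 0 < 7) (h14 : 7 * m ∣ 7 * 2)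
    rcases (Nat.dvd_prime Nat.prime_two).1 this with rfl | rfl
    · exact Or.inr (Or.inl rfl)
    · exact Or.inr (Or.inr (Or.inl rfl))
  · have h84 : Nat.card M ∣ 84 :=
      Nat.Coprime.dvd_of_dvd_mul_left ((Nat.Prime.coprime_iff_not_dvd (by norm_num)).2 h13).symm
        (by exact hd : Nat.card M ∣ 13 * 84)
    exact Or.inl (Nat.Coprime.dvd_of_dvd_mul_left
      ((Nat.Prime.coprime_iff_not_dvd (by norm_num)).2 h7).symm (h84 : Nat.card M ∣ 7 * 12))

theorem card_eq_or (h : Nat.card G = 1092) (M : Subgroup G) (hM : M ≠ ⊤) :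
    Nat.card M ∈ ({1, 2, 3, 4, 6, 12, 7, 14, 13, 26, 39, 78} : Finset ℕ) := by
  rcases cases_of_ne_top h M hM with h1 | h1 | h1 | ⟨h1, h2, -⟩
  · have := Nat.mem_divisors.2 ⟨h1, by norm_num⟩
    rw [show Nat.divisors 12 = {1, 2, 3, 4, 6, 12} by decide] at this
    simp only [Finset.mem_insert, Finset.mem_singleton] at this ⊢
    omega
  · simp [h1]
  · simp [h1]
  · have := Nat.mem_divisors.2 ⟨h2, by norm_num⟩
    rw [show Nat.divisors 78 = {1, 2, 3, 6, 13, 26, 39, 78} by decide] at this
    simp only [Finset.mem_insert, Finset.mem_singleton] at this ⊢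
    omega

theorem normalizer_ne_top' {H : Subgroup G} (hb : H ≠ ⊥) (ht : H ≠ ⊤) :
    normalizer (H : Set G) ≠ ⊤ := fun he => by
  rcases IsSimpleGroup.eq_bot_or_eq_top_of_normal H (normalizer_eq_top_iff.1 he) with h | h
  exacts [hb h, ht h]

theorem ne_top_of_card (h : Nat.card G = 1092) {M : Subgroup G} (hM : Nat.card M ≠ 1092) : M ≠ ⊤ :=
  fun he => hM (by rw [he, card_top, h])

/-- Sylow `3`-subgroups. -/
theorem card_normalizer3 (h : Nat.card G = 1092) [Fact (Nat.Prime 3)] (P : Sylow 3 G) :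
    Nat.card (P : Subgroup G) = 3 ∧
    Nat.card (normalizer ((P : Subgroup G) : Set G)) = 12 ∧
      Nat.card (centralizer ((P : Subgroup G) : Set G)) = 6 := by
  have hP : Nat.card (P : Subgroup G) = 3 := by
    have := Sylow.card_sylow_eq P (a := 1) (m := 364) (by rw [h]; norm_num) (by norm_num)
    simpa using this
  obtain ⟨e, c, he2, he1, h3c, hC, hce⟩ := Sylow.exists_normalizer_factor (not_comm h) P hP
  obtain rfl : e = 2 := by have := Nat.le_of_dvd (by norm_num) he2; omega
  have hNt : normalizer ((P : Subgroup G) : Set G) ≠ ⊤ :=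
    normalizer_ne_top' (fun hb => by rw [hb, card_bot] at hP; omega)
      (ne_top_of_card h (by rw [hP]; norm_num))
  have hmul := Sylow.card_normalizer_mul P
  have hmod := Sylow.card_sylow_mod (p := 3) (G := G)
  rw [h] at hmul
  have hN := card_eq_or h _ hNt
  simp only [Finset.mem_insert, Finset.mem_singleton] at hN
  refine ⟨hP, ?_⟩
  rw [hC]
  rcases hN with hN | hN | hN | hN | hN | hN | hN | hN | hN | hN | hN | hN <;>
    rw [hN] at hmul hce ⊢ <;> constructor <;> omega

/-- Sylow `2`-subgroups. -/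
theorem card_normalizer2 (h : Nat.card G = 1092) [Fact (Nat.Prime 2)] (P : Sylow 2 G) :
    Nat.card (P : Subgroup G) = 4 ∧
    Nat.card (normalizer ((P : Subgroup G) : Set G)) = 12 ∧
      (P : Subgroup G) ≤ centralizer ((P : Subgroup G) : Set G) := by
  have hP : Nat.card (P : Subgroup G) = 4 := by
    have := Sylow.card_sylow_eq P (a := 2) (m := 273) (by rw [h]; norm_num) (by norm_num)
    simpa using this
  have hPc : (P : Subgroup G) ≤ centralizer ((P : Subgroup G) : Set G) := by
    intro x hx y hy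
    exact congrArg Subtype.val ((IsPGroup.isMulCommutative_of_card_eq_prime_sq (p := 2) (G := ↥(P : Subgroup G))
      (by rw [hP]; norm_num)).is_comm.comm (⟨y, hy⟩ : ↥(P : Subgroup G)) ⟨x, hx⟩)
  have hPne : (P : Subgroup G) ≠ ⊥ := fun hb => by rw [hb, card_bot] at hP; omega
  have hNt : normalizer ((P : Subgroup G) : Set G) ≠ ⊤ :=
    normalizer_ne_top' hPne (ne_top_of_card h (by rw [hP]; norm_num))
  have hN := card_eq_or h _ hNt
  have h4 : 4 ∣ Nat.card (normalizer ((P : Subgroup G) : Set G)) := hP ▸ card_dvd_of_le le_normalizer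
  have hne : Nat.card (normalizer ((P : Subgroup G) : Set G)) ≠ 4 := fun h' => by
    refine Sylow.not_normalizer_le_centralizer (not_comm h) P hPne ?_
    rw [← eq_of_le_of_card_ge le_normalizer (by rw [hP, h'])]
    exact hPc
  simp only [Finset.mem_insert, Finset.mem_singleton] at hN
  refine ⟨hP, ?_, hPc⟩
  omega

/-- Centralizers of involutions. -/
theorem card_centralizer_two (h : Nat.card G = 1092) {t : G} (ht : orderOf t = 2) :
    Nat.card (centralizer ({t} : Set G)) = 12 := by
  haveI : Fact (Nat.Prime 2) := ⟨Nat.prime_two⟩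
  haveI : Fact (Nat.Prime 3) := ⟨Nat.prime_three⟩
  have hpg : ∀ x : G, orderOf x = 2 → IsPGroup 2 (zpowers x) := fun x hx =>
    IsPGroup.of_card (n := 1) (by rw [Nat.card_zpowers, hx, pow_one])
  obtain ⟨P, hP⟩ := (hpg t ht).exists_le_sylow
  obtain ⟨hP4, hN12, hPc⟩ := card_normalizer2 h P
  obtain ⟨Q⟩ : Nonempty (Sylow 3 G) := inferInstance
  obtain ⟨hQ3, -, hC6⟩ := card_normalizer3 h Q
  -- an element of order three normalising `P`
  obtain ⟨⟨g, hg⟩, hgo⟩ := exists_prime_orderOf_dvd_card' (G := normalizer ((P : Subgroup G) : Set G)) 3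
    (by rw [hN12]; norm_num)
  rw [Subgroup.orderOf_mk] at hgo
  have hgP : g ∉ (P : Subgroup G) := fun h' => by
    have := (P : Subgroup G).orderOf_dvd_natCard h'
    rw [hgo, hP4] at this
    norm_num at this
  have hmove : ∀ x ∈ (P : Subgroup G), x ≠ 1 → g * x ≠ x * g := by
    intro x hx hx1 he
    refine hx1 (Sylow.eq_one_of_central_in_normalizer (not_comm h) P hPc hx ?_)
    have hle : (P : Subgroup G) ⊔ zpowers g ≤ normalizer ((P : Subgroup G) : Set G) :=
      sup_le le_normalizer (zpowers_le.2 hg)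
    have heq : (P : Subgroup G) ⊔ zpowers g = normalizer ((P : Subgroup G) : Set G) := by
      refine eq_of_le_of_card_ge hle ?_
      rw [hN12]
      refine Nat.le_of_dvd Nat.card_pos (Nat.Coprime.mul_dvd_of_dvd_of_dvd (m := 4) (n := 3) (by norm_num) ?_ ?_)
      · exact hP4 ▸ card_dvd_of_le le_sup_left
      · exact hgo ▸ orderOf_dvd_natCard _ (mem_sup_right (mem_zpowers g))
    have hsub : (P : Subgroup G) ⊔ zpowers g ≤ centralizer {x} := sup_le
      (fun y hy => mem_centralizer_singleton_iff.2 (hPc hy x hx).symm)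
      (zpowers_le.2 (mem_centralizer_singleton_iff.2 he))
    intro n hn
    exact mem_centralizer_singleton_iff.1 (hsub (heq ▸ hn))
  -- all nontrivial elements of `P` are conjugate
  have hconj : ∀ x ∈ (P : Subgroup G), x ≠ 1 → ∀ y ∈ (P : Subgroup G), y ≠ 1 → IsConj x y := by
    intro x hx hx1 y hy hy1
    by_contra hne
    set x1 := g * x * g⁻¹
    set x2 := g * x1 * g⁻¹
    have hx1P : x1 ∈ (P : Subgroup G) := (mem_normalizer_iff.1 hg x).1 hx
    have hx2P : x2 ∈ (P : Subgroup G) := (mem_normalizer_iff.1 hg x1).1 hx1P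
    have e1 : IsConj x x1 := isConj_iff.2 ⟨g, rfl⟩
    have e2 : IsConj x x2 := e1.trans (isConj_iff.2 ⟨g, rfl⟩)
    have n1 : x1 ≠ 1 := fun h' => hx1 ((MulAut.conj g).injective (h'.trans (map_one (MulAut.conj g)).symm))
    have n2 : x2 ≠ 1 := fun h' => n1 ((MulAut.conj g).injective (h'.trans (map_one (MulAut.conj g)).symm))
    have n01 : x1 ≠ x := fun h' => hmove x hx hx1 (mul_inv_eq_iff_eq_mul.1 h')
    have n12 : x2 ≠ x1 := fun h' => hmove x1 hx1P n1 (mul_inv_eq_iff_eq_mul.1 h')
    have n02 : x2 ≠ x := fun h' => by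
      have h3 : g * g * g = 1 := by
        rw [show g * g * g = g ^ 3 by simp [pow_succ, mul_assoc], ← hgo]; exact pow_orderOf_eq_one g
      have h4 : g * x2 * g⁻¹ = x := by
        calc g * x2 * g⁻¹ = (g * g * g) * x * (g * g * g)⁻¹ := by simp only [x2, x1, mul_inv_rev, mul_assoc]
          _ = x := by rw [h3, one_mul, inv_one, mul_one]
      rw [h'] at h4
      exact n01 h4
    classical
    have hcard : ({1, x, x1, x2, y} : Finset G).card ≤ 4 := by
      rw [← hP4, ← Set.ncard_coe_finset, ← Nat.card_coe_set_eq]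
      refine Nat.card_le_card_of_injective (fun z => (⟨z.1, ?_⟩ : ↥(P : Subgroup G)))
        fun a b hab => Subtype.ext (congrArg (fun z : ↥(P : Subgroup G) => (z : G)) hab)
      have hz := z.2
      simp only [Finset.coe_insert, Finset.coe_singleton, Set.mem_insert_iff, Set.mem_singleton_iff] at hz
      rcases hz with e | e | e | e | e <;> rw [e]
      exacts [one_mem _, hx, hx1P, hx2P, hy]
    have ny0 : y ≠ x := fun h' => hne (h' ▸ IsConj.refl y)
    have ny1 : y ≠ x1 := fun h' => hne (h' ▸ e1)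
    have ny2 : y ≠ x2 := fun h' => hne (h' ▸ e2)
    simp [hx1.symm, n1.symm, n2.symm, hy1.symm, n01.symm, n02.symm, n12.symm, ny0.symm, ny1.symm, ny2.symm] at hcard
  -- an involution centralising a Sylow `3`-subgroup
  obtain ⟨⟨u, hu⟩, huo⟩ := exists_prime_orderOf_dvd_card' (G := centralizer ((Q : Subgroup G) : Set G)) 2
    (by rw [hC6]; norm_num)
  rw [Subgroup.orderOf_mk] at huo
  obtain ⟨S, hS⟩ := (hpg u huo).exists_le_sylow
  obtain ⟨c, hc⟩ := MulAction.exists_smul_eq G S P
  have hu' : c * u * c⁻¹ ∈ (P : Subgroup G) := by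
    rw [← hc, _root_.Sylow.coe_subgroup_smul]
    exact smul_mem_pointwise_smul _ (MulAut.conj c) _ (hS (mem_zpowers u))
  have huc : Nat.card (centralizer ({u} : Set G)) = 12 := by
    have hne1 : u ≠ 1 := fun h' => by rw [h', orderOf_one] at huo; omega
    have hCt : centralizer ({u} : Set G) ≠ ⊤ := fun h' => by
      refine hne1 ?_
      have : u ∈ center G := mem_center_iff.2 fun z =>
        mem_centralizer_singleton_iff.1 (h' ▸ mem_top z)
      rwa [Sylow.center_eq_bot (not_comm h), mem_bot] at this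
    have h4 : 4 ∣ Nat.card (centralizer ({u} : Set G)) := by
      obtain ⟨hS4, -, hSc⟩ := card_normalizer2 h S
      exact hS4 ▸ card_dvd_of_le fun y hy =>
        mem_centralizer_singleton_iff.2 (hSc hy u (hS (mem_zpowers u))).symm
    have h3 : 3 ∣ Nat.card (centralizer ({u} : Set G)) :=
      hQ3 ▸ card_dvd_of_le fun y hy => mem_centralizer_singleton_iff.2 (hu y hy)
    have := card_eq_or h _ hCt
    simp only [Finset.mem_insert, Finset.mem_singleton] at this
    omega
  have ht1 : t ≠ 1 := fun h' => by rw [h', orderOf_one] at ht; omega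
  have hu1 : c * u * c⁻¹ ≠ 1 := fun h' => by
    have : u = 1 := by simpa using h'
    rw [this, orderOf_one] at huo; omega
  obtain ⟨d, hd⟩ := isConj_iff.1 ((hconj t (hP (mem_zpowers t)) ht1 _ hu' hu1))
  rw [← huc]
  have e : (centralizer ({t} : Set G)).map (MulAut.conj (c⁻¹ * d)).toMonoidHom = centralizer {u} := by
    have hu2 : (c⁻¹ * d) * t * (c⁻¹ * d)⁻¹ = u := by
      rw [show (c⁻¹ * d) * t * (c⁻¹ * d)⁻¹ = c⁻¹ * (d * t * d⁻¹) * c by group, hd]; group
    ext y
    rw [mem_map_equiv, mem_centralizer_singleton_iff, mem_centralizer_singleton_iff, MulAut.conj_symm_apply,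
      ← hu2]
    constructor <;> intro hy
    · calc y * (c⁻¹ * d * t * (c⁻¹ * d)⁻¹)
          = (c⁻¹ * d) * (((c⁻¹ * d)⁻¹ * y * (c⁻¹ * d)) * t) * (c⁻¹ * d)⁻¹ := by group
        _ = _ := by rw [hy]; group
    · calc (c⁻¹ * d)⁻¹ * y * (c⁻¹ * d) * t
          = (c⁻¹ * d)⁻¹ * (y * (c⁻¹ * d * t * (c⁻¹ * d)⁻¹)) * (c⁻¹ * d) := by group
        _ = _ := by rw [hy]; group
  rw [← e, card_map_of_injective (MulAut.conj _).injective]

/-- The normaliser of a Sylow `13`-subgroup has abelian quotient by it. -/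
theorem commutator_mem13 (h : Nat.card G = 1092) [Fact (Nat.Prime 13)] (P : Sylow 13 G) :
    ∀ a ∈ normalizer ((P : Subgroup G) : Set G), ∀ b ∈ normalizer ((P : Subgroup G) : Set G),
      ⁅a, b⁆ ∈ (P : Subgroup G) := by
  have hP : Nat.card (P : Subgroup G) = 13 := by
    have := Sylow.card_sylow_eq P (a := 1) (m := 84) (by rw [h]; norm_num) (by norm_num)
    simpa using this
  obtain ⟨e, c, he12, he1, h13c, hC, hce⟩ := Sylow.exists_normalizer_factor (not_comm h) P hP
  rw [card_normalizer13 h P] at hce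
  have hcases : c = 13 ∨ c = 26 ∨ c = 39 := by
    obtain ⟨k, rfl⟩ := h13c
    have hk : k * e = 6 := by
      rw [Nat.mul_assoc] at hce; omega
    have : k ∣ 6 := ⟨e, hk.symm⟩
    have := Nat.le_of_dvd (by norm_num) this
    interval_cases k <;> omega
  have hc13 : Nat.card (centralizer ((P : Subgroup G) : Set G)) = 13 := by
    rw [hC]
    rcases hcases with rfl | rfl | rfl
    · rfl
    · exfalso
      haveI : Fact (Nat.Prime 2) := ⟨Nat.prime_two⟩
      obtain ⟨⟨u, hu⟩, huo⟩ := exists_prime_orderOf_dvd_card' (G := centralizer ((P : Subgroup G) : Set G)) 2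
        (by rw [hC]; norm_num)
      rw [Subgroup.orderOf_mk] at huo
      have h13 : 13 ∣ Nat.card (centralizer ({u} : Set G)) :=
        hP ▸ card_dvd_of_le fun y hy => mem_centralizer_singleton_iff.2 (hu y hy)
      rw [card_centralizer_two h huo] at h13
      norm_num at h13
    · exfalso
      haveI : Fact (Nat.Prime 3) := ⟨Nat.prime_three⟩
      obtain ⟨⟨u, hu⟩, huo⟩ := exists_prime_orderOf_dvd_card' (G := centralizer ((P : Subgroup G) : Set G)) 3
        (by rw [hC]; norm_num)
      rw [Subgroup.orderOf_mk] at huo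
      obtain ⟨Q, hQ⟩ := (IsPGroup.of_card (n := 1) (by rw [Nat.card_zpowers, huo, pow_one]) :
        IsPGroup 3 (zpowers u)).exists_le_sylow
      obtain ⟨hQ3, -, hC6⟩ := card_normalizer3 h Q
      have hQe : zpowers u = Q := eq_of_le_of_card_ge hQ (by rw [hQ3, Nat.card_zpowers, huo])
      have h13 : 13 ∣ Nat.card (centralizer ((Q : Subgroup G) : Set G)) := by
        refine hP ▸ card_dvd_of_le fun y hy => ?_
        rw [← hQe, mem_centralizer_iff]
        rintro _ ⟨i, rfl⟩
        exact ((show Commute u y from (hu y hy).symm).zpow_left i).eq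
      rw [hC6] at h13
      norm_num at h13
  have hCP : centralizer ((P : Subgroup G) : Set G) = P := by
    haveI : IsCyclic ↥(P : Subgroup G) := isCyclic_of_prime_card hP
    refine (eq_of_le_of_card_ge ?_ (by rw [hc13, hP])).symm
    intro x hx y hy
    exact congrArg Subtype.val (IsCyclic.isMulCommutative.is_comm.comm
      (⟨y, hy⟩ : ↥(P : Subgroup G)) ⟨x, hx⟩)
  intro a ha b hb
  haveI : IsCyclic ↥(P : Subgroup G) := isCyclic_of_prime_card hP
  have hab : (⁅(⟨a, ha⟩ : normalizer ((P : Subgroup G) : Set G)), ⟨b, hb⟩⁆ :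
      normalizer ((P : Subgroup G) : Set G)) ∈ (P : Subgroup G).normalizerMonoidHom.ker := by
    rw [MonoidHom.mem_ker, map_commutatorElement, commutatorElement_eq_one_iff_mul_comm]
    let φ := IsCyclic.mulAutMulEquiv ↥(P : Subgroup G)
    refine MulEquiv.injective (IsCyclic.mulAutMulEquiv ↥(P : Subgroup G)) ?_
    rw [map_mul, map_mul, mul_comm]
  rw [normalizerMonoidHom_ker, mem_subgroupOf, hCP] at hab
  simpa [commutatorElement_def] using hab

/-- Every proper nontrivial subgroup has a maximal normaliser. -/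
theorem isCoatom_normalizer (h : Nat.card G = 1092) (H : Subgroup G) (hb : H ≠ ⊥) (ht : H ≠ ⊤) :
    IsCoatom (normalizer (H : Set G)) := by
  haveI : Fact (Nat.Prime 2) := ⟨Nat.prime_two⟩
  haveI : Fact (Nat.Prime 3) := ⟨Nat.prime_three⟩
  haveI : Fact (Nat.Prime 7) := ⟨by norm_num⟩
  haveI : Fact (Nat.Prime 13) := ⟨by norm_num⟩
  set N := normalizer (H : Set G) with hN
  have hNt : N ≠ ⊤ := normalizer_ne_top' hb ht
  suffices hN' : Nat.card N = 12 ∨ Nat.card N = 14 ∨ Nat.card N = 78 by
    refine ⟨hNt, fun M hM => ?_⟩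
    by_contra hMt
    have h1 := card_dvd_of_le hM.le
    have h2 : Nat.card N ≠ Nat.card M := fun he => hM.ne (eq_of_le_of_card_ge hM.le he.ge)
    have h3 := card_eq_or h M hMt
    simp only [Finset.mem_insert, Finset.mem_singleton] at h3
    obtain ⟨k, hk⟩ := h1
    rcases hN' with e | e | e <;> rw [e] at h2 hk <;>
      rcases h3 with e3 | e3 | e3 | e3 | e3 | e3 | e3 | e3 | e3 | e3 | e3 | e3 <;>
      rw [e3] at h2 hk <;> omega
  have hNc := card_eq_or h N hNt
  simp only [Finset.mem_insert, Finset.mem_singleton] at hNc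
  suffices hN'' : 12 ∣ Nat.card N ∨ 14 ∣ Nat.card N ∨ 78 ∣ Nat.card N by omega
  have hdN : Nat.card H ∣ Nat.card N := card_dvd_of_le le_normalizer
  have hHc := card_eq_or h H ht
  simp only [Finset.mem_insert, Finset.mem_singleton] at hHc
  have hH1 : Nat.card H ≠ 1 := fun h' => hb (card_eq_one.1 h')
  by_cases h13 : 13 ∣ Nat.card H
  · obtain ⟨-, -, P, hP, hPN⟩ := ((cases_of_ne_top h H ht).resolve_left fun h' => by
      have := h13.trans h'; norm_num at this).resolve_left (fun h' => by omega) |>.resolve_left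
        (fun h' => by omega)
    refine Or.inr (Or.inr ?_)
    rw [← card_normalizer13 h P]
    refine card_dvd_of_le fun x hx => ?_
    rw [hN, mem_normalizer_iff_map_conj_eq]
    refine eq_of_le_of_card_ge ?_ (card_map_of_injective (MulAut.conj x).injective).ge
    rintro _ ⟨y, hy, rfl⟩
    have := mul_mem (hP (commutator_mem13 h P x hx y (hPN hy))) hy
    simpa [commutatorElement_def] using this
  by_cases h7 : Nat.card H = 14
  · exact Or.inr (Or.inl (h7 ▸ hdN))
  by_cases h12 : Nat.card H = 12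
  · exact Or.inl (h12 ▸ hdN)
  have hHcases : Nat.card H = 2 ∨ Nat.card H = 3 ∨ Nat.card H = 4 ∨ Nat.card H = 6 ∨ Nat.card H = 7 := by
    omega
  rcases hHcases with hc | hc | hc | hc | hc
  · obtain ⟨⟨t, htH⟩, hto⟩ := exists_prime_orderOf_dvd_card' (G := H) 2 (by rw [hc])
    rw [Subgroup.orderOf_mk] at hto
    have he : zpowers t = H := eq_of_le_of_card_ge (zpowers_le.2 htH) (by rw [hc, Nat.card_zpowers, hto])
    refine Or.inl (card_centralizer_two h hto ▸ card_dvd_of_le ?_)
    rw [hN, ← he]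
    intro x hx
    refine centralizer_le_normalizer _ (mem_centralizer_iff.2 ?_)
    rintro _ ⟨i, rfl⟩
    exact ((show Commute t x from (mem_centralizer_singleton_iff.1 hx).symm).zpow_left i).eq
  · obtain ⟨Q, hQ⟩ := (IsPGroup.of_card (n := 1) (by rw [hc, pow_one]) : IsPGroup 3 H).exists_le_sylow
    obtain ⟨hQ3, hN12, -⟩ := card_normalizer3 h Q
    have he : H = Q := eq_of_le_of_card_ge hQ (by rw [hc, hQ3])
    exact Or.inl (by rw [hN, he, hN12])
  · obtain ⟨Q, hQ⟩ := (IsPGroup.of_card (n := 2) (by rw [hc]; norm_num) : IsPGroup 2 H).exists_le_sylow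
    obtain ⟨hQ4, hN12, -⟩ := card_normalizer2 h Q
    have he : H = Q := eq_of_le_of_card_ge hQ (by rw [hc, hQ4])
    exact Or.inl (by rw [hN, he, hN12])
  · obtain ⟨P, hP, hPN⟩ := exists_le_normalizer (q := 3) (m := 2) H (by rw [hc]) (by norm_num)
      ⟨364, by rw [h], by norm_num⟩ (fun n hn hn1 => by
        have := Nat.le_of_dvd (by norm_num) hn; interval_cases n <;> omega)
    obtain ⟨-, hN12, -⟩ := card_normalizer3 h P
    refine Or.inl (hN12 ▸ card_dvd_of_le ?_)
    have hidx : (H.subgroupOf (normalizer ((P : Subgroup G) : Set G))).index = 2 := by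
      have h1 := (H.subgroupOf (normalizer ((P : Subgroup G) : Set G))).card_mul_index
      rw [Nat.card_congr (subgroupOfEquivOfLe hPN).toEquiv, hc, hN12] at h1
      omega
    haveI := normal_of_index_eq_two hidx
    exact le_normalizer_of_normal_subgroupOf hPN
  · obtain ⟨Q, hQ⟩ := (IsPGroup.of_card (n := 1) (by rw [hc, pow_one]) : IsPGroup 7 H).exists_le_sylow
    have hQ7 : Nat.card (Q : Subgroup G) = 7 := by
      have := Sylow.card_sylow_eq Q (a := 1) (m := 156) (by rw [h]; norm_num) (by norm_num)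
      simpa using this
    have he : H = Q := eq_of_le_of_card_ge hQ (by rw [hc, hQ7])
    exact Or.inr (Or.inl (by rw [hN, he, card_normalizer7 h Q]))

end Cfsg.Agent.Lib.Fg6.Order1092
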