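/-
Numbers of elements of given order.
-/
import Cfsg.Agent.Lib.Fg6.FrobeniusTheorem

set_option autoImplicit false
set_option linter.style.haveILetI false

namespace Cfsg.Agent.Lib.Fg6.OrderCount

variable {G : Type*} [Group G] [Finite G]

/-- The number of elements of order `m`. -/
noncomputable def cnt (G : Type*) [Group G] (m : ℕ) : ℕ := Nat.card {g : G // orderOf g = m}

theorem cnt_one : cnt G 1 = 1 := by
  have : Unique {g : G // orderOf g = 1} :=
    ⟨⟨⟨1, orderOf_one⟩⟩, fun g => Subtype.ext (orderOf_eq_one_iff.1 g.2)⟩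
  exact Nat.card_unique

theorem cnt_eq_zero {m : ℕ} (h : m ∉ Set.range (orderOf : G → ℕ)) : cnt G m = 0 := by
  have : IsEmpty {g : G // orderOf g = m} := ⟨fun g => h ⟨g.1, g.2⟩⟩
  exact Nat.card_of_isEmpty

theorem cnt_pos {m : ℕ} (h : m ∈ Set.range (orderOf : G → ℕ)) : 0 < cnt G m := by
  obtain ⟨g, hg⟩ := h
  have : Nonempty {g : G // orderOf g = m} := ⟨⟨g, hg⟩⟩
  exact Nat.card_pos

theorem totient_dvd_cnt (m : ℕ) : Nat.totient m ∣ cnt G m := by
  classical
  have := Fintype.ofFinite G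
  rw [cnt, Nat.card_eq_fintype_card, Fintype.card_subtype,
    Finset.card_eq_sum_card_fiberwise (f := Subgroup.zpowers)
      (t := (Finset.univ.filter fun g : G => orderOf g = m).image Subgroup.zpowers)
      (fun g hg => Finset.mem_image_of_mem _ hg)]
  refine Finset.dvd_sum fun Z hZ => ?_
  obtain ⟨y, hy, rfl⟩ := Finset.mem_image.1 hZ
  obtain ⟨-, rfl⟩ := Finset.mem_filter.1 hy
  refine dvd_of_eq ?_
  rw [← IsCyclic.card_orderOf_eq_totient (α := Subgroup.zpowers y) (d := orderOf y)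
    (by rw [← Nat.card_eq_fintype_card, Nat.card_zpowers])]
  refine Finset.card_bij' (fun z _ => (z : G))
    (fun g hg => (⟨g, (Finset.mem_filter.1 hg).2 ▸ Subgroup.mem_zpowers g⟩ : Subgroup.zpowers y))
    ?_ ?_ ?_ ?_
  · intro z hz
    simp only [Finset.mem_filter, Finset.mem_univ, true_and] at hz ⊢
    have hzo : orderOf (z : G) = orderOf y := by rw [Subgroup.orderOf_coe]; exact hz
    refine ⟨hzo, Subgroup.eq_of_le_of_card_ge (Subgroup.zpowers_le.2 z.2) ?_⟩
    rw [Nat.card_zpowers, Nat.card_zpowers, hzo]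
  · intro g hg
    simp only [Finset.mem_filter, Finset.mem_univ, true_and] at hg ⊢
    rw [Subgroup.orderOf_mk]; exact hg.1
  · intros; rfl
  · intros; rfl

/-- Solutions of `g ^ M = 1`, sorted by order. -/
theorem card_pow_eq {M : ℕ} (S : Finset ℕ) (hS : ∀ d, d ∣ M ↔ d ∈ S) :
    Nat.card {g : G // g ^ M = 1} = ∑ d ∈ S, cnt G d := by
  classical
  have := Fintype.ofFinite G
  simp only [cnt, Nat.card_eq_fintype_card, Fintype.card_subtype]
  rw [Finset.card_eq_sum_card_fiberwise (f := fun g : G => orderOf g) (t := S)]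
  · refine Finset.sum_congr rfl fun d hd => congrArg _ ?_
    ext g
    simp only [Finset.mem_filter, Finset.mem_univ, true_and]
    exact ⟨fun h => h.2, fun h => ⟨orderOf_dvd_iff_pow_eq_one.1 (h ▸ (hS d).2 hd), h⟩⟩
  · intro g hg
    simp only [Finset.coe_filter, Set.mem_ofPred_eq] at hg
    exact (hS _).1 (orderOf_dvd_iff_pow_eq_one.2 hg.2)

/-- Frobenius in counting form. -/
theorem dvd_sum_cnt {M : ℕ} (hM : M ∣ Nat.card G) (S : Finset ℕ) (hS : ∀ d, d ∣ M ↔ d ∈ S) :
    M ∣ ∑ d ∈ S, cnt G d :=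
  card_pow_eq (G := G) S hS ▸ FrobeniusTheorem.dvd_card_pow_eq_one hM

theorem dvd_prime_sq {p : ℕ} (hp : p.Prime) (d : ℕ) :
    d ∣ p ^ 2 ↔ d ∈ ({1, p, p ^ 2} : Finset ℕ) := by
  rw [Nat.dvd_prime_pow hp]
  constructor
  · rintro ⟨i, hi, rfl⟩
    interval_cases i <;> simp
  · intro h
    simp only [Finset.mem_insert, Finset.mem_singleton] at h
    rcases h with rfl | rfl | rfl
    exacts [⟨0, by simp⟩, ⟨1, by simp⟩, ⟨2, by simp⟩]

theorem dvd_prime_mul {p q : ℕ} (hp : p.Prime) (hq : q.Prime) (d : ℕ) :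
    d ∣ p * q ↔ d ∈ ({1, p, q, p * q} : Finset ℕ) := by
  simp only [Finset.mem_insert, Finset.mem_singleton]
  constructor
  · intro h
    obtain ⟨a, b, ha, hb, rfl⟩ := Nat.dvd_mul.1 h
    rcases (Nat.dvd_prime hp).1 ha with rfl | rfl <;>
      rcases (Nat.dvd_prime hq).1 hb with rfl | rfl <;> simp
  · rintro (rfl | rfl | rfl | rfl) <;> simp

end Cfsg.Agent.Lib.Fg6.OrderCount
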