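/-
2-groups with a fixed-point-free automorphism of order three.
-/
import Mathlib.GroupTheory.Nilpotent
import Mathlib.GroupTheory.PGroup
import Mathlib.Tactic.Group

set_option autoImplicit false
set_option linter.style.haveILetI false

namespace Cfsg.Agent.Lib.Fg6.OrderThreeAut

open scoped commutatorElement

variable {Q : Type*} [Group Q]

theorem comm_left_mul (x y z : Q) : ⁅x * y, z⁆ = x * ⁅y, z⁆ * x⁻¹ * ⁅x, z⁆ := by
  simp only [commutatorElement_def]; group

theorem comm_right_mul (x y z : Q) : ⁅x, y * z⁆ = ⁅x, y⁆ * (y * ⁅x, z⁆ * y⁻¹) := by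
  simp only [commutatorElement_def]; group

theorem conj_central {z : Q} (hz : z ∈ Subgroup.center Q) (x : Q) : x * z * x⁻¹ = z := by
  rw [Subgroup.mem_center_iff.1 hz x, mul_inv_cancel_right]

/-- Relations satisfied by an automorphism of order three without fixed points. -/
theorem order_three_facts (φ : Q →* Q) (hrel : ∀ t, t * φ t * φ (φ t) = 1) :
    (∀ t, φ (φ (φ t)) = t) ∧ (∀ t, ⁅t, φ t⁆ = 1) ∧ (∀ t, φ (φ t) = (t * φ t)⁻¹) := by
  have h2 : ∀ t, φ (φ t) = (t * φ t)⁻¹ := fun t => eq_inv_of_mul_eq_one_right (hrel t)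
  refine ⟨fun t => ?_, fun t => ?_, h2⟩
  · have h0 := hrel (φ t)
    rw [eq_inv_of_mul_eq_one_right h0, h2]
    group
  · rw [commutatorElement_eq_one_iff_mul_comm]
    have h0 := hrel t⁻¹
    rw [map_inv, map_inv, h2, inv_inv, mul_assoc, inv_mul_eq_one] at h0
    calc t * φ t = φ t * ((φ t)⁻¹ * (t * φ t)) := by group
      _ = φ t * t := by rw [← h0]

theorem eq_one_of_pow_three [Finite Q] (hQ : IsPGroup 2 Q) {v : Q} (hv : v ^ 3 = 1) : v = 1 := by
  obtain ⟨k, hk⟩ := hQ v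
  have h : Nat.Coprime 3 (2 ^ k) := Nat.Coprime.pow_right _ (by norm_num)
  exact orderOf_eq_one_iff.1 (Nat.eq_one_of_dvd_coprimes h (orderOf_dvd_of_pow_eq_one hv)
    (orderOf_dvd_of_pow_eq_one hk))

theorem eq_one_of_same_images [Finite Q] (hQ : IsPGroup 2 Q) (φ : Q →* Q)
    (hrel : ∀ t, t * φ t * φ (φ t) = 1) {v : Q} (h : φ (φ v) = φ v) : v = 1 := by
  obtain ⟨h3, -, -⟩ := order_three_facts φ hrel
  have h1 : φ v = v := by
    have := congrArg φ (congrArg φ h)
    rw [h3, h3] at this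
    exact this
  refine eq_one_of_pow_three hQ ?_
  have := hrel v
  rw [h1, h1] at this
  simpa [pow_succ] using this

/-- Class at most two, when the third term of the series is central. -/
theorem commutator_central_of_third_central [Finite Q] (hQ : IsPGroup 2 Q) (φ : Q →* Q)
    (hrel : ∀ t, t * φ t * φ (φ t) = 1)
    (hc : ∀ a b c : Q, ⁅⁅a, b⁆, c⁆ ∈ Subgroup.center Q) (a b c : Q) : ⁅⁅a, b⁆, c⁆ = 1 := by
  obtain ⟨h3, hfx, h2⟩ := order_three_facts φ hrel
  let F : Q → Q → Q → Q := fun a b c => ⁅⁅a, b⁆, c⁆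
  have hcen : ∀ a b c x, x * F a b c = F a b c * x := fun a b c x =>
    Subgroup.mem_center_iff.1 (hc a b c) x
  -- elements whose commutators are central
  have hD3 : ∀ a b x y : Q, ⁅⁅a, b⁆, x * y⁆ = ⁅⁅a, b⁆, x⁆ * ⁅⁅a, b⁆, y⁆ := fun a b x y => by
    rw [comm_right_mul, conj_central (hc a b y)]
  have hzmul : ∀ z u x : Q, z ∈ Subgroup.center Q → ⁅z * u, x⁆ = ⁅u, x⁆ := fun z u x hz => by
    rw [comm_left_mul, commutatorElement_eq_one_iff_mul_comm.2 (Subgroup.mem_center_iff.1 hz x).symm,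
      mul_one, ← Subgroup.mem_center_iff.1 hz ⁅u, x⁆, mul_inv_cancel_right]
  have hD12 : ∀ a b a' b' x : Q, ⁅⁅a, b⁆ * ⁅a', b'⁆, x⁆ = ⁅⁅a, b⁆, x⁆ * ⁅⁅a', b'⁆, x⁆ :=
    fun a b a' b' x => by
      rw [comm_left_mul, conj_central (hc a' b' x)]
      exact hcen a' b' x _ |>.symm
  have hF1 : ∀ a a' b c, F (a * a') b c = F a b c * F a' b c := fun a a' b c => by
    show ⁅⁅a * a', b⁆, c⁆ = _
    rw [comm_left_mul, show a * ⁅a', b⁆ * a⁻¹ = ⁅a, ⁅a', b⁆⁆ * ⁅a', b⁆ by
      simp only [commutatorElement_def]; group, mul_assoc,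
      hzmul _ _ _ (by rw [← commutatorElement_inv]; exact Subgroup.inv_mem _ (hc a' b a)), hD12]
    exact hcen a b c _
  have hF2 : ∀ a b b' c, F a (b * b') c = F a b c * F a b' c := fun a b b' c => by
    show ⁅⁅a, b * b'⁆, c⁆ = _
    rw [comm_right_mul, show b * ⁅a, b'⁆ * b⁻¹ = ⁅b, ⁅a, b'⁆⁆ * ⁅a, b'⁆ by
      simp only [commutatorElement_def]; group, ← mul_assoc,
      Subgroup.mem_center_iff.1 (show ⁅b, ⁅a, b'⁆⁆ ∈ Subgroup.center Q by
        rw [← commutatorElement_inv]; exact Subgroup.inv_mem _ (hc a b' b)) ⁅a, b⁆, mul_assoc,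
      hzmul _ _ _ (by rw [← commutatorElement_inv]; exact Subgroup.inv_mem _ (hc a b' b)), hD12]
  have hF3 : ∀ a b c c', F a b (c * c') = F a b c * F a b c' := hD3
  have hFswap : ∀ a b c, F b a c = (F a b c)⁻¹ := fun a b c => by
    refine eq_inv_of_mul_eq_one_left ?_
    show ⁅⁅b, a⁆, c⁆ * ⁅⁅a, b⁆, c⁆ = 1
    rw [← hD12, show ⁅b, a⁆ * ⁅a, b⁆ = 1 by rw [← commutatorElement_inv a b, inv_mul_cancel],
      commutatorElement_one_left]
  have hFinv3 : ∀ a b c, F a b c⁻¹ = (F a b c)⁻¹ := fun a b c => by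
    refine eq_inv_of_mul_eq_one_left ?_
    rw [← hF3, inv_mul_cancel]; exact commutatorElement_one_right _
  have hFinv2 : ∀ a b c, F a b⁻¹ c = (F a b c)⁻¹ := fun a b c => by
    refine eq_inv_of_mul_eq_one_left ?_
    rw [← hF2, inv_mul_cancel]
    show ⁅⁅a, 1⁆, c⁆ = 1
    rw [commutatorElement_one_right, commutatorElement_one_left]
  -- the automorphism moves between the slots
  have hslot12 : ∀ a b c, F (φ a) b c = F a (φ b) c := fun a b c => by
    have h0 : F (a * b) (φ (a * b)) c = 1 := by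
      show ⁅⁅a * b, φ (a * b)⁆, c⁆ = 1
      rw [hfx, commutatorElement_one_left]
    have hd : ∀ x, F x (φ x) c = 1 := fun x => by
      show ⁅⁅x, φ x⁆, c⁆ = 1
      rw [hfx, commutatorElement_one_left]
    rw [map_mul, hF1, hF2, hF2, hd, hd, one_mul, mul_one] at h0
    rw [eq_inv_of_mul_eq_one_left h0]
    exact hFswap _ _ _
  have hslot3 : ∀ a b c, F (φ a) (φ b) c = F a b (φ c) := fun a b c => by
    show ⁅⁅φ a, φ b⁆, c⁆ = ⁅⁅a, b⁆, φ c⁆
    rw [← map_commutatorElement]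
    set u := ⁅a, b⁆ with hu
    have h0 : ⁅u * c, φ u * φ c⁆ = 1 := by rw [← map_mul]; exact hfx _
    have hcu : ⁅c, φ u⁆ ∈ Subgroup.center Q := by
      rw [← commutatorElement_inv, hu, map_commutatorElement]
      exact Subgroup.inv_mem _ (hc _ _ _)
    rw [comm_left_mul, comm_right_mul c, hfx c, mul_one, mul_inv_cancel, mul_one,
      conj_central hcu, comm_right_mul u, hfx u, one_mul,
      conj_central (hu ▸ hc a b (φ c))] at h0
    rw [← commutatorElement_inv c (φ u), eq_comm]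
    exact eq_inv_of_mul_eq_one_right h0
  have hFφ : ∀ a b c, φ (F a b c) = F (φ a) (φ b) (φ c) := fun a b c => by
    simp only [F, map_commutatorElement]
  have hval3 : ∀ a b c, F a b (φ c) = φ (φ (F a b c)) := fun a b c => by
    have h1 : φ (F a b c) = (F a b (φ c))⁻¹ * (F a b c)⁻¹ := by
      rw [hFφ, hslot3, h2, hFinv3, hF3, mul_inv_rev]
    rw [h2, h1, ← mul_assoc, ← hcen a b c (F a b (φ c))⁻¹, mul_inv_cancel_right, inv_inv]
  have hval2 : ∀ a b c, F a (φ b) c = φ (F a b c) := fun a b c => by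
    have h1 : φ (φ (F a b c)) = (F a b c)⁻¹ * (F a (φ b) c)⁻¹ := by
      rw [← hval3, ← hslot3, hslot12, h2, hFinv2, hF2, ← mul_inv_rev, hcen a b c]
    rw [h2] at h1
    have h4 : (φ (F a b c))⁻¹ * (F a b c)⁻¹ = (F a (φ b) c)⁻¹ * (F a b c)⁻¹ := by
      rw [← mul_inv_rev, h1, ← mul_inv_rev, ← mul_inv_rev, hcen a b c]
    exact (inv_injective (mul_right_cancel h4)).symm
  have hval1 : ∀ a b c, F (φ a) b c = φ (F a b c) := fun a b c => by rw [hslot12, hval2]
  -- Hall-Witt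
  have hjac : ∀ a b c, F a b c * F b c a * F c a b = 1 := fun a b c => by
    have h0 : ⁅⁅a, b⁆, b * c * b⁻¹⁆ * ⁅⁅b, c⁆, c * a * c⁻¹⁆ * ⁅⁅c, a⁆, a * b * a⁻¹⁆ = 1 := by
      simp only [commutatorElement_def]; group
    have hcj : ∀ x y z w, F x y (w * z * w⁻¹) = F x y z := fun x y z w => by
      rw [hF3, hF3, hFinv3, hcen x y z, mul_inv_cancel_right]
    rw [show ⁅⁅a, b⁆, b * c * b⁻¹⁆ = F a b c from hcj a b c b,
      show ⁅⁅b, c⁆, c * a * c⁻¹⁆ = F b c a from hcj b c a c,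
      show ⁅⁅c, a⁆, a * b * a⁻¹⁆ = F c a b from hcj c a b a] at h0
    exact h0
  have hshift : ∀ a b c, F b c a = F c a b := fun a b c => by
    have e1 := hjac (φ a) b c
    have e2 := hjac a (φ b) c
    rw [hval1, hval3, hval2] at e1
    rw [hval2, hval1, hval3] at e2
    have e3 : φ (φ (F b c a)) * φ (F c a b) = φ (F b c a) * φ (φ (F c a b)) := by
      have := e1.trans e2.symm
      rwa [mul_assoc, mul_assoc, mul_right_inj] at this
    rw [← mul_inv_eq_one]
    refine eq_one_of_same_images hQ φ hrel ?_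
    rw [map_mul, map_mul, map_inv, map_inv, mul_inv_eq_iff_eq_mul, mul_assoc,
      eq_mul_inv_iff_mul_eq.2 e3]
    have hcz : ∀ x, x * φ (F c a b) = φ (F c a b) * x := fun x => by rw [hFφ]; exact hcen _ _ _ x
    have hcz2 : ∀ x, x * φ (φ (F c a b)) = φ (φ (F c a b)) * x := fun x => by
      rw [hFφ, hFφ]; exact hcen _ _ _ x
    rw [mul_assoc]
    congr 1
    exact (hcz2 _).symm
  have h := hjac a b c
  rw [← hshift c a b, ← hshift a b c, ← hshift c a b] at h
  exact eq_one_of_pow_three hQ (by simpa [pow_succ, F] using h)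

/-- The class is at most two. -/
theorem nilpotencyClass_le_two [Finite Q] (hQ : IsPGroup 2 Q) (φ : Q →* Q)
    (hrel : ∀ t, t * φ t * φ (φ t) = 1) : Group.nilpotencyClass Q ≤ 2 := by
  have := hQ.isNilpotent
  let L : ℕ → Subgroup Q := fun k => (⊤ : Subgroup Q).lowerCentralSeries k
  have hstep : ∀ k, L (k + 1) = ⁅L k, ⊤⁆ := fun k => Subgroup.lowerCentralSeries_succ _ k
  -- the third term equals the fourth
  have h23 : L 2 ≤ L 3 := by
    let q := QuotientGroup.mk' (L 3)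
    let ψ : Q ⧸ L 3 →* Q ⧸ L 3 := QuotientGroup.map _ _ φ (by
      rw [← Subgroup.map_le_iff_le_comap]
      exact (Subgroup.lowerCentralSeries.map φ 3).trans le_rfl)
    have hc : ∀ a b c : Q ⧸ L 3, ⁅⁅a, b⁆, c⁆ ∈ Subgroup.center (Q ⧸ L 3) := by
      intro a b c
      obtain ⟨a, rfl⟩ := QuotientGroup.mk'_surjective (L 3) a
      obtain ⟨b, rfl⟩ := QuotientGroup.mk'_surjective (L 3) b
      obtain ⟨c, rfl⟩ := QuotientGroup.mk'_surjective (L 3) c
      rw [Subgroup.mem_center_iff]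
      intro x
      obtain ⟨x, rfl⟩ := QuotientGroup.mk'_surjective (L 3) x
      rw [← map_commutatorElement, ← map_commutatorElement, eq_comm,
        ← commutatorElement_eq_one_iff_mul_comm, ← map_commutatorElement]
      refine (QuotientGroup.eq_one_iff _).2 ?_
      rw [hstep 2]
      refine Subgroup.commutator_mem_commutator ?_ (Subgroup.mem_top x)
      rw [hstep 1]
      refine Subgroup.commutator_mem_commutator ?_ (Subgroup.mem_top c)
      rw [hstep 0]
      exact Subgroup.commutator_mem_commutator (Subgroup.mem_top a) (Subgroup.mem_top b)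
    have hrel' : ∀ t, t * ψ t * ψ (ψ t) = 1 := by
      intro t
      obtain ⟨t, rfl⟩ := QuotientGroup.mk'_surjective (L 3) t
      show q t * q (φ t) * q (φ (φ t)) = 1
      rw [← map_mul, ← map_mul, hrel, map_one]
    have hall := commutator_central_of_third_central (hQ.to_quotient (L 3)) ψ hrel' hc
    have h1 : (L 1).map q ≤ Subgroup.center (Q ⧸ L 3) := by
      rw [hstep 0, Subgroup.map_commutator, Subgroup.commutator_le]
      intro a _ b _
      rw [Subgroup.mem_center_iff]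
      intro x
      exact (commutatorElement_eq_one_iff_mul_comm.1 (hall a b x)).symm
    have h2 : (L 2).map q = ⊥ := by
      rw [hstep 1, Subgroup.map_commutator, ← le_bot_iff, Subgroup.commutator_le]
      intro a ha b _
      rw [Subgroup.mem_bot, commutatorElement_eq_one_iff_mul_comm]
      exact (Subgroup.mem_center_iff.1 (h1 ha) b).symm
    rwa [Subgroup.map_eq_bot_iff, QuotientGroup.ker_mk'] at h2
  have hle : ∀ k, L 2 ≤ L (2 + k) := by
    intro k
    induction k with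
    | zero => exact le_rfl
    | succ k ih =>
      refine h23.trans ?_
      rw [hstep 2, show 2 + (k + 1) = (2 + k) + 1 by omega, hstep]
      exact Subgroup.commutator_mono ih le_rfl
  rw [← Subgroup.lowerCentralSeries_eq_bot_iff_nilpotencyClass_le, eq_bot_iff]
  refine (hle (Group.nilpotencyClass Q)).trans ((Subgroup.lowerCentralSeries_antitone _
    (Nat.le_add_left _ 2)).trans (le_of_eq Subgroup.lowerCentralSeries_nilpotencyClass))

/-- A symmetric-group action forces an elementary abelian group. -/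
theorem elementary_of_symmetric [Finite Q] (hQ : IsPGroup 2 Q) (φ σ : Q →* Q)
    (hrel : ∀ t, t * φ t * φ (φ t) = 1) (hσ : ∀ t, σ (σ t) = t)
    (hσφ : ∀ t, σ (φ t) = φ (φ (σ t))) (hsq : ∀ t, (t * σ t) ^ 2 = 1) (h4 : ∀ t : Q, t ^ 4 = 1) :
    (∀ s t : Q, s * t = t * s) ∧ ∀ t : Q, t ^ 2 = 1 := by
  obtain ⟨h3, hfx, h2⟩ := order_three_facts φ hrel
  have := hQ.isNilpotent
  have hcen : ∀ s t : Q, ⁅s, t⁆ ∈ Subgroup.center Q := by
    intro s t
    have h := Subgroup.lowerCentralSeries_eq_bot_iff_nilpotencyClass_le.2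
      (nilpotencyClass_le_two hQ φ hrel)
    rw [Subgroup.lowerCentralSeries_succ, Subgroup.top_lowerCentralSeries_one] at h
    rw [Subgroup.mem_center_iff]
    intro x
    have hmem : ⁅⁅s, t⁆, x⁆ ∈ (⊥ : Subgroup Q) := by
      rw [← h, _root_.commutator_def]
      exact Subgroup.commutator_mem_commutator
        (Subgroup.commutator_mem_commutator (Subgroup.mem_top s) (Subgroup.mem_top t))
        (Subgroup.mem_top x)
    exact (commutatorElement_eq_one_iff_mul_comm.1 (Subgroup.mem_bot.1 hmem)).symm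
  have hcm := fun s t x : Q => Subgroup.mem_center_iff.1 (hcen s t) x
  have hl : ∀ a b c : Q, ⁅a * b, c⁆ = ⁅a, c⁆ * ⁅b, c⁆ := fun a b c => by
    rw [comm_left_mul, conj_central (hcen b c)]; exact (hcm b c _).symm
  have hr : ∀ a b c : Q, ⁅a, b * c⁆ = ⁅a, b⁆ * ⁅a, c⁆ := fun a b c => by
    rw [comm_right_mul, conj_central (hcen a c)]
  have hmul2 : ∀ a b : Q, (a * b) ^ 2 = a ^ 2 * b ^ 2 * ⁅b, a⁆ := fun a b => by
    have e : b * a = ⁅b, a⁆ * (a * b) := by simp only [commutatorElement_def]; group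
    calc (a * b) ^ 2 = a * (b * a) * b := by simp only [sq, mul_assoc]
      _ = a * (⁅b, a⁆ * (a * b)) * b := by rw [← e]
      _ = ⁅b, a⁆ * (a * (a * b) * b) := by rw [← mul_assoc a, hcm b a a]; simp only [mul_assoc]
      _ = a ^ 2 * b ^ 2 * ⁅b, a⁆ := by rw [← hcm b a]; simp only [sq, mul_assoc]
  have hc2 : ∀ s t : Q, ⁅s, t⁆ ^ 2 = 1 := by
    intro s t
    have hpow : ∀ (k : ℕ) (a b : Q), ⁅a, b ^ k⁆ = ⁅a, b⁆ ^ k := fun k a b => by
      induction k with
      | zero => simp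
      | succ k ih => rw [pow_succ, hr, ih, pow_succ]
    have hpow' : ∀ (k : ℕ) (a b : Q), ⁅a ^ k, b⁆ = ⁅a, b⁆ ^ k := fun k a b => by
      induction k with
      | zero => simp
      | succ k ih => rw [pow_succ, hl, ih, pow_succ]
    have e := h4 (t * s)
    have hz0 : ∀ x : Q, ⁅⁅s, t⁆, x⁆ = 1 := fun x =>
      commutatorElement_eq_one_iff_mul_comm.2 (hcm s t x).symm
    rw [show 4 = 2 * 2 from rfl, pow_mul, hmul2, hmul2 (t ^ 2 * s ^ 2), hmul2 (t ^ 2), hz0,
      hpow, hpow', ← pow_mul, ← pow_mul, ← pow_mul] at e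
    norm_num [h4] at e
    exact e
  have hσc : ∀ s t : Q, σ ⁅s, t⁆ = ⁅σ s, σ t⁆ := fun s t => map_commutatorElement σ s t
  have hφc : ∀ s t : Q, φ ⁅s, t⁆ = ⁅φ s, φ t⁆ := fun s t => map_commutatorElement φ s t
  have hinv : ∀ z : Q, z ^ 2 = 1 → z⁻¹ = z := fun z hz =>
    inv_eq_of_mul_eq_one_right (by rw [← sq]; exact hz)
  have hslot : ∀ s t : Q, ⁅φ s, t⁆ = ⁅s, φ t⁆ := fun s t => by
    have h0 := hfx (s * t)
    rw [map_mul, hl, hr, hr, hfx, hfx, one_mul, mul_one] at h0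
    rw [eq_inv_of_mul_eq_one_left h0]
    exact (commutatorElement_inv t (φ s)).symm
  have hval : ∀ s t : Q, ⁅s, φ t⁆ = φ (φ ⁅s, t⁆) := fun s t => by
    have h1 : φ ⁅s, t⁆ = (⁅s, t⁆ * ⁅s, φ t⁆)⁻¹ := by
      rw [hφc, hslot, h2, ← hr]
      refine eq_inv_of_mul_eq_one_left ?_
      rw [← hr, inv_mul_cancel, commutatorElement_one_right]
    rw [h2, h1, mul_inv_rev, inv_inv]
    exact (conj_central (hcen s (φ t)) ⁅s, t⁆).symm
  have hmain : ∀ s t : Q, ⁅s, σ t * t⁻¹⁆ = 1 := by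
    have hid : ∀ s t : Q, (⁅s, t⁆ * ⁅s, σ t⁆) * (⁅σ s, t⁆ * σ ⁅s, t⁆) = 1 := by
      intro s t
      have e := hsq (t * s)
      have e1 : t * s * σ (t * s) = (t * σ t) * (s * σ s) * ⁅s, σ t⁆ := by
        rw [map_mul, hcm s (σ t)]
        calc t * s * (σ t * σ s) = t * (⁅s, σ t⁆ * (σ t * s)) * σ s := by
              simp only [commutatorElement_def]; group
          _ = ⁅s, σ t⁆ * (t * σ t * (s * σ s)) := by
              rw [← mul_assoc t ⁅s, σ t⁆, hcm s (σ t) t]; simp only [mul_assoc]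
      rw [e1, hmul2, hmul2, hsq, hsq, one_mul, one_mul, hc2, mul_one,
        commutatorElement_eq_one_iff_mul_comm.2 (hcm s (σ t) _).symm, mul_one] at e
      rw [hl, hr, hr, ← hσc] at e
      exact e
    intro s t
    set u := ⁅s, t⁆ * ⁅s, σ t⁆ with hu
    set w := ⁅σ s, t⁆ * σ ⁅s, t⁆ with hw
    have e1 : u * w = 1 := hid s t
    have e2 := hid (φ s) t
    rw [hslot, hval, hslot, hval, hσφ s, hslot, hslot, hval, hval, h3] at e2
    have e3 : σ (φ (φ ⁅s, t⁆)) = φ (σ ⁅s, t⁆) := by rw [hσφ, hσφ, h3]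
    rw [e3, ← map_mul, ← map_mul, ← map_mul, ← hu, ← hw] at e2
    have hu2 : w = u⁻¹ := eq_inv_of_mul_eq_one_right e1
    rw [hu2, map_inv, mul_inv_eq_one] at e2
    have hu1 : u = 1 := eq_one_of_same_images hQ φ hrel e2
    have e4 : ⁅s, t⁻¹⁆ = ⁅s, t⁆ := by
      rw [← hinv _ (hc2 s t)]
      refine eq_inv_of_mul_eq_one_left ?_
      rw [← hr, inv_mul_cancel, commutatorElement_one_right]
    rw [hr, e4, hcm s t]
    exact hu1
  have hZ : ∀ t, σ t * t⁻¹ ∈ Subgroup.center Q := fun t => Subgroup.mem_center_iff.2 fun x =>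
    commutatorElement_eq_one_iff_mul_comm.1 (hmain x t)
  have hφZ : ∀ z ∈ Subgroup.center Q, φ z ∈ Subgroup.center Q := fun z hz =>
    Subgroup.mem_center_iff.2 fun x => by
      rw [← h3 x, ← map_mul, ← map_mul, Subgroup.mem_center_iff.1 hz]
  have hφt : ∀ t, φ t * t⁻¹ ∈ Subgroup.center Q := by
    intro t
    have e1 := hZ (φ t)
    rw [hσφ] at e1
    have e2 := hφZ _ (hφZ _ (hZ t))
    rw [map_mul, map_mul, map_inv, map_inv] at e2
    have e4 : φ (φ t) * (φ t)⁻¹ ∈ Subgroup.center Q := by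
      have := Subgroup.mul_mem _ (Subgroup.inv_mem _ e2) e1
      simpa [mul_assoc] using this
    have e5 := hφZ _ (hφZ _ e4)
    rw [map_mul, map_mul, map_inv, map_inv, h3, h3] at e5
    exact e5
  have hcentral : ∀ t, t ∈ Subgroup.center Q := by
    intro t
    have e1 := hφt t
    have e2 : φ (φ t) * t⁻¹ ∈ Subgroup.center Q := by
      have := Subgroup.mul_mem _ (hφt (φ t)) e1
      simpa [mul_assoc] using this
    have e3 : t ^ 3 ∈ Subgroup.center Q := by
      have hsum : t * (φ t * t⁻¹ * t) * (φ (φ t) * t⁻¹ * t) = 1 := by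
        simpa [mul_assoc] using hrel t
      have c1 := Subgroup.mem_center_iff.1 e1
      have c2 := Subgroup.mem_center_iff.1 e2
      have e4 : t ^ 3 * ((φ t * t⁻¹) * (φ (φ t) * t⁻¹)) = 1 := by
        generalize φ t * t⁻¹ = A at hsum c1 ⊢
        generalize φ (φ t) * t⁻¹ = B at hsum c2 ⊢
        calc t ^ 3 * (A * B) = t * (t * A) * (t * B) := by
              rw [show t ^ 3 = t * t * t from by simp [pow_succ]]
              simp only [mul_assoc]
              congr 2
              rw [← mul_assoc, c1 t, mul_assoc]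
          _ = 1 := by rw [c1 t, c2 t]; simpa [mul_assoc] using hsum
      rw [eq_inv_of_mul_eq_one_left e4]
      exact Subgroup.inv_mem _ (Subgroup.mul_mem _ e1 e2)
    have : t = (t ^ 3)⁻¹ := eq_inv_of_mul_eq_one_left (by rw [← pow_succ']; exact h4 t)
    rw [this]; exact Subgroup.inv_mem _ e3
  refine ⟨fun s t => Subgroup.mem_center_iff.1 (hcentral t) s, fun t => ?_⟩
  set z := t ^ 2 with hz
  have hzsq : ∀ x : Q, σ (x ^ 2) = x ^ 2 := fun x => by
    have e := hsq x
    rw [hmul2, show ⁅σ x, x⁆ = 1 from commutatorElement_eq_one_iff_mul_comm.2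
      (Subgroup.mem_center_iff.1 (hcentral x) _), mul_one, ← map_pow] at e
    rw [eq_inv_of_mul_eq_one_right e]
    exact hinv _ (by rw [← pow_mul]; exact h4 x)
  have e : φ (φ z) = φ z := by
    calc φ (φ z) = φ (φ (σ z)) := by rw [hzsq]
      _ = σ (φ z) := (hσφ z).symm
      _ = φ z := by rw [hz, map_pow φ t 2, hzsq]
  exact eq_one_of_same_images hQ φ hrel e

end Cfsg.Agent.Lib.Fg6.OrderThreeAut
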