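import Mathlib
import Cfsg.Prelude.Def_HallClasses

/-!
Pronormality of the overgroups of Sylow subgroups and extensions.
-/

set_option linter.unusedSectionVars false

namespace Cfsg.Agent.Lib.Fg6.PronormalOver

variable {G : Type*} [Group G] [Finite G] {p : ℕ}

/-- conjugate subgroup -/
abbrev cj (g : G) (H : Subgroup G) : Subgroup G := H.map (MulAut.conj g).toMonoidHom

/-- all overgroups of Sylow subgroups are pronormal -/
def Over (p : ℕ) (G : Type*) [Group G] : Prop :=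
  ∀ K : Subgroup G, (∃ P : Sylow p G, (P : Subgroup G) ≤ K) → Cfsg.IsPronormal K

theorem mem_cj {g x : G} {H : Subgroup G} : x ∈ cj g H ↔ g⁻¹ * x * g ∈ H := by
  constructor
  · rintro ⟨y, hy, rfl⟩; simpa [mul_assoc] using hy
  · intro h; exact ⟨_, h, by simp [mul_assoc]⟩

theorem cj_cj (a b : G) (H : Subgroup G) : cj a (cj b H) = cj (a * b) H := by
  ext x; simp only [mem_cj]; rw [show b⁻¹ * (a⁻¹ * x * a) * b = (a * b)⁻¹ * x * (a * b) by group]

theorem cj_one (H : Subgroup G) : cj 1 H = H := by ext x; simp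

theorem cj_mono (g : G) {H K : Subgroup G} (h : H ≤ K) : cj g H ≤ cj g K := Subgroup.map_mono h

theorem cj_sup (g : G) (H K : Subgroup G) : cj g (H ⊔ K) = cj g H ⊔ cj g K := Subgroup.map_sup H K _

theorem cj_inf (g : G) (H K : Subgroup G) : cj g (H ⊓ K) = cj g H ⊓ cj g K :=
  Subgroup.map_inf H K _ (MulAut.conj g).injective

theorem mem_normalizer_iff_cj {g : G} {H : Subgroup G} :
    g ∈ Subgroup.normalizer (H : Set G) ↔ cj g H = H := Subgroup.mem_normalizer_iff_map_conj_eq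

theorem cj_eq_self {g : G} {H : Subgroup G} (h : g ∈ H) : cj g H = H :=
  mem_normalizer_iff_cj.1 (Subgroup.le_normalizer h)

theorem cj_normal (g : G) (A : Subgroup G) [A.Normal] : cj g A = A :=
  mem_normalizer_iff_cj.1 (by rw [Subgroup.normalizer_eq_top]; trivial)

theorem card_cj (g : G) (H : Subgroup G) : Nat.card (cj g H) = Nat.card H :=
  Subgroup.card_map_of_injective (MulAut.conj g).injective

theorem coe_smul_sylow (g : G) (P : Sylow p G) :
    ((g • P : Sylow p G) : Subgroup G) = cj g (P : Subgroup G) := rfl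

theorem isPronormal_cj {K : Subgroup G} (h : Cfsg.IsPronormal K) (c : G) :
    Cfsg.IsPronormal (cj c K) := by
  intro g
  obtain ⟨x, hx, he⟩ := h (c⁻¹ * g * c)
  refine ⟨c * x * c⁻¹, ?_, ?_⟩
  · have h1 : c * x * c⁻¹ ∈ cj c (K ⊔ cj (c⁻¹ * g * c) K) :=
      mem_cj.2 (by rw [show c⁻¹ * (c * x * c⁻¹) * c = x by group]; exact hx)
    rw [cj_sup, cj_cj, show c * (c⁻¹ * g * c) = g * c by group, ← cj_cj] at h1
    exact h1
  · change cj g (cj c K) = cj (c * x * c⁻¹) (cj c K)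
    have he' : cj (c⁻¹ * g * c) K = cj x K := he
    rw [cj_cj, cj_cj, show c * x * c⁻¹ * c = c * x by group, ← cj_cj c x, ← he', cj_cj,
      show c * (c⁻¹ * g * c) = g * c by group]

theorem map_cj {H : Type*} [Group H] (f : G →* H) (g : G) (K : Subgroup G) :
    (cj g K).map f = (K.map f).map (MulAut.conj (f g)).toMonoidHom := by
  rw [Subgroup.map_map, Subgroup.map_map]
  congr 1
  ext x
  simp

/-- the image of a pronormal subgroup under a surjection is pronormal -/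
theorem isPronormal_map {H : Type*} [Group H] (f : G →* H) (hf : Function.Surjective f)
    {K : Subgroup G} (h : Cfsg.IsPronormal K) : Cfsg.IsPronormal (K.map f) := by
  intro g
  obtain ⟨g, rfl⟩ := hf g
  obtain ⟨x, hx, he⟩ := h g
  refine ⟨f x, ?_, ?_⟩
  · rw [← map_cj, ← Subgroup.map_sup]; exact ⟨x, hx, rfl⟩
  · rw [← map_cj, ← map_cj]; exact congrArg _ he

theorem isPronormal_subgroupOf {K L : Subgroup G} (hKL : K ≤ L) (h : Cfsg.IsPronormal K) :
    Cfsg.IsPronormal (K.subgroupOf L) := by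
  intro g
  obtain ⟨x, hx, he⟩ := h g
  have hgK : cj (g : G) K ≤ L := by
    intro y hy
    have := mul_mem (mul_mem g.2 (hKL (mem_cj.1 hy))) (inv_mem g.2)
    simpa [mul_assoc] using this
  have e1 : ∀ a : L, ((K.subgroupOf L).map (MulAut.conj a).toMonoidHom).map L.subtype = cj (a : G) K := by
    intro a
    rw [map_cj, Subgroup.map_subgroupOf_eq_of_le hKL]
    rfl
  have e2 : (K.subgroupOf L ⊔ (K.subgroupOf L).map (MulAut.conj g).toMonoidHom).map L.subtype =
      K ⊔ cj (g : G) K := by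
    rw [Subgroup.map_sup, e1, Subgroup.map_subgroupOf_eq_of_le hKL]
  have hxL : x ∈ L := sup_le hKL hgK hx
  refine ⟨⟨x, hxL⟩, ?_, ?_⟩
  · obtain ⟨y, hy, hyx⟩ := (e2.symm ▸ hx : x ∈ (K.subgroupOf L ⊔
      (K.subgroupOf L).map (MulAut.conj g).toMonoidHom).map L.subtype)
    rwa [show (⟨x, hxL⟩ : L) = y from Subtype.ext hyx.symm]
  · refine Subgroup.map_injective L.subtype_injective ?_
    rw [e1, e1]
    exact he

/-- In a group with self-normalising Sylow subgroups their overgroups are self-normalising. -/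
theorem normalizer_eq_of_selfNorm [Fact p.Prime]
    (h : ∀ P : Sylow p G, Subgroup.normalizer ((P : Subgroup G) : Set G) = P) {K : Subgroup G}
    {P : Sylow p G} (hP : (P : Subgroup G) ≤ K) : Subgroup.normalizer (K : Set G) = K := by
  refine le_antisymm (fun g hg => ?_) Subgroup.le_normalizer
  have hgP : ((g • P : Sylow p G) : Subgroup G) ≤ K := by
    rw [coe_smul_sylow, ← mem_normalizer_iff_cj.1 hg]; exact cj_mono g hP
  obtain ⟨k, hk⟩ := MulAction.exists_smul_eq K ((g • P).subtype hgP) (P.subtype hP)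
  rw [Sylow.smul_subtype] at hk
  have h1 : (k : G) • g • P = P := Sylow.subtype_injective hk
  rw [← mul_smul] at h1
  have h1' := Sylow.smul_eq_iff_mem_normalizer.1 h1
  replace h1 : (k : G) * g ∈ (P : Subgroup G) := h P ▸ h1'
  have := mul_mem (inv_mem k.2) (hP h1)
  simpa using this

theorem over_of_selfNorm [Fact p.Prime]
    (h : ∀ P : Sylow p G, Subgroup.normalizer ((P : Subgroup G) : Set G) = P) : Over p G := by
  rintro K ⟨P, hP⟩ g
  set J := K ⊔ cj g K
  have hPJ : (P : Subgroup G) ≤ J := hP.trans le_sup_left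
  have hgPJ : ((g • P : Sylow p G) : Subgroup G) ≤ J := by
    rw [coe_smul_sylow]; exact (cj_mono g hP).trans le_sup_right
  obtain ⟨k, hk⟩ := MulAction.exists_smul_eq J (P.subtype hPJ) ((g • P).subtype hgPJ)
  rw [Sylow.smul_subtype] at hk
  have h1 : (k : G) • P = g • P := Sylow.subtype_injective hk
  have h2 : ((k : G)⁻¹ * g) • P = P := by rw [mul_smul, ← h1, inv_smul_smul]
  replace h2 : (k : G)⁻¹ * g ∈ (P : Subgroup G) := h P ▸ Sylow.smul_eq_iff_mem_normalizer.1 h2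
  refine ⟨k, k.2, ?_⟩
  change cj g K = cj (k : G) K
  conv_rhs => rw [← cj_eq_self (hP h2)]
  rw [cj_cj, mul_inv_cancel_left]

/-- The quotient of the normaliser of `T` inherits the property. -/
theorem over_normalizer_quotient [Fact p.Prime] (h : Over p G) {T : Subgroup G} {P : Sylow p G}
    (hPT : (P : Subgroup G) ≤ Subgroup.normalizer (T : Set G))
    [(T.subgroupOf (Subgroup.normalizer (T : Set G))).Normal] :
    Over p (↥(Subgroup.normalizer (T : Set G)) ⧸ T.subgroupOf (Subgroup.normalizer (T : Set G))) := by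
  rintro K ⟨Q, hQ⟩
  set M := Subgroup.normalizer (T : Set G)
  obtain ⟨R, rfl⟩ := Sylow.mapSurjective_surjective
    (f := QuotientGroup.mk' (T.subgroupOf M)) (QuotientGroup.mk'_surjective _) p Q
  set X := K.comap (QuotientGroup.mk' (T.subgroupOf M)) with hX
  have hRX : (R : Subgroup M) ≤ X := fun r hr => hQ ⟨r, hr, rfl⟩
  obtain ⟨c, hc⟩ := MulAction.exists_smul_eq M (P.subtype hPT) R
  have hcP : (((c : G) • P : Sylow p G) : Subgroup G) ≤ X.map M.subtype := by
    intro y hy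
    rw [coe_smul_sylow, mem_cj] at hy
    have hyM : y ∈ M := by
      have := mul_mem (mul_mem c.2 (hPT hy)) (inv_mem c.2)
      simpa [mul_assoc] using this
    refine ⟨⟨y, hyM⟩, hRX ?_, rfl⟩
    rw [← hc, coe_smul_sylow, mem_cj]
    exact hy
  have := isPronormal_subgroupOf (L := M) (Subgroup.map_subtype_le X) (h _ ⟨_, hcP⟩)
  rw [Subgroup.subgroupOf, Subgroup.comap_map_eq_self_of_injective M.subtype_injective] at this
  have h2 := isPronormal_map _ (QuotientGroup.mk'_surjective (T.subgroupOf M)) this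
  rwa [hX, Subgroup.map_comap_eq_self_of_surjective (QuotientGroup.mk'_surjective _)] at h2

/-- the normalisers of pronormal subgroups cover their normalisers modulo a normal subgroup -/
theorem map_normalizer_eq {K : Subgroup G} (h : Cfsg.IsPronormal K) (A : Subgroup G) [A.Normal] :
    (Subgroup.normalizer (K : Set G)).map (QuotientGroup.mk' A) =
      Subgroup.normalizer ((K.map (QuotientGroup.mk' A) : Subgroup (G ⧸ A)) : Set (G ⧸ A)) := by
  refine le_antisymm (Subgroup.le_normalizer_map _) fun b hb => ?_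
  obtain ⟨g, rfl⟩ := QuotientGroup.mk'_surjective A b
  obtain ⟨x, hx, he⟩ := h g
  have hf : (cj g K).map (QuotientGroup.mk' A) = K.map (QuotientGroup.mk' A) := by
    rw [map_cj]; exact mem_normalizer_iff_cj.1 hb
  have hxK : QuotientGroup.mk' A x ∈ K.map (QuotientGroup.mk' A) := by
    have : QuotientGroup.mk' A x ∈ (K ⊔ cj g K).map (QuotientGroup.mk' A) := ⟨x, hx, rfl⟩
    rwa [Subgroup.map_sup, hf, sup_idem] at this
  obtain ⟨k, hk, hkx⟩ := hxK
  have hn : x⁻¹ * g ∈ Subgroup.normalizer (K : Set G) := by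
    rw [mem_normalizer_iff_cj, ← cj_cj, show cj g K = cj x K from he, cj_cj, inv_mul_cancel, cj_one]
  exact ⟨k * (x⁻¹ * g), mul_mem (Subgroup.le_normalizer hk) hn, by
    rw [map_mul, hkx, ← map_mul, mul_inv_cancel_left]⟩

theorem inf_eq_of_le [Fact p.Prime] {A T : Subgroup G} [A.Normal]
    (hT : ∃ S : Sylow p A, (S : Subgroup A).map A.subtype = T) (P : Sylow p G)
    (hTP : T ≤ (P : Subgroup G)) : (P : Subgroup G) ⊓ A = T := by
  obtain ⟨S, rfl⟩ := hT
  have h1 : (S : Subgroup A) ≤ ((P : Subgroup G) ⊓ A).subgroupOf A := fun s hs =>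
    ⟨hTP ⟨s, hs, rfl⟩, s.2⟩
  have h2 := S.3 ((P.2.to_le inf_le_left).comap_subtype (K := A)) h1
  rw [← h2]
  exact (Subgroup.map_subgroupOf_eq_of_le (inf_le_right : (P : Subgroup G) ⊓ A ≤ A)).symm

theorem exists_mem_normalizer [Fact p.Prime] {A T : Subgroup G}
    (hT : ∃ S : Sylow p A, (S : Subgroup A).map A.subtype = T) {B : Subgroup G} (hBA : B ≤ A)
    (hTB : T ≤ B) {y : G} (hy : cj y T ≤ B) :
    ∃ b ∈ B, b⁻¹ * y ∈ Subgroup.normalizer (T : Set G) := by
  obtain ⟨S, hS⟩ := hT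
  have hTp : IsPGroup p T := by rw [← hS]; exact S.2.map _
  have hSB : (S : Subgroup A) ≤ B.subgroupOf A := fun s hs => hTB (hS ▸ ⟨s, hs, rfl⟩)
  have hyp : IsPGroup p ↥((cj y T).subgroupOf A) := (hTp.map _).comap_subtype
  obtain ⟨R, hR⟩ := (hyp.comap_subtype (K := B.subgroupOf A)).exists_le_sylow
  obtain ⟨b, hb⟩ := MulAction.exists_smul_eq (B.subgroupOf A) (S.subtype hSB) R
  refine ⟨(b : A), b.2, ?_⟩
  rw [mem_normalizer_iff_cj]
  refine Subgroup.eq_of_le_of_card_ge ?_ (by rw [card_cj])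
  intro t ht
  rw [mem_cj] at ht
  set u := y * ((((b : A) : G)⁻¹ * y)⁻¹ * t * (((b : A) : G)⁻¹ * y)) * y⁻¹ with hu
  have hu' : u ∈ cj y T := mem_cj.2 (by
    rw [hu, show ∀ v : G, y⁻¹ * (y * v * y⁻¹) * y = v from fun v => by group]; exact ht)
  have huA : u ∈ A := hBA (hy hu')
  have huR : (⟨⟨u, huA⟩, hy hu'⟩ : B.subgroupOf A) ∈ (R : Subgroup (B.subgroupOf A)) := hR hu'
  rw [← hb, coe_smul_sylow, mem_cj] at huR
  rw [← hS]
  refine ⟨_, huR, ?_⟩
  simp only [hu]
  simp [mul_assoc]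

theorem over_of_extension [Fact p.Prime] {A T : Subgroup G} [A.Normal]
    (hA : Over p A) (hQ : Over p (G ⧸ A))
    (hT : ∃ S : Sylow p A, (S : Subgroup A).map A.subtype = T)
    [(T.subgroupOf (Subgroup.normalizer (T : Set G))).Normal]
    (hN : Over p (↥(Subgroup.normalizer (T : Set G)) ⧸ T.subgroupOf (Subgroup.normalizer (T : Set G))))
    (hmap : ∀ K : Subgroup G, (∃ P : Sylow p G, (P : Subgroup G) ≤ K) →
      (Subgroup.normalizer (K : Set G)).map (QuotientGroup.mk' A) =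
        Subgroup.normalizer ((K.map (QuotientGroup.mk' A) : Subgroup (G ⧸ A)) : Set (G ⧸ A))) :
    Over p G := by
  have hTA : T ≤ A := by obtain ⟨S, rfl⟩ := hT; exact Subgroup.map_subtype_le _
  have hTp : IsPGroup p T := by obtain ⟨S, rfl⟩ := hT; exact S.2.map _
  rintro K₀ ⟨P₀, hP₀⟩
  -- move `K₀` over `T`
  obtain ⟨P, hTP⟩ := hTp.exists_le_sylow
  obtain ⟨c, hc⟩ := MulAction.exists_smul_eq G P₀ P
  suffices hmain : Cfsg.IsPronormal (cj c K₀) by
    have := isPronormal_cj hmain c⁻¹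
    rwa [cj_cj, inv_mul_cancel, cj_one] at this
  have hP : (P : Subgroup G) ≤ cj c K₀ := by
    rw [← hc, coe_smul_sylow]; exact cj_mono c hP₀
  generalize cj c K₀ = K at hP
  have hPA := inf_eq_of_le hT P hTP
  set B := K ⊓ A with hB
  have hTB : T ≤ B := le_inf (hTP.trans hP) hTA
  have hPT : (P : Subgroup G) ≤ Subgroup.normalizer (T : Set G) := fun y hy => by
    rw [mem_normalizer_iff_cj, ← hPA, cj_inf, cj_eq_self hy, cj_normal]
  set M := Subgroup.normalizer (T : Set G) with hM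
  set K₁ := K ⊓ M with hK₁
  -- Frattini
  have hBn : ∀ y ∈ K, cj y B = B := fun y hy => by rw [hB, cj_inf, cj_eq_self hy, cj_normal]
  have hK : K = B ⊔ K₁ := by
    refine le_antisymm (fun y hy => ?_) (sup_le inf_le_left inf_le_left)
    obtain ⟨b, hb, hn⟩ := exists_mem_normalizer hT inf_le_right hTB
      ((cj_mono y hTB).trans (hBn y hy).le)
    rw [← mul_inv_cancel_left b y]
    have hbK : b ∈ K := (inf_le_left : K ⊓ A ≤ K) hb
    exact Subgroup.mul_mem_sup hb
      (Subgroup.mem_inf.2 ⟨mul_mem (inv_mem hbK) hy, hn⟩)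
  intro g
  -- reduce `g` into `A`
  obtain ⟨xb, hxb, hxe⟩ := hQ (K.map (QuotientGroup.mk' A))
    ⟨P.mapSurjective (QuotientGroup.mk'_surjective A), Subgroup.map_mono hP⟩
    (QuotientGroup.mk' A g)
  rw [← map_cj, ← Subgroup.map_sup] at hxb
  obtain ⟨x, hx, rfl⟩ := hxb
  have hy : QuotientGroup.mk' A (x⁻¹ * g) ∈
      Subgroup.normalizer ((K.map (QuotientGroup.mk' A) : Subgroup (G ⧸ A)) : Set (G ⧸ A)) := by
    rw [mem_normalizer_iff_cj]
    change (K.map _).map (MulAut.conj (QuotientGroup.mk' A (x⁻¹ * g))).toMonoidHom = _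
    rw [← map_cj, ← cj_cj, map_cj, map_cj, hxe, ← map_cj, ← map_cj, cj_cj, inv_mul_cancel, cj_one]
  rw [← hmap K ⟨P, hP⟩] at hy
  obtain ⟨n, hn, hnx⟩ := hy
  set a := x⁻¹ * g * n⁻¹ with ha
  have haA : a ∈ A := by
    rw [← QuotientGroup.eq_one_iff (N := A)]
    change QuotientGroup.mk' A (x⁻¹ * g * n⁻¹) = 1
    rw [map_mul, map_inv, hnx, mul_inv_cancel]
  have hga : cj g K = cj x (cj a K) := by
    conv_rhs => rw [cj_cj, ← mem_normalizer_iff_cj.1 hn, cj_cj]
    rw [ha]; congr 1; group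
  set J := K ⊔ cj g K with hJ
  have hKaJ : cj a K ≤ J := by
    have h1 : cj a K = cj x⁻¹ (cj g K) := by rw [hga, cj_cj, inv_mul_cancel, cj_one]
    rw [h1]
    refine (cj_mono _ le_sup_right).trans (cj_eq_self (inv_mem hx)).le
  suffices hgoal : ∃ z ∈ J, cj a K = cj z K by
    obtain ⟨z, hz, hze⟩ := hgoal
    exact ⟨x * z, mul_mem hx hz, by change cj g K = _; rw [hga, hze, cj_cj]⟩
  -- inside `A`
  obtain ⟨S, hS⟩ := id hT
  obtain ⟨z₁, hz₁, hz₁e⟩ := hA (B.subgroupOf A)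
    ⟨S, fun s hs => hTB (hS ▸ ⟨s, hs, rfl⟩)⟩ ⟨a, haA⟩
  have eB : (B.subgroupOf A).map A.subtype = B := Subgroup.map_subgroupOf_eq_of_le inf_le_right
  have hz₁' : (z₁ : G) ∈ B ⊔ cj a B := by
    have h1 : (z₁ : G) ∈ (B.subgroupOf A ⊔
        (B.subgroupOf A).map (MulAut.conj (⟨a, haA⟩ : A)).toMonoidHom).map A.subtype := ⟨z₁, hz₁, rfl⟩
    rw [Subgroup.map_sup, map_cj, eB] at h1
    exact h1
  have hz₁e' : cj a B = cj (z₁ : G) B := by
    have h1 := congrArg (Subgroup.map A.subtype) hz₁e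
    rw [map_cj, map_cj, eB] at h1
    exact h1
  have hz₁J : (z₁ : G) ∈ J :=
    sup_le (inf_le_left.trans le_sup_left) ((cj_mono a inf_le_left).trans hKaJ) hz₁'
  set a₁ := (z₁ : G)⁻¹ * a with ha₁
  have hBa₁ : cj a₁ B = B := by rw [ha₁, ← cj_cj, hz₁e', cj_cj, inv_mul_cancel, cj_one]
  -- into the normaliser of `T`
  obtain ⟨b, hb, hnM⟩ := exists_mem_normalizer hT inf_le_right hTB
    ((cj_mono a₁ hTB).trans hBa₁.le)
  set n₀ := b⁻¹ * a₁ with hn₀
  have hbK : b ∈ K := (inf_le_left : K ⊓ A ≤ K) hb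
  have hBn₀ : cj n₀ B = B := by rw [hn₀, ← cj_cj, hBa₁, cj_eq_self (inv_mem hb)]
  have hae : cj a K = cj ((z₁ : G) * b) (cj n₀ K) := by
    rw [cj_cj]; congr 1; rw [hn₀, ha₁]; group
  have hn₀J : cj n₀ K ≤ J := by
    have h1 : cj n₀ K = cj ((z₁ : G) * b)⁻¹ (cj a K) := by
      rw [hae, cj_cj ((z₁ : G) * b)⁻¹, inv_mul_cancel, cj_one]
    rw [h1]
    exact (cj_mono _ hKaJ).trans (cj_eq_self (inv_mem (mul_mem hz₁J (le_sup_left (b := cj g K) hbK)))).le
  -- the quotient of `N(T)`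
  set f := QuotientGroup.mk' (T.subgroupOf M)
  obtain ⟨zb, hzb, hze⟩ := hN ((K₁.subgroupOf M).map f)
    ⟨(P.subtype hPT).mapSurjective (QuotientGroup.mk'_surjective _),
      Subgroup.map_mono fun y hy => ⟨hP hy, y.2⟩⟩ (f ⟨n₀, hnM⟩)
  rw [← map_cj, ← Subgroup.map_sup] at hzb
  obtain ⟨z₂, hz₂, rfl⟩ := hzb
  rw [← map_cj, ← map_cj] at hze
  have hker : ∀ m : M, f.ker ≤ cj m (K₁.subgroupOf M) := fun m t ht => by
    rw [QuotientGroup.ker_mk'] at ht
    rw [mem_cj, Subgroup.mem_subgroupOf]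
    have ht' : ((m⁻¹ * t * m : M) : G) ∈ T := by
      have h1 : (t : G) ∈ cj (m : G) T := by rw [mem_normalizer_iff_cj.1 m.2]; exact ht
      simpa using mem_cj.1 h1
    exact ⟨hTP.trans hP ht', (m⁻¹ * t * m).2⟩
  have heq : cj (⟨n₀, hnM⟩ : M) (K₁.subgroupOf M) = cj z₂ (K₁.subgroupOf M) := by
    have h1 := congrArg (Subgroup.comap f) hze
    rwa [Subgroup.comap_map_eq_self (hker _), Subgroup.comap_map_eq_self (hker _)] at h1
  have e₁ : ∀ m : M, (cj m (K₁.subgroupOf M)).map M.subtype = cj (m : G) K₁ := fun m => by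
    rw [map_cj, Subgroup.map_subgroupOf_eq_of_le inf_le_right]; rfl
  have heG : cj n₀ K₁ = cj (z₂ : G) K₁ := by
    have h1 := congrArg (Subgroup.map M.subtype) heq
    rwa [e₁, e₁] at h1
  have hz₂' : (z₂ : G) ∈ K₁ ⊔ cj n₀ K₁ := by
    have h1 : (z₂ : G) ∈ (K₁.subgroupOf M ⊔ cj (⟨n₀, hnM⟩ : M) (K₁.subgroupOf M)).map M.subtype :=
      ⟨z₂, hz₂, rfl⟩
    rwa [Subgroup.map_sup, e₁, Subgroup.map_subgroupOf_eq_of_le inf_le_right] at h1
  have hK₁B : K₁ ≤ Subgroup.normalizer (B : Set G) := fun y hy =>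
    mem_normalizer_iff_cj.2 (hBn y hy.1)
  have hBz₂ : cj (z₂ : G) B = B := by
    refine mem_normalizer_iff_cj.1 (sup_le hK₁B (fun y hy => ?_) hz₂')
    rw [mem_normalizer_iff_cj]
    have h1 := mem_normalizer_iff_cj.1 (hK₁B (mem_cj.1 hy))
    rw [← cj_cj, ← cj_cj, hBn₀] at h1
    have h2 := congrArg (cj n₀) h1
    rwa [cj_cj, mul_inv_cancel, cj_one, hBn₀] at h2
  refine ⟨(z₁ : G) * b * z₂, mul_mem (mul_mem hz₁J (le_sup_left (b := cj g K) hbK))
    (sup_le (inf_le_left.trans le_sup_left) ((cj_mono n₀ inf_le_left).trans hn₀J) hz₂'), ?_⟩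
  rw [hae, ← cj_cj _ (z₂ : G)]
  congr 1
  conv_lhs => rw [hK, cj_sup, hBn₀, heG]
  conv_rhs => rw [hK, cj_sup, hBz₂]

end Cfsg.Agent.Lib.Fg6.PronormalOver
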