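import Mathlib
import Cfsg.Agent.Lib.Cores.Schmidt
import Cfsg.Agent.Lib.PGroups.Frattini

/-!
The normal Sylow subgroup of a minimal non-nilpotent group: special, with nondegenerate
commutator forms.
-/

set_option autoImplicit false
set_option linter.style.haveILetI false
set_option linter.unusedSectionVars false

namespace Cfsg.Agent.Lib.Fg6.SchmidtSylow

open Subgroup
open scoped commutatorElement

/-- `Φ` is central with elementary abelian quotient, all forms `P × P → Φ / M` (`M < Φ`) are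
nondegenerate, and in the smallest case for `p = 2, 3` there is no elementary abelian maximal
subgroup. -/
def IsSchmidtType (p : ℕ) {P : Type*} [Group P] (Φ : Subgroup P) : Prop :=
  Φ ≤ center P ∧ (∀ x, x ^ p ∈ Φ) ∧ (∀ x y : P, ⁅x, y⁆ ∈ Φ) ∧
  (∀ M : Subgroup P, M < Φ → ∀ x, (∀ y, ⁅x, y⁆ ∈ M) → x ∈ Φ) ∧
  (p = 2 ∨ p = 3 → Φ ≠ ⊥ → Φ.index = p ^ 2 → ∀ W : Subgroup P, Φ < W → W ≠ ⊤ →
    (∀ w ∈ W, w ^ p = 1) → False)

theorem IsSchmidtType.map {p : ℕ} {P R : Type*} [Group P] [Group R] (e : P ≃* R) {Φ : Subgroup P}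
    (h : IsSchmidtType p Φ) : IsSchmidtType p (Φ.map e.toMonoidHom) := by
  obtain ⟨h1, h2, h3, h4, h5⟩ := h
  have hm : ∀ (x : R) (S : Subgroup P), e.symm x ∈ S ↔ x ∈ S.map e.toMonoidHom := fun x S =>
    (Subgroup.mem_map_equiv).symm
  refine ⟨fun x hx => mem_center_iff.2 fun y => e.symm.injective ?_, fun x => ?_, fun x y => ?_, ?_, ?_⟩
  · rw [map_mul, map_mul, mem_center_iff.1 (h1 ((hm x Φ).2 hx))]
  · rw [← hm, map_pow]; exact h2 _
  · rw [← hm, map_commutatorElement]; exact h3 _ _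
  · intro M hM x hx
    rw [← hm]
    refine h4 (M.comap e.toMonoidHom) ?_ _ fun y => ?_
    · have h6 := hM.le
      refine lt_of_le_of_ne (fun z hz => ?_) fun he => hM.ne ?_
      · obtain ⟨z', hz', he'⟩ := h6 hz
        rwa [← e.injective he']
      · rw [← he, Subgroup.map_comap_eq_self_of_surjective (f := e.toMonoidHom) e.surjective]
    · show e ⁅e.symm x, y⁆ ∈ M
      rw [map_commutatorElement, e.apply_symm_apply]
      exact hx _
  · intro hp hne hidx W hW hWt hpow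
    rw [Subgroup.index_map_of_bijective (f := e.toMonoidHom) e.bijective Φ] at hidx
    refine h5 hp (fun h => hne (by rw [h, Subgroup.map_bot])) hidx (W.comap e.toMonoidHom) ?_ ?_ fun w hw => e.injective ?_
    · refine lt_of_le_of_ne (fun z hz => hW.le ⟨z, hz, rfl⟩) fun he => hW.ne ?_
      rw [he, Subgroup.map_comap_eq_self_of_surjective (f := e.toMonoidHom) e.surjective]
    · intro he
      exact hWt (by rw [← Subgroup.map_comap_eq_self_of_surjective (f := e.toMonoidHom) e.surjective W, he,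
        Subgroup.map_top_of_surjective e.toMonoidHom e.surjective])
    · rw [map_pow, map_one]; exact hpow _ hw

theorem comm_mul_right {G : Type*} [Group G] (a b c : G) :
    ⁅a, b * c⁆ = ⁅a, b⁆ * (b * ⁅a, c⁆ * b⁻¹) := by
  simp only [commutatorElement_def]; group

theorem comm_mul_left {G : Type*} [Group G] (a b c : G) :
    ⁅a * b, c⁆ = (a * ⁅b, c⁆ * a⁻¹) * ⁅a, c⁆ := by
  simp only [commutatorElement_def]; group

variable {X : Type*} [Group X] [Finite X]

/-- The facts about `α ∈ X` and the normal Sylow subgroup `Q` that are used below. -/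
structure Ctx (q : ℕ) (Q : Subgroup X) (α : X) : Prop where
  normal : Q.Normal
  pgroup : IsPGroup q Q
  gen : ∀ S : Subgroup X, Q ≤ S → α ∈ S → S = ⊤
  full : ∀ N : Subgroup X, N.Normal → N ≤ Q → (∀ x ∈ Q, ⁅α, x⁆ ∈ N) → N = Q
  central : ∀ y ∈ (frattini Q).map Q.subtype, ∀ g : X, g * y * g⁻¹ = y
  irr : ∀ N : Subgroup X, N.Normal → N ≤ Q → N = Q ∨ N ≤ (frattini Q).map Q.subtype
  fix : ∀ x ∈ Q, ⁅α, x⁆ ∈ (frattini Q).map Q.subtype → x ∈ (frattini Q).map Q.subtype

section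
variable {q : ℕ} [Fact q.Prime] {Q : Subgroup X} {α : X}

theorem Ctx.normal_of (c : Ctx q Q α) (N : Subgroup X) (hQN : ∀ u ∈ Q, ∀ n ∈ N, u * n * u⁻¹ ∈ N)
    (hαN : ∀ n ∈ N, α * n * α⁻¹ ∈ N) : N.Normal := by
  refine normalizer_eq_top_iff.1 (c.gen _ (fun y hy => ?_) ?_)
  · rw [mem_normalizer_iff]
    exact fun n => ⟨fun hn => hQN y hy n hn, fun hn => by
      simpa [mul_assoc] using hQN y⁻¹ (inv_mem hy) _ hn⟩
  · rw [mem_normalizer_iff_map_conj_eq]
    refine eq_of_le_of_card_ge ?_ (card_map_of_injective (MulAut.conj α).injective).ge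
    rintro _ ⟨n, hn, rfl⟩
    exact hαN n hn

theorem Ctx.mem_map {x : ↥Q} : (x : X) ∈ (frattini Q).map Q.subtype ↔ x ∈ frattini Q :=
  ⟨fun ⟨y, hy, hyx⟩ => by rwa [← Subtype.ext (a1 := y) (a2 := x) hyx], fun h => ⟨x, h, rfl⟩⟩

/-- `Φ` is the commutator subgroup. -/
theorem Ctx.frattini_le (c : Ctx q Q α) (M : Subgroup ↥Q) (hM : ∀ x y : ↥Q, ⁅x, y⁆ ∈ M) :
    frattini Q ≤ M := by
  obtain ⟨hPn, hQP, hXgen, hfull, hZc, hirr, hfix⟩ := id c
  haveI := hPn
  have hnormal := c.normal_of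
  have hQn' : ∀ g, ∀ n ∈ Q, g * n * g⁻¹ ∈ Q := fun g n hn => hPn.conj_mem n hn g
  have hcQ : ∀ x ∈ Q, ⁅α, x⁆ ∈ Q := fun x hx => mul_mem (hQn' α x hx) (inv_mem hx)
  set Φ := frattini ↥Q with hΦ
  have hMn : M.Normal := ⟨fun m hm g => by
    simpa [commutatorElement_def] using mul_mem (hM g m) hm⟩
  set M₀ := M ⊓ Φ with hM₀
  have hM₀' : ∀ x y : ↥(Q : Subgroup X), ⁅x, y⁆ ∈ M₀ := fun x y => ⟨hM x y, PGroups.commutatorElement_mem_frattini hQP x y⟩
  haveI : M₀.Normal := normal_inf_normal _ _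
  letI : CommGroup (↥(Q : Subgroup X) ⧸ M₀) :=
    { (inferInstance : Group (↥(Q : Subgroup X) ⧸ M₀)) with
      mul_comm := fun a b => by
        obtain ⟨x, rfl⟩ := QuotientGroup.mk'_surjective M₀ a
        obtain ⟨y, rfl⟩ := QuotientGroup.mk'_surjective M₀ b
        rw [← commutatorElement_eq_one_iff_mul_comm, ← map_commutatorElement]
        exact (QuotientGroup.eq_one_iff _).2 (hM₀' x y) }
  set φ := (powMonoidHom q).comp (QuotientGroup.mk' M₀) with hφ
  have hφ' : ∀ x, x ∈ φ.ker ↔ x ^ q ∈ M₀ := fun x => by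
    rw [MonoidHom.mem_ker, hφ, MonoidHom.comp_apply, powMonoidHom_apply, ← map_pow]
    exact QuotientGroup.eq_one_iff _
  set N := φ.ker.map (Q : Subgroup X).subtype with hN
  have hNn : N.Normal := by
    refine hnormal N ?_ ?_
    · rintro u hu _ ⟨n, hn, rfl⟩
      exact ⟨⟨u, hu⟩ * n * ⟨u, hu⟩⁻¹, φ.normal_ker.conj_mem n hn _, rfl⟩
    · rintro _ ⟨n, hn, rfl⟩
      refine ⟨⟨α * n * α⁻¹, hQn' α n n.2⟩, (hφ' _).2 ?_, rfl⟩
      convert (hφ' n).1 hn using 1
      refine Subtype.ext ?_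
      rw [SubmonoidClass.coe_pow, conj_pow]
      exact hZc _ ⟨n ^ q, PGroups.pow_mem_frattini hQP n, rfl⟩ α
  have hcα : ∀ x : ↥(Q : Subgroup X), (⟨⁅α, (x : X)⁆, hcQ x x.2⟩ : ↥(Q : Subgroup X)) ∈ φ.ker := by
    intro x
    rw [show (⟨⁅α, (x : X)⁆, hcQ x x.2⟩ : ↥(Q : Subgroup X)) =
      ⟨α * x * α⁻¹, hQn' α x x.2⟩ * x⁻¹ from Subtype.ext (by simp [commutatorElement_def]),
      MonoidHom.mem_ker, map_mul, map_inv, mul_inv_eq_one, hφ]
    simp only [MonoidHom.comp_apply, powMonoidHom_apply, ← map_pow]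
    congr 1
    refine Subtype.ext ?_
    rw [SubmonoidClass.coe_pow, conj_pow]
    exact hZc _ ⟨x ^ q, PGroups.pow_mem_frattini hQP x, rfl⟩ α
  have hNQ := hfull N hNn (map_subtype_le _) fun x hx => ⟨_, hcα ⟨x, hx⟩, rfl⟩
  have hker : ∀ x, x ∈ φ.ker := fun x => by
    obtain ⟨y, hy, hyx⟩ := (hNQ.symm ▸ x.2 : (x : X) ∈ N)
    rwa [← Subtype.ext (a1 := y) (a2 := x) hyx]
  refine le_trans (PGroups.frattini_le_of_pow_commutator (p := q) M₀ (fun x => (hφ' x).1 (hker x)) ?_)
    inf_le_left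
  rw [commutator_def, commutator_le]
  exact fun x _ y _ => hM₀' x y

/-- The forms are nondegenerate. -/
theorem Ctx.nondegenerate (c : Ctx q Q α) :
    ∀ M : Subgroup ↥Q, M < frattini Q → ∀ x : ↥Q, (∀ y : ↥Q, ⁅x, y⁆ ∈ M) → x ∈ frattini Q := by
  obtain ⟨hPn, hQP, hXgen, hfull, hZc, hirr, hfix⟩ := id c
  haveI := hPn
  have hnormal := c.normal_of
  have hder := c.frattini_le
  have hQn' : ∀ g, ∀ n ∈ Q, g * n * g⁻¹ ∈ Q := fun g n hn => hPn.conj_mem n hn g
  have hΦF : ∀ x : ↥Q, x ∈ frattini Q ↔ (x : X) ∈ (frattini Q).map Q.subtype := fun x => Ctx.mem_map.symm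
  intro M hM x hx
  set S : Set X := {y | y ∈ (Q : Subgroup X) ∧ ∀ z (hy : y ∈ (Q : Subgroup X)),
    ⁅(⟨y, hy⟩ : ↥(Q : Subgroup X)), z⁆ ∈ M} with hS
  have hMZ : ∀ m ∈ M, ∀ g : X, g * (m : X) * g⁻¹ = m := fun m hm g => hZc _ ((hΦF m).1 (hM.le hm)) g
  let T : Subgroup X :=
    { carrier := S
      one_mem' := ⟨one_mem _, fun z hy => by
        rw [show (⟨1, hy⟩ : ↥(Q : Subgroup X)) = 1 from rfl, commutatorElement_one_left]; exact one_mem _⟩
      mul_mem' := fun {a b} ha hb => ⟨mul_mem ha.1 hb.1, fun z hy => by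
        rw [show (⟨a * b, hy⟩ : ↥(Q : Subgroup X)) = ⟨a, ha.1⟩ * ⟨b, hb.1⟩ from rfl,
          comm_mul_left]
        refine mul_mem ?_ (ha.2 z ha.1)
        convert hb.2 z hb.1 using 1
        exact Subtype.ext (hMZ _ (hb.2 z hb.1) a)⟩
      inv_mem' := fun {a} ha => ⟨inv_mem ha.1, fun z hy => by
        rw [show (⟨a⁻¹, hy⟩ : ↥(Q : Subgroup X)) = ⟨a, ha.1⟩⁻¹ from rfl]
        have h := inv_mem (ha.2 z ha.1)
        have e : (⁅(⟨a, ha.1⟩ : ↥(Q : Subgroup X))⁻¹, z⁆) =
            (⟨a, ha.1⟩ : ↥(Q : Subgroup X))⁻¹ * ⁅(⟨a, ha.1⟩ : ↥(Q : Subgroup X)), z⁆⁻¹ *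
              (⟨a, ha.1⟩ : ↥(Q : Subgroup X)) := by
          rw [commutatorElement_def, commutatorElement_def]; group
        rw [e]
        convert h using 1
        refine Subtype.ext ?_
        have := hMZ _ h a⁻¹
        rwa [inv_inv] at this⟩ }
  have hTQ : T ≤ Q := fun y hy => hy.1
  have hTn : T.Normal := by
    refine hnormal T (fun u hu n hn => ?_) (fun n hn => ?_)
    · refine ⟨hQn' u n hn.1, fun z hy => ?_⟩
      have e0 : (⟨u * n * u⁻¹, hy⟩ : ↥(Q : Subgroup X)) =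
          MulAut.conj (⟨u, hu⟩ : ↥(Q : Subgroup X)) ⟨n, hn.1⟩ := Subtype.ext rfl
      have e : ⁅(⟨u * n * u⁻¹, hy⟩ : ↥(Q : Subgroup X)), z⁆ = MulAut.conj (⟨u, hu⟩ : ↥(Q : Subgroup X))
          ⁅(⟨n, hn.1⟩ : ↥(Q : Subgroup X)), MulAut.conj (⟨u, hu⟩ : ↥(Q : Subgroup X))⁻¹ z⁆ := by
        rw [map_commutatorElement, ← e0]
        congr 1
        simp [mul_assoc]
      rw [e]
      convert hn.2 (MulAut.conj (⟨u, hu⟩ : ↥(Q : Subgroup X))⁻¹ z) hn.1 using 1
      exact Subtype.ext (hMZ _ (hn.2 _ hn.1) u)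
    · refine ⟨hQn' α n hn.1, fun z hy => ?_⟩
      have hz : α⁻¹ * (z : X) * α ∈ (Q : Subgroup X) := by simpa using hQn' α⁻¹ z z.2
      have h := hn.2 ⟨_, hz⟩ hn.1
      convert h using 1
      refine Subtype.ext (Eq.trans ?_ (hMZ _ h α))
      show ⁅α * n * α⁻¹, (z : X)⁆ = α * ⁅n, α⁻¹ * (z : X) * α⁆ * α⁻¹
      rw [commutatorElement_def, commutatorElement_def]
      group
  rcases hirr T hTn hTQ with h | h
  · refine absurd (hder M fun a b => ?_) hM.not_ge
    exact ((h.symm ▸ a.2 : (a : X) ∈ T)).2 b a.2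
  · exact (hΦF x).2 (h ⟨x.2, fun z _ => hx z⟩)

/-- The smallest case. -/
theorem Ctx.small (c : Ctx q Q α) {r : ℕ} (hr : r.Prime) [Fact r.Prime]
    (hαr : ∀ x ∈ Q, α ^ r * x = x * α ^ r) :
    q = 2 ∨ q = 3 → frattini Q ≠ ⊥ → (frattini Q).index = q ^ 2 → ∀ W : Subgroup ↥Q,
      frattini Q < W → W ≠ ⊤ → (∀ w ∈ W, w ^ q = 1) → False := by
  obtain ⟨hPn, hQP, hXgen, hfull, hZc, hirr, hfix⟩ := id c
  haveI := hPn
  have hnormal := c.normal_of
  have hder := c.frattini_le
  have hΦF : ∀ x : ↥Q, x ∈ frattini Q ↔ (x : X) ∈ (frattini Q).map Q.subtype := fun x => Ctx.mem_map.symm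
  set Φ := frattini ↥Q with hΦ
  set F := Φ.map Q.subtype with hF
  haveI hFn : F.Normal := ConjAct.normal_of_characteristic_of_normal
  intro hp hΦne hidx W hW hWt hpow
  set WX := W.map (Q : Subgroup X).subtype with hWX
  have hWirr : ¬ ∀ n ∈ WX, α * n * α⁻¹ ∈ WX := by
    intro hα
    have hWn : WX.Normal := by
      refine hnormal WX ?_ hα
      rintro u hu _ ⟨n, hn, rfl⟩
      refine ⟨⁅(⟨u, hu⟩ : ↥(Q : Subgroup X)), n⁆ * n,
        mul_mem (hW.le (PGroups.commutatorElement_mem_frattini hQP _ _)) hn, ?_⟩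
      simp [commutatorElement_def]
    rcases hirr WX hWn (map_subtype_le _) with h | h
    · refine hWt (top_le_iff.1 fun z _ => ?_)
      obtain ⟨y, hy, hyz⟩ := (h.symm ▸ z.2 : (z : X) ∈ WX)
      rwa [← Subtype.ext (a1 := y) (a2 := z) hyz]
    · exact hW.not_ge fun z hz => (hΦF z).2 (h ⟨z, hz, rfl⟩)
  -- the action on `P/Φ`
  let E := ↥(Q : Subgroup X) ⧸ Φ
  have hE : Nat.card E = q ^ 2 := hidx
  let cα : ↥(Q : Subgroup X) ≃* ↥(Q : Subgroup X) := MulAut.conjNormal α
  have hcα : ∀ x, ((cα x : ↥(Q : Subgroup X)) : X) = α * x * α⁻¹ := fun x => rfl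
  let σ : E ≃* E := QuotientGroup.congr Φ Φ cα
    (Subgroup.characteristic_iff_map_eq.1 inferInstance cα)
  have hσ : ∀ x : ↥(Q : Subgroup X), σ (x : E) = ((cα x : ↥(Q : Subgroup X)) : E) := fun x => rfl
  have hσfix : ∀ e : E, σ e = e → e = 1 := by
    intro e he
    obtain ⟨x, rfl⟩ := QuotientGroup.mk_surjective e
    rw [hσ, QuotientGroup.eq] at he
    rw [QuotientGroup.eq_one_iff, hΦF]
    refine hfix x x.2 ?_
    have h1 := (hΦF _).1 he
    rw [Subgroup.coe_mul, Subgroup.coe_inv, hcα] at h1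
    have h2 := inv_mem (hFn.conj_mem _ h1 (α * x * α⁻¹))
    simpa [commutatorElement_def, mul_assoc] using h2
  have hσit : ∀ n : ℕ, ∀ x : ↥(Q : Subgroup X),
      ((σ : E → E))^[n] (x : E) = (((cα)^[n] x : ↥(Q : Subgroup X)) : E) := by
    intro n
    induction n with
    | zero => intro x; rfl
    | succ n ih => intro x; rw [Function.iterate_succ_apply, hσ, ih, Function.iterate_succ_apply]
  have hcit : ∀ n : ℕ, ∀ x : ↥(Q : Subgroup X),
      (((cα)^[n] x : ↥(Q : Subgroup X)) : X) = α ^ n * x * (α ^ n)⁻¹ := by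
    intro n
    induction n with
    | zero => intro x; simp
    | succ n ih => intro x; rw [Function.iterate_succ_apply', hcα, ih, pow_succ']; group
  have hσr : ∀ e : E, ((σ : E → E))^[r] e = e := by
    intro e
    obtain ⟨x, rfl⟩ := QuotientGroup.mk_surjective e
    rw [hσit]
    congr 1
    exact Subtype.ext (by rw [hcit, hαr x x.2, mul_inv_cancel_right])
  -- `r` divides `q ^ 2 - 1`
  haveI : Fintype E := Fintype.ofFinite E
  classical
  have hrd : r ∣ q ^ 2 - 1 := by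
    let f : Function.End E := (σ : E → E)
    have hit : ∀ n : ℕ, (f ^ n : Function.End E) = ((σ : E → E))^[n] := by
      intro n
      induction n with
      | zero => rfl
      | succ n ih => rw [pow_succ, ih, Function.iterate_succ]; rfl
    have hperm : f ^ r ^ 1 = 1 := by
      rw [pow_one, hit]
      funext e; exact hσr e
    have h1 := Equiv.Perm.card_fixedPoints_modEq (f := f) hperm
    have h2 : Fintype.card (Function.fixedPoints f) = 1 := by
      rw [Fintype.card_eq_one_iff]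
      exact ⟨⟨1, map_one σ⟩, fun e => Subtype.ext (hσfix e.1 e.2)⟩
    rw [h2, ← Nat.card_eq_fintype_card, hE] at h1
    exact (Nat.modEq_iff_dvd' (Nat.one_le_pow _ _ (Nat.Prime.pos Fact.out))).1 h1.symm
  rcases hp with rfl | rfl
  · -- three conjugates of `W` cover
    have hr3 : r = 3 := (Nat.prime_dvd_prime_iff_eq hr Nat.prime_three).1 (by simpa using hrd)
    subst hr3
    obtain ⟨w, hwW, hwΦ⟩ := Set.not_subset.1 (fun h => hW.not_ge h)
    set e := (w : E) with he
    have he1 : e ≠ 1 := fun h => hwΦ ((QuotientGroup.eq_one_iff w).1 h)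
    have hall : ∀ x : E, x = 1 ∨ x = e ∨ x = σ e ∨ x = σ (σ e) := by
      intro x
      by_contra hx
      simp only [not_or] at hx
      have hne1 : σ e ≠ 1 := fun h => he1 (σ.injective (h.trans (map_one σ).symm))
      have hne2 : σ (σ e) ≠ 1 := fun h => hne1 (σ.injective (h.trans (map_one σ).symm))
      have h01 : σ e ≠ e := fun h => he1 (hσfix e h)
      have h12 : σ (σ e) ≠ σ e := fun h => h01 (σ.injective h)
      have h02 : σ (σ e) ≠ e := fun h => by
        have h3 : σ (σ (σ e)) = e := hσr e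
        rw [h] at h3; exact h01 h3
      have hc : ({1, x, e, σ e, σ (σ e)} : Finset E).card ≤ 4 :=
        (Finset.card_le_univ _).trans_eq (by rw [← Nat.card_eq_fintype_card, hE]; norm_num)
      simp [he1.symm, hne1.symm, hne2.symm, h01.symm, h12.symm, h02.symm, Ne.symm hx.1,
        hx.2.1, hx.2.2.1, hx.2.2.2] at hc
    have hsq : ∀ x : ↥(Q : Subgroup X), x ^ 2 = 1 := by
      have hsame : ∀ z : ↥(Q : Subgroup X), (z : E) = e → z ^ 2 = 1 := fun z hz => hpow z (by
        rw [he, QuotientGroup.eq] at hz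
        simpa using mul_mem hwW (inv_mem (hW.le hz)))
      have hback : ∀ (z : ↥(Q : Subgroup X)), (cα.symm z) ^ 2 = 1 → z ^ 2 = 1 := fun z hz => by
        rw [← cα.apply_symm_apply z, ← map_pow, hz, map_one]
      have hsymm : ∀ (z : ↥(Q : Subgroup X)), σ ((cα.symm z : ↥(Q : Subgroup X)) : E) = (z : E) :=
        fun z => by rw [hσ, cα.apply_symm_apply]
      intro x
      rcases hall x with h | h | h | h
      · exact hpow x (hW.le ((QuotientGroup.eq_one_iff x).1 h))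
      · exact hsame x h
      · exact hback x (hsame _ (σ.injective ((hsymm x).trans h)))
      · exact hback x (hback _ (hsame _ (σ.injective (σ.injective
          ((congrArg σ (hsymm _)).trans ((hsymm x).trans h))))))
    have hcomm : ∀ a b : ↥(Q : Subgroup X), ⁅a, b⁆ ∈ (⊥ : Subgroup ↥(Q : Subgroup X)) := fun a b => by
      have hi : ∀ z : ↥(Q : Subgroup X), z⁻¹ = z := fun z =>
        inv_eq_of_mul_eq_one_left (by rw [← pow_two]; exact hsq z)
      rw [mem_bot, commutatorElement_eq_one_iff_mul_comm, ← hi (a * b), mul_inv_rev, hi, hi]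
    exact hΦne (le_bot_iff.1 (hder ⊥ hcomm))
  · have hr2 : r = 2 := by
      rcases (Nat.Prime.dvd_mul hr).1 (show r ∣ 2 * (2 * 2) by simpa using hrd) with h | h
      · exact (Nat.prime_dvd_prime_iff_eq hr Nat.prime_two).1 h
      · rcases (Nat.Prime.dvd_mul hr).1 h with h | h <;>
          exact (Nat.prime_dvd_prime_iff_eq hr Nat.prime_two).1 h
    subst hr2
    refine hWirr ?_
    rintro _ ⟨n, hn, rfl⟩
    refine ⟨cα n, ?_, rfl⟩
    -- `σ e = e⁻¹`
    have hinv : σ (n : E) = (n : E)⁻¹ := by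
      have h1 : σ ((n : E) * σ (n : E)) = (n : E) * σ (n : E) := by
        rw [map_mul, show σ (σ (n : E)) = n from hσr _]
        obtain ⟨y, hy⟩ := QuotientGroup.mk_surjective (σ (n : E))
        rw [← hy]
        show ((y * n : ↥(Q : Subgroup X)) : E) = ((n * y : ↥(Q : Subgroup X)) : E)
        rw [QuotientGroup.eq]
        have := PGroups.commutatorElement_mem_frattini hQP n⁻¹ y⁻¹
        simpa [commutatorElement_def, mul_assoc] using this
      exact eq_inv_of_mul_eq_one_right (hσfix _ h1)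
    rw [hσ, ← QuotientGroup.mk_inv, QuotientGroup.eq] at hinv
    have h2 := inv_mem (mul_mem (hW.le hinv) hn)
    simpa using h2

end

theorem exists_isSchmidtType {p : ℕ} [Fact p.Prime] (hX : ¬ Group.IsNilpotent X)
    (hmin : ∀ H : Subgroup X, H ≠ ⊤ → Group.IsNilpotent H) (P : Sylow p X)
    (hPn : (P : Subgroup X).Normal) (hP1 : (P : Subgroup X) ≠ ⊥) :
    ∃ Φ : Subgroup ↥(P : Subgroup X), IsSchmidtType p Φ := by
  haveI := hPn
  obtain ⟨r, q, hr, hq, hrq, R, Q, hcyc, hQn, hsup, hnc⟩ :=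
    Cores.Schmidt.structure_of_minimal hX hmin
  haveI := Fact.mk hr
  haveI := Fact.mk hq
  haveI := hQn
  -- `P = Q`
  obtain rfl : q = p := by
    by_contra hne
    have hdisj : ∀ (s : ℕ) [Fact s.Prime] (S : Sylow s X), s ≠ q → Disjoint (S : Subgroup X) Q :=
      fun s _ S h => IsPGroup.disjoint_of_ne s q h _ _ S.isPGroup' Q.isPGroup'
    by_cases hrp : r = p
    · subst hrp
      haveI : Subsingleton (Sylow r X) := (Sylow.unique_of_normal P hPn).instSubsingleton
      obtain rfl : R = P := Subsingleton.elim _ _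
      refine hnc fun x hx => ?_
      rw [mem_centralizer_iff]
      exact fun y hy => ((commute_of_normal_of_disjoint _ _ hPn hQn
        (hdisj r R hrq) x y hx hy).eq).symm
    · obtain ⟨k, hk⟩ := IsPGroup.iff_card.1 R.isPGroup'
      obtain ⟨l, hl⟩ := IsPGroup.iff_card.1 Q.isPGroup'
      obtain ⟨m, hm⟩ := IsPGroup.iff_card.1 P.isPGroup'
      have h1 := Cfsg.Agent.Lib.Cores.card_sup_dvd_mul (R : Subgroup X) (Q : Subgroup X)
      rw [hsup, card_top, hk, hl] at h1
      have hpd : p ∣ Nat.card (P : Subgroup X) :=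
        P.isPGroup'.card_eq_or_dvd.resolve_left fun h => hP1 (card_eq_one.1 h)
      have := (hpd.trans (card_subgroup_dvd_card _)).trans h1
      rcases (Nat.Prime.dvd_mul Fact.out).1 this with h | h
      · exact hrp ((Nat.prime_dvd_prime_iff_eq Fact.out hr).1 (Nat.Prime.dvd_of_dvd_pow Fact.out h)).symm
      · exact hne ((Nat.prime_dvd_prime_iff_eq Fact.out hq).1 (Nat.Prime.dvd_of_dvd_pow Fact.out h)).symm
  haveI : Subsingleton (Sylow q X) := (Sylow.unique_of_normal P hPn).instSubsingleton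
  obtain rfl : Q = P := Subsingleton.elim _ _
  obtain ⟨⟨α, hαR⟩, hgen⟩ := hcyc.exists_generator
  have hRα : (R : Subgroup X) = zpowers α := le_antisymm (fun x hx => by
    obtain ⟨k, hk⟩ := hgen ⟨x, hx⟩
    exact ⟨k, congrArg Subtype.val hk⟩) (zpowers_le.2 hαR)
  have hcop : (Nat.card (R : Subgroup X)).Coprime (Nat.card (Q : Subgroup X)) :=
    IsPGroup.coprime_card_of_ne r q hrq _ _ R.isPGroup' Q.isPGroup'
  have hnc' : ¬ ∀ x ∈ (Q : Subgroup X), α * x = x * α := by
    intro h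
    refine hnc ?_
    rw [hRα, zpowers_le, mem_centralizer_iff]
    exact fun y hy => (h y hy).symm
  -- proper invariant subgroups are centralised
  have hcent : ∀ N : Subgroup X, N ≤ Q → (Q : Subgroup X) ≠ N → N.Normal → ∀ x ∈ N, α * x = x * α := by
    intro N hNQ hne hN x hx
    have hne' : (R : Subgroup X) ⊔ N ≠ ⊤ := by
      intro he
      apply hne
      refine (eq_of_le_of_card_ge hNQ ?_).symm
      have h1 := Cfsg.Agent.Lib.Cores.card_sup_dvd_mul (R : Subgroup X) N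
      rw [he, card_top] at h1
      have h2 := (hcop.mul_dvd_of_dvd_of_dvd (card_subgroup_dvd_card _)
        (card_subgroup_dvd_card _)).trans h1
      exact Nat.le_of_dvd Nat.card_pos (Nat.dvd_of_mul_dvd_mul_left Nat.card_pos h2)
    exact (mem_centralizer_iff.1 (Cores.Schmidt.commute_of_isNilpotent (hmin _ hne') hrq le_sup_left
      le_sup_right R.isPGroup' (Q.isPGroup'.to_le hNQ) hαR) x hx).symm
  set F := (frattini ↥(Q : Subgroup X)).map (Q : Subgroup X).subtype with hF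
  haveI hFn : F.Normal := ConjAct.normal_of_characteristic_of_normal
  have hFQ : F ≤ Q := map_subtype_le _
  have hQP : IsPGroup q ↥(Q : Subgroup X) := Q.isPGroup'
  haveI : Nontrivial ↥(Q : Subgroup X) := (Subgroup.nontrivial_iff_ne_bot _).2 hP1
  have hFne : (Q : Subgroup X) ≠ F := by
    intro he
    have h1 : frattini ↥(Q : Subgroup X) = ⊤ := by
      rw [← Subgroup.comap_map_eq_self_of_injective (Q : Subgroup X).subtype_injective
        (frattini ↥(Q : Subgroup X)), ← hF, ← he]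
      exact Subgroup.subgroupOf_self _
    obtain ⟨M, hM⟩ := (eq_top_or_exists_le_coatom (⊥ : Subgroup ↥(Q : Subgroup X))).resolve_left
      bot_ne_top
    exact hM.1.1 (top_le_iff.1 (h1 ▸ frattini_le_coatom hM.1))
  have hpowF : ∀ x ∈ (Q : Subgroup X), x ^ q ∈ F := fun x hx =>
    ⟨⟨x, hx⟩ ^ q, PGroups.pow_mem_frattini hQP _, rfl⟩
  have hcomF : ∀ x ∈ (Q : Subgroup X), ∀ y ∈ (Q : Subgroup X), ⁅x, y⁆ ∈ F := fun x hx y hy =>
    ⟨⁅(⟨x, hx⟩ : ↥(Q : Subgroup X)), ⟨y, hy⟩⁆, PGroups.commutatorElement_mem_frattini hQP _ _, rfl⟩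
  have hFα := hcent F hFQ hFne hFn
  -- a normal subgroup containing `[α, Q]` and `F` is `Q`
  have hfull : ∀ N : Subgroup X, N.Normal → N ≤ Q →
      (∀ x ∈ (Q : Subgroup X), ⁅α, x⁆ ∈ N) → N = Q := by
    intro N hN hNQ hxN
    by_contra hne
    refine hnc' fun x hx => ?_
    have hNα := hcent N hNQ (Ne.symm hne) hN
    -- `α` stabilises `Q ≥ N ≥ 1`
    have h2 : ∀ n : ℕ, α ^ n * x * (α ^ n)⁻¹ = ⁅α, x⁆ ^ n * x := by
      intro n
      induction n with
      | zero => simp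
      | succ n ih =>
        have hc : α * ⁅α, x⁆ ^ n * α⁻¹ = ⁅α, x⁆ ^ n := by
          rw [hNα _ (pow_mem (hxN x hx) n), mul_inv_cancel_right]
        calc α ^ (n + 1) * x * (α ^ (n + 1))⁻¹ = α * (α ^ n * x * (α ^ n)⁻¹) * α⁻¹ := by
              rw [pow_succ']; group
          _ = (α * ⁅α, x⁆ ^ n * α⁻¹) * (α * x * α⁻¹) := by rw [ih]; group
          _ = ⁅α, x⁆ ^ n * (⁅α, x⁆ * x) := by rw [hc, commutatorElement_def]; group
          _ = ⁅α, x⁆ ^ (n + 1) * x := by rw [pow_succ]; group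
    have h3 := h2 (Nat.card (R : Subgroup X))
    rw [show α ^ Nat.card (R : Subgroup X) = 1 from
      orderOf_dvd_iff_pow_eq_one.1 ((R : Subgroup X).orderOf_dvd_natCard hαR)] at h3
    simp only [one_mul, inv_one, mul_one] at h3
    have h4 : ⁅α, x⁆ = 1 := by
      rw [← orderOf_eq_one_iff]
      exact Nat.eq_one_of_dvd_coprimes hcop (orderOf_dvd_of_pow_eq_one (right_eq_mul.1 h3))
        ((Q : Subgroup X).orderOf_dvd_natCard (hNQ (hxN x hx)))
    exact commutatorElement_eq_one_iff_mul_comm.1 h4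
  have hXgen : ∀ S : Subgroup X, (Q : Subgroup X) ≤ S → α ∈ S → S = ⊤ := fun S h1 h2 =>
    top_le_iff.1 (hsup ▸ sup_le (hRα ▸ zpowers_le.2 h2) h1)
  have hnormal : ∀ N : Subgroup X, (∀ u ∈ (Q : Subgroup X), ∀ n ∈ N, u * n * u⁻¹ ∈ N) →
      (∀ n ∈ N, α * n * α⁻¹ ∈ N) → N.Normal := by
    intro N hQN hαN
    refine normalizer_eq_top_iff.1 (hXgen _ (fun y hy => ?_) ?_)
    · rw [mem_normalizer_iff]
      exact fun n => ⟨fun hn => hQN y hy n hn, fun hn => by
        simpa [mul_assoc] using hQN y⁻¹ (inv_mem hy) _ hn⟩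
    · rw [mem_normalizer_iff_map_conj_eq]
      refine eq_of_le_of_card_ge ?_ (card_map_of_injective (MulAut.conj α).injective).ge
      rintro _ ⟨n, hn, rfl⟩
      exact hαN n hn
  set π := QuotientGroup.mk' F with hπ
  have hπF : ∀ x, π x = 1 ↔ x ∈ F := fun x => QuotientGroup.eq_one_iff x
  have hπQ : ∀ u ∈ (Q : Subgroup X), ∀ n ∈ (Q : Subgroup X), π (u * n * u⁻¹) = π n := fun u hu n hn => by
    rw [show u * n * u⁻¹ = ⁅u, n⁆ * n by rw [commutatorElement_def]; group, map_mul,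
      (hπF _).2 (hcomF u hu n hn), one_mul]
  have hQn' : ∀ g, ∀ n ∈ (Q : Subgroup X), g * n * g⁻¹ ∈ (Q : Subgroup X) := fun g n hn => hPn.conj_mem n hn g
  have hcQ : ∀ x ∈ (Q : Subgroup X), ⁅α, x⁆ ∈ (Q : Subgroup X) := fun x hx =>
    mul_mem (hQn' α x hx) (inv_mem hx)
  -- only trivial fixed points modulo `F`
  have hfix : ∀ x ∈ (Q : Subgroup X), ⁅α, x⁆ ∈ F → x ∈ F := by
    let f : ↥(Q : Subgroup X) →* X ⧸ F :=
      { toFun := fun x => π ⁅α, (x : X)⁆
        map_one' := by simp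
        map_mul' := fun x y => by
          rw [Subgroup.coe_mul, comm_mul_right, map_mul,
            hπQ x x.2 _ (hcQ y y.2)] }
    set N : Subgroup X := (Q : Subgroup X) ⊓ f.range.comap π with hN
    have hNn : N.Normal := by
      refine hnormal N (fun u hu n hn => ?_) (fun n hn => ?_)
      · refine ⟨hQn' u n hn.1, ?_⟩
        show π (u * n * u⁻¹) ∈ f.range
        rw [hπQ u hu n hn.1]; exact hn.2
      · obtain ⟨x, hx⟩ : π n ∈ f.range := hn.2
        refine ⟨hQn' α n hn.1, ⟨⟨α * x * α⁻¹, hQn' α x x.2⟩, ?_⟩⟩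
        change π ⁅α, (x : X)⁆ = π n at hx
        show π ⁅α, α * x * α⁻¹⁆ = π (α * n * α⁻¹)
        rw [map_mul π (α * n), map_mul, ← hx, ← map_mul, ← map_mul]
        congr 1
        rw [commutatorElement_def, commutatorElement_def]
        group
    have hNQ : N = Q := hfull N hNn inf_le_left fun x hx => ⟨hcQ x hx, ⟨⟨x, hx⟩, rfl⟩⟩
    have hrange : f.range = (Q : Subgroup X).map π := by
      refine le_antisymm ?_ ?_
      · rintro _ ⟨x, rfl⟩; exact ⟨_, hcQ x x.2, rfl⟩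
      · rintro _ ⟨x, hx, rfl⟩
        exact ((hNQ.symm ▸ hx : x ∈ N)).2
    have h1 := Subgroup.index_ker f
    rw [hrange, ← Subgroup.relIndex_ker, hπ, QuotientGroup.ker_mk'] at h1
    have h2 : F.subgroupOf Q ≤ f.ker := fun x hx => by
      show π ⁅α, (x : X)⁆ = 1
      rw [hπF, commutatorElement_eq_one_iff_mul_comm.2 (hFα x hx)]
      exact one_mem _
    have h3 : f.ker = F.subgroupOf Q := by
      refine le_antisymm ?_ h2
      have h4 := Subgroup.relIndex_mul_index h2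
      rw [show (F.subgroupOf Q).index = F.relIndex Q from rfl, ← h1] at h4
      rw [← Subgroup.relIndex_eq_one]
      exact Nat.eq_of_mul_eq_mul_right (Nat.pos_of_ne_zero Subgroup.index_ne_zero_of_finite)
        (h4.trans (one_mul _).symm)
    intro x hx hxF
    have : (⟨x, hx⟩ : ↥(Q : Subgroup X)) ∈ f.ker := by
      show π ⁅α, x⁆ = 1
      exact (hπF _).2 hxF
    rw [h3] at this
    exact this
  have hirr : ∀ N : Subgroup X, N.Normal → N ≤ Q → N = Q ∨ N ≤ F := by
    intro N hN hNQ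
    refine or_iff_not_imp_left.2 fun hne x hx => hfix x (hNQ hx) ?_
    rw [commutatorElement_eq_one_iff_mul_comm.2 (hcent N hNQ (Ne.symm hne) hN x hx)]
    exact one_mem _
  -- `F` is central in `X`
  have hFZ : F ≤ center X := by
    haveI : (centralizer (F : Set X)).Normal := normal_centralizer
    have hαC : α ∈ centralizer (F : Set X) := mem_centralizer_iff.2 fun y hy => (hFα y hy).symm
    have hQC : (Q : Subgroup X) ≤ centralizer (F : Set X) := by
      have h := hfull ((Q : Subgroup X) ⊓ centralizer (F : Set X)) (normal_inf_normal _ _) inf_le_left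
        fun x hx => ⟨hcQ x hx, by
          have h1 := (inferInstance : (centralizer (F : Set X)).Normal).conj_mem _ (inv_mem hαC) x
          have h2 := mul_mem hαC h1
          rw [show ⁅α, x⁆ = α * (x * α⁻¹ * x⁻¹) by rw [commutatorElement_def]; group]
          exact h2⟩
      exact h ▸ inf_le_right
    intro y hy
    rw [mem_center_iff]
    intro g
    have : g ∈ centralizer (F : Set X) := by rw [hXgen _ hQC hαC]; trivial
    exact (mem_centralizer_iff.1 this y hy).symm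
  have hZc : ∀ y ∈ F, ∀ g : X, g * y * g⁻¹ = y := fun y hy g => by
    rw [mem_center_iff.1 (hFZ hy) g, mul_inv_cancel_right]
  set Φ := frattini ↥(Q : Subgroup X) with hΦ
  have hΦF : ∀ x : ↥(Q : Subgroup X), x ∈ Φ ↔ (x : X) ∈ F := fun x =>
    ⟨fun h => ⟨x, h, rfl⟩, fun ⟨y, hy, hyx⟩ => by rwa [← Subtype.ext (a1 := y) (a2 := x) hyx]⟩
  have c : Ctx q (Q : Subgroup X) α := ⟨hPn, hQP, hXgen, hfull, hZc, hirr, hfix⟩
  refine ⟨Φ, fun x hx => mem_center_iff.2 fun y => Subtype.ext (mem_center_iff.1 (hFZ ((hΦF x).1 hx)) _),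
    PGroups.pow_mem_frattini hQP, PGroups.commutatorElement_mem_frattini hQP, c.nondegenerate,
    c.small hr ?_⟩
  intro x hx
  have hlt : (zpowers (α ^ r)) ⊔ (Q : Subgroup X) ≠ ⊤ := by
    intro he
    have h1 := Cfsg.Agent.Lib.Cores.card_sup_dvd_mul (zpowers (α ^ r)) (Q : Subgroup X)
    rw [he, card_top] at h1
    have h2 := (hcop.mul_dvd_of_dvd_of_dvd (card_subgroup_dvd_card _)
      (card_subgroup_dvd_card _)).trans h1
    have h3 := Nat.le_of_dvd Nat.card_pos (Nat.dvd_of_mul_dvd_mul_right Nat.card_pos h2)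
    rw [hRα, Nat.card_zpowers, Nat.card_zpowers, orderOf_pow] at h3
    have hα1 : α ≠ 1 := fun h => hnc' fun y _ => by simp [h]
    obtain ⟨k, hk⟩ := IsPGroup.iff_card.1 R.isPGroup'
    rw [hRα, Nat.card_zpowers] at hk
    have hrd : r ∣ orderOf α := by
      rw [hk]; exact dvd_pow_self r fun h => hα1 (orderOf_eq_one_iff.1 (by rw [hk, h, pow_zero]))
    rw [Nat.gcd_eq_right hrd] at h3
    exact absurd h3 (not_le.2 (Nat.div_lt_self (orderOf_pos α) hr.one_lt))
  exact (mem_centralizer_iff.1 (Cores.Schmidt.commute_of_isNilpotent (hmin _ hlt) hrq le_sup_left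
    le_sup_right (R.isPGroup'.to_le (zpowers_le.2 (pow_mem hαR r))) Q.isPGroup'
    (mem_zpowers (α ^ r))) x hx).symm

end Cfsg.Agent.Lib.Fg6.SchmidtSylow
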