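/-
Groups all whose element orders are small: actions of involutions and elements of order three.
-/
import Mathlib.GroupTheory.Sylow
import Mathlib.GroupTheory.FixedPointFree
import Mathlib.GroupTheory.Solvable
import Mathlib.GroupTheory.OrderOfElement
import Mathlib.Tactic.Group
import Mathlib.Tactic.Abel

set_option autoImplicit false
set_option linter.style.haveILetI false

namespace Cfsg.Agent.Lib.Fg6.SmallSpectrum

variable {G : Type*} [Group G] [Finite G]

/-- An involution without fixed points on a subgroup it normalises inverts it. -/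
theorem inverts_of_noFixed {R : Subgroup G} {y : G} (hy : y ^ 2 = 1)
    (hN : ∀ r ∈ R, y * r * y⁻¹ ∈ R) (hfix : ∀ r ∈ R, y * r * y⁻¹ = r → r = 1) :
    (∀ r ∈ R, y * r * y⁻¹ = r⁻¹) ∧ IsMulCommutative R := by
  have hy2 : y * y = 1 := by rw [← sq]; exact hy
  have hyy : y⁻¹ = y := inv_eq_of_mul_eq_one_right hy2
  let φ : R →* R :=
    { toFun := fun r => ⟨y * r * y⁻¹, hN r r.2⟩
      map_one' := by ext; simp
      map_mul' := fun a b => by ext; simp [mul_assoc] }
  have h1 : MonoidHom.FixedPointFree φ := fun r hr =>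
    Subtype.ext (hfix r r.2 (congrArg Subtype.val hr))
  have h2 : Function.Involutive φ := fun r => by
    ext
    show y * (y * (r : G) * y⁻¹) * y⁻¹ = r
    rw [hyy]; simp only [← mul_assoc, hy2, one_mul]; rw [mul_assoc, hy2, mul_one]
  have hinv : ∀ r ∈ R, y * r * y⁻¹ = r⁻¹ := fun r hr =>
    congrArg Subtype.val (congrFun (h1.coe_eq_inv_of_involutive h2) ⟨r, hr⟩)
  refine ⟨hinv, ⟨⟨fun a b => Subtype.ext ?_⟩⟩⟩
  have h3 := hinv _ (R.mul_mem a.2 b.2)
  rw [show y * ((a : G) * b) * y⁻¹ = (y * a * y⁻¹) * (y * b * y⁻¹) by group, hinv a a.2,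
    hinv b b.2, mul_inv_rev] at h3
  show (a : G) * b = b * a
  simpa using congrArg (fun t : G => t⁻¹) h3.symm

/-- Two fixed-point-free commuting operators of order three on an abelian group whose product
and twisted product are fixed-point free too force `3 = 0`. -/
theorem three_nsmul_eq_zero {A : Type*} [AddCommGroup A] (f g : A →+ A)
    (h1 : ∀ a, a + f a + f (f a) = 0) (h2 : ∀ a, a + g a + g (g a) = 0)
    (h3 : ∀ a, a + f (g a) + f (f (g (g a))) = 0)
    (h4 : ∀ a, a + f (f (g a)) + f (g (g a)) = 0) (a : A) : 3 • a = 0 := by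
  have key : 3 • a = (a + f a + f (f a)) + (a + g a + g (g a)) + (a + f (g a) + f (f (g (g a))))
      + (a + f (f (g a)) + f (g (g a))) - (a + f a + f (f a)) - (g a + f (g a) + f (f (g a)))
      - (g (g a) + f (g (g a)) + f (f (g (g a)))) := by abel
  rw [key, h1, h2, h3, h4, h1, h1]
  abel

/-- The norm of an element of order three vanishes on an abelian subgroup it normalises freely. -/
theorem norm_eq_one {T : Subgroup G} [IsMulCommutative T] {x : G} (hx : x ^ 3 = 1)
    (hN : ∀ t ∈ T, x * t * x⁻¹ ∈ T) (hfix : ∀ t ∈ T, x * t * x⁻¹ = t → t = 1) {t : G}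
    (ht : t ∈ T) : t * (x * t * x⁻¹) * (x * (x * t * x⁻¹) * x⁻¹) = 1 := by
  set a := x * t * x⁻¹ with ha
  set b := x * a * x⁻¹ with hb
  have haT : a ∈ T := hN t ht
  have hbT : b ∈ T := hN a haT
  have hc : ∀ u ∈ T, ∀ v ∈ T, u * v = v * u := fun u hu v hv =>
    congrArg Subtype.val (mul_comm' (⟨u, hu⟩ : T) ⟨v, hv⟩)
  have hbt : x * b * x⁻¹ = t := by
    calc x * b * x⁻¹ = x ^ 3 * t * (x ^ 3)⁻¹ := by simp [hb, ha, pow_succ, mul_assoc]
      _ = t := by rw [hx]; simp
  refine hfix _ (T.mul_mem (T.mul_mem ht haT) hbT) ?_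
  rw [show x * (t * a * b) * x⁻¹ = (x * t * x⁻¹) * (x * a * x⁻¹) * (x * b * x⁻¹) by group,
    ← ha, ← hb, hbt, hc _ (T.mul_mem haT hbT) _ ht, ← mul_assoc]

/-- A group of order nine with all nonidentity elements of order three cannot act freely on a
nontrivial elementary abelian 2-group. -/
theorem no_free_nine {T : Subgroup G} [IsMulCommutative T] (h2 : ∀ t ∈ T, t ^ 2 = 1) {x y : G}
    (hxy : Commute x y) (hx : x ^ 3 = 1) (hy : y ^ 3 = 1)
    (hNx : ∀ t ∈ T, x * t * x⁻¹ ∈ T) (hNy : ∀ t ∈ T, y * t * y⁻¹ ∈ T)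
    (hfix : ∀ z : G, z = x ∨ z = y ∨ z = x * y ∨ z = x * x * y →
      ∀ t ∈ T, z * t * z⁻¹ = t → t = 1) : T = ⊥ := by
  rw [Subgroup.eq_bot_iff_forall]
  intro t ht
  open scoped IsMulCommutative in
  let cx : Additive T →+ Additive T :=
    { toFun := fun a => Additive.ofMul ⟨x * (a.toMul : T) * x⁻¹, hNx _ (a.toMul : T).2⟩
      map_zero' := by apply Additive.toMul.injective; ext; simp
      map_add' := fun a b => by apply Additive.toMul.injective; ext; simp [mul_assoc] }
  open scoped IsMulCommutative in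
  let cy : Additive T →+ Additive T :=
    { toFun := fun a => Additive.ofMul ⟨y * (a.toMul : T) * y⁻¹, hNy _ (a.toMul : T).2⟩
      map_zero' := by apply Additive.toMul.injective; ext; simp
      map_add' := fun a b => by apply Additive.toMul.injective; ext; simp [mul_assoc] }
  open scoped IsMulCommutative in
  have key : ∀ z : G, z = x ∨ z = y ∨ z = x * y ∨ z = x * x * y → z ^ 3 = 1 →
      ∀ a : T, (a : G) * (z * a * z⁻¹) * (z * (z * a * z⁻¹) * z⁻¹) = 1 := by
    intro z hz hz3 a
    refine norm_eq_one hz3 (fun u hu => ?_) (hfix z hz) a.2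
    rcases hz with rfl | rfl | rfl | rfl
    · exact hNx u hu
    · exact hNy u hu
    · have := hNx _ (hNy u hu); simpa [mul_assoc] using this
    · have := hNx _ (hNx _ (hNy u hu)); simpa [mul_assoc] using this
  have e3 : (x * y) ^ 3 = 1 := by rw [hxy.mul_pow, hx, hy, one_mul]
  have e4 : (x * x * y) ^ 3 = 1 := by
    rw [(hxy.mul_left hxy).mul_pow, (Commute.refl x).mul_pow, hx, hy, one_mul, one_mul]
  open scoped IsMulCommutative in
  have h := three_nsmul_eq_zero cx cy
    (fun a => by
      apply Additive.toMul.injective; ext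
      simpa [cx, mul_assoc] using key x (Or.inl rfl) hx a.toMul)
    (fun a => by
      apply Additive.toMul.injective; ext
      simpa [cy, mul_assoc] using key y (Or.inr (Or.inl rfl)) hy a.toMul)
    (fun a => by
      apply Additive.toMul.injective; ext
      have h' := key (x * y) (Or.inr (Or.inr (Or.inl rfl))) e3 a.toMul
      have c1 : x * (y * (x * y)) = x * (x * (y * y)) := by
        rw [← mul_assoc y x, ← hxy.eq, mul_assoc]
      have e : x * y * (x * y * (a.toMul : T) * (x * y)⁻¹) * (x * y)⁻¹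
          = x * (x * (y * (y * (a.toMul : T) * y⁻¹) * y⁻¹) * x⁻¹) * x⁻¹ := by
        calc _ = (x * (y * (x * y))) * (a.toMul : T) * (x * (y * (x * y)))⁻¹ := by group
          _ = _ := by rw [c1]; group
      rw [e] at h'
      simpa [cx, cy, mul_assoc] using h')
    (fun a => by
      apply Additive.toMul.injective; ext
      have h' := key (x * x * y) (Or.inr (Or.inr (Or.inr rfl))) e4 a.toMul
      have c1 : x * x * y * (x * x * y) = x * (y * y) := by
        have : x * x * y * (x * x * y) = x ^ 4 * (y * y) := by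
          rw [mul_assoc (x * x) y, ← mul_assoc y (x * x), ← (hxy.mul_left hxy).eq]
          simp [pow_succ, mul_assoc]
        rw [this, pow_succ', hx, mul_one]
      have e : x * x * y * (x * x * y * (a.toMul : T) * (x * x * y)⁻¹) * (x * x * y)⁻¹
          = x * (y * (y * (a.toMul : T) * y⁻¹) * y⁻¹) * x⁻¹ := by
        calc _ = (x * x * y * (x * x * y)) * (a.toMul : T) * (x * x * y * (x * x * y))⁻¹ := by group
          _ = _ := by rw [c1]; group
      rw [e] at h'
      simpa [cx, cy, mul_assoc] using h')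
    (Additive.ofMul (⟨t, ht⟩ : T))
  have h3 : t ^ 3 = 1 := by
    open scoped IsMulCommutative in
    simpa using congrArg (fun a : Additive T => ((a.toMul : T) : G)) h
  calc t = t ^ 3 := by rw [pow_succ, h2 t ht, one_mul]
    _ = 1 := h3

end Cfsg.Agent.Lib.Fg6.SmallSpectrum
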