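import Mathlib
import Cfsg.Agent.Lib.Fg6.SchmidtSylow
import Cfsg.Agent.Lib.Coprime.Generation
import Cfsg.Agent.Lib.PSolvable.FrattiniModule
import Cfsg.Agent.Lib.PSolvable.PLength
import Cfsg.Agent.Lib.PLocal.ActionQuotient
import Cfsg.Agent.Lib.PLocal.SLTwoNormalised

/-!
A `p`-solvable group whose Sylow `p`-subgroup is of Schmidt type has `p`-length at most one.
-/

set_option autoImplicit false
set_option linter.style.haveILetI false
set_option linter.unusedSectionVars false

namespace Cfsg.Agent.Lib.Fg6.SpecialSylowLength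

open Subgroup
open scoped commutatorElement

universe u

variable {G : Type u} [Group G] [Finite G] {p : ℕ} [hp : Fact p.Prime]

/-- `{y ∈ P | [x, y] ∈ M for all x ∈ S}` for central commutators. -/
def perp (P M : Subgroup G) (hM : ∀ g ∈ P, ∀ m ∈ M, g * m * g⁻¹ = m) (S : Set G) : Subgroup G where
  carrier := {y | y ∈ P ∧ ∀ x ∈ S, ⁅x, y⁆ ∈ M}
  one_mem' := ⟨one_mem _, fun x _ => by rw [commutatorElement_one_right]; exact one_mem _⟩
  mul_mem' := fun {a b} ha hb => ⟨mul_mem ha.1 hb.1, fun x hx => by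
    rw [SchmidtSylow.comm_mul_right, hM a ha.1 _ (hb.2 x hx)]
    exact mul_mem (ha.2 x hx) (hb.2 x hx)⟩
  inv_mem' := fun {a} ha => ⟨inv_mem ha.1, fun x hx => by
    have h := inv_mem (ha.2 x hx)
    rw [show ⁅x, a⁻¹⁆ = a⁻¹ * ⁅x, a⁆⁻¹ * (a⁻¹)⁻¹ by
      simp only [commutatorElement_def]; group, hM a⁻¹ (inv_mem ha.1) _ h]
    exact h⟩

theorem mem_perp {P M : Subgroup G} {hM : ∀ g ∈ P, ∀ m ∈ M, g * m * g⁻¹ = m} {S : Set G} {y : G} :
    y ∈ perp P M hM S ↔ y ∈ P ∧ ∀ x ∈ S, ⁅x, y⁆ ∈ M := Iff.rfl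

/-- Isotropic subgroups of a nondegenerate commutator form are small. -/
theorem relIndex_le_of_isotropic {P F W M : Subgroup G} (hFP : F ≤ P) (hFW : F ≤ W) (hWP : W ≤ P)
    (hFZ : ∀ g ∈ P, ∀ y ∈ F, g * y * g⁻¹ = y) (hcom : ∀ x ∈ P, ∀ y ∈ P, ⁅x, y⁆ ∈ F)
    (hnd : ∀ x ∈ P, ∀ M : Subgroup G, M < F → (∀ y ∈ P, ⁅x, y⁆ ∈ M) → x ∈ F)
    (hMF : M < F) (hW : ∀ x ∈ W, ∀ y ∈ W, ⁅x, y⁆ ∈ M) :
    F.relIndex W ≤ W.relIndex P := by
  classical
  -- a maximal such `M`
  obtain ⟨N, ⟨hMN, hNF⟩, hmax⟩ :=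
    (Set.toFinite {N : Subgroup G | M ≤ N ∧ N < F}).exists_maximal ⟨M, le_rfl, hMF⟩
  haveI : IsMulCommutative ↥F := ⟨⟨fun a b => Subtype.ext (by
    show (a : G) * b = b * a
    have h := hFZ b (hFP b.2) a a.2
    conv_lhs => rw [← h]
    rw [inv_mul_cancel_right])⟩⟩
  set N' := N.subgroupOf F with hN'
  haveI : N'.Normal := ⟨fun n hn g => by
    rwa [IsMulCommutative.is_comm.comm g n, mul_inv_cancel_right]⟩
  let Q := ↥F ⧸ N'
  -- the quotient is cyclic
  obtain ⟨z, hzF, hzN⟩ := Set.not_subset.1 hNF.not_ge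
  have hgen : N ⊔ zpowers z = F := by
    refine le_antisymm (sup_le hNF.le (zpowers_le.2 hzF)) ?_
    by_contra h
    have h1 := hmax ⟨hMN.trans le_sup_left, lt_of_le_not_ge (sup_le hNF.le (zpowers_le.2 hzF)) h⟩ le_sup_left
    exact hzN (h1 (mem_sup_right (mem_zpowers z)))
  haveI : IsCyclic Q := by
    refine ⟨⟨((⟨z, hzF⟩ : ↥F) : Q), fun x => ?_⟩⟩
    obtain ⟨⟨y, hy⟩, rfl⟩ := QuotientGroup.mk_surjective x
    haveI : (N.subgroupOf F).Normal := inferInstance
    have hle : N ⊔ zpowers z ≤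
        ((zpowers ((⟨z, hzF⟩ : ↥F) : Q)).comap (QuotientGroup.mk' N')).map F.subtype := by
      refine sup_le (fun n hn => ⟨⟨n, hNF.le hn⟩, ?_, rfl⟩) (zpowers_le.2 ⟨⟨z, hzF⟩, ?_, rfl⟩)
      · show ((⟨n, hNF.le hn⟩ : ↥F) : Q) ∈ zpowers _
        rw [(QuotientGroup.eq_one_iff (N := N') (⟨n, hNF.le hn⟩ : ↥F)).2 hn]
        exact one_mem _
      · exact mem_zpowers _
    obtain ⟨t, ht, hte⟩ := hle (hgen.symm ▸ hy)
    obtain rfl : t = ⟨y, hy⟩ := Subtype.ext hte
    obtain ⟨k, hk⟩ := ht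
    exact ⟨k, hk⟩
  obtain ⟨ι, hι⟩ : ∃ ι : Q →* ℂˣ, Function.Injective ι :=
    ⟨(rootsOfUnity (Nat.card Q) ℂ).subtype.comp (mulEquivOfCyclicCardEq (by
        rw [Complex.card_rootsOfUnity])).toMonoidHom,
      Subtype.val_injective.comp (MulEquiv.injective _)⟩
  set T := perp P N (fun g hg m hm => hFZ g hg m (hNF.le hm)) (W : Set G) with hT
  have hTP : T ≤ P := fun y hy => hy.1
  have hWT : W ≤ T := fun y hy => ⟨hWP hy, fun x hx => hMN (hW x hx y hy)⟩
  haveI : (T.subgroupOf P).Normal := ⟨fun n hn g => by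
    have hn' : (n : G) ∈ T := hn
    show (g : G) * n * (g : G)⁻¹ ∈ T
    refine ⟨mul_mem (mul_mem g.2 hn'.1) (inv_mem g.2), fun x hx => ?_⟩
    have e : (g : G) * n * (g : G)⁻¹ = ⁅(g : G), (n : G)⁆ * n := by
      rw [commutatorElement_def]; group
    have hc := hcom g g.2 n hn'.1
    rw [e, SchmidtSylow.comm_mul_right, hFZ _ (hFP hc) _ (hNF.le (hn'.2 x hx))]
    refine mul_mem ?_ (hn'.2 x hx)
    have : ⁅x, ⁅(g : G), (n : G)⁆⁆ = 1 := by
      rw [commutatorElement_def x, hFZ x (hWP hx) _ hc, mul_inv_cancel]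
    rw [this]; exact one_mem _⟩
  let A := ↥P ⧸ T.subgroupOf P
  have hcomA : ∀ a b : A, a * b = b * a := fun a b => by
    obtain ⟨x, rfl⟩ := QuotientGroup.mk_surjective a
    obtain ⟨y, rfl⟩ := QuotientGroup.mk_surjective b
    rw [← QuotientGroup.mk_mul, ← QuotientGroup.mk_mul, QuotientGroup.eq]
    show ((x : G) * y)⁻¹ * (y * x) ∈ T
    have hc := hcom _ (inv_mem y.2) _ (inv_mem x.2)
    rw [show ((x : G) * y)⁻¹ * (y * x) = ⁅(y : G)⁻¹, (x : G)⁻¹⁆ by
      rw [commutatorElement_def]; group]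
    refine ⟨hFP hc, fun w hw => ?_⟩
    rw [commutatorElement_def w, hFZ w (hWP hw) _ hc, mul_inv_cancel]
    exact one_mem _
  letI : CommGroup A := { (inferInstance : Group A) with mul_comm := hcomA }
  -- `W / F` embeds in the dual of `P / T`
  have hmul : ∀ x ∈ P, ∀ a ∈ P, ∀ b ∈ P, ⁅x, a * b⁆ = ⁅x, a⁆ * ⁅x, b⁆ := fun x hx a ha b hb => by
    rw [SchmidtSylow.comm_mul_right, hFZ a ha _ (hcom x hx b hb)]
  let ψ : ↥W → (↥P →* ℂˣ) := fun x => MonoidHom.mk' (fun y => ι (((⟨⁅(x : G), (y : G)⁆, hcom _ (hWP x.2) _ y.2⟩ : ↥F)) : Q))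
    (fun a b => by
      rw [← map_mul, ← QuotientGroup.mk_mul]
      congr 2
      exact Subtype.ext (hmul x (hWP x.2) a a.2 b b.2))
  have hψT : ∀ x, T.subgroupOf P ≤ (ψ x).ker := fun x y hy => by
    show ι _ = 1
    rw [← map_one ι]; congr 1
    exact (QuotientGroup.eq_one_iff _).2 ((hy : (y : G) ∈ T).2 x x.2)
  let Ψ : ↥W →* (A →* ℂˣ) := MonoidHom.mk' (fun x => QuotientGroup.lift _ (ψ x) (hψT x)) (fun a b => by
    refine MonoidHom.ext fun q => ?_
    obtain ⟨y, rfl⟩ := QuotientGroup.mk_surjective q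
    show ι _ = ι _ * ι _
    rw [← map_mul, ← QuotientGroup.mk_mul]
    congr 2
    refine Subtype.ext ?_
    show ⁅((a * b : ↥W) : G), (y : G)⁆ = ⁅(a : G), (y : G)⁆ * ⁅(b : G), (y : G)⁆
    rw [Subgroup.coe_mul, SchmidtSylow.comm_mul_left, hFZ a (hWP a.2) _ (hcom b (hWP b.2) y y.2)]
    have h := hFZ _ (hFP (hcom a (hWP a.2) y y.2)) _ (hcom b (hWP b.2) y y.2)
    exact (mul_inv_eq_iff_eq_mul.1 h).symm)
  have hker : Ψ.ker ≤ F.subgroupOf W := fun x hx => by
    refine hnd x (hWP x.2) N hNF fun y hy => ?_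
    have h1 : Ψ x (QuotientGroup.mk (⟨y, hy⟩ : ↥P)) = 1 := by rw [MonoidHom.mem_ker.1 hx]; rfl
    have h2 : ι (((⟨⁅(x : G), y⁆, hcom _ (hWP x.2) _ hy⟩ : ↥F)) : Q) = ι 1 := by rw [map_one]; exact h1
    exact (QuotientGroup.eq_one_iff (N := N') (⟨⁅(x : G), y⁆, hcom _ (hWP x.2) _ hy⟩ : ↥F)).1 (hι h2)
  have hdual : Nat.card (A →* ℂˣ) = Nat.card A := CommGroup.card_monoidHom_of_hasEnoughRootsOfUnity A ℂ
  calc F.relIndex W ≤ Ψ.ker.index := Nat.le_of_dvd (Nat.pos_of_ne_zero index_ne_zero_of_finite)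
        (Subgroup.index_dvd_of_le hker)
    _ ≤ Nat.card (A →* ℂˣ) := by
        rw [Subgroup.index_ker]
        exact Nat.card_le_card_of_injective _ Subtype.val_injective
    _ = T.relIndex P := hdual
    _ ≤ W.relIndex P := Nat.le_of_dvd (Nat.pos_of_ne_zero index_ne_zero_of_finite)
        (relIndex_dvd_of_le_left P hWT)

/-- Elements stabilising `V ≥ U ≥ Φ(V)` form a `p`-group. -/
theorem mem_pCore_of_stab (V U D : Subgroup G) [D.Normal] (hVp : IsPGroup p V) (hDV : D ≤ U)
    (hUV : U ≤ V) (hD : (frattini V).map V.subtype = D) (hV : Subgroup.centralizer (V : Set G) ≤ V)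
    [V.Normal] :
    ∀ g : G, (∀ v ∈ V, ⁅g, v⁆ ∈ U) → (∀ u ∈ U, ⁅g, u⁆ ∈ D) → (orderOf g).Coprime p → g = 1 := by
  intro g hgV hgU hco
  set π := QuotientGroup.mk' D
  have hgD : ∀ v ∈ V, ⁅g, v⁆ ∈ D := by
    intro v hv
    set w := ⁅g, v⁆
    have hw : w ∈ U := hgV v hv
    have hfixw : π g * π w = π w * π g := by
      rw [← commutatorElement_eq_one_iff_mul_comm, ← map_commutatorElement]
      exact (QuotientGroup.eq_one_iff _).2 (hgU w hw)
    have h2 : ∀ n : ℕ, π g ^ n * π v * (π g ^ n)⁻¹ = π w ^ n * π v := by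
      intro n
      induction n with
      | zero => simp
      | succ n ih =>
        have hc : π g * π w ^ n * (π g)⁻¹ = π w ^ n := by
          rw [((show Commute (π g) (π w) from hfixw).pow_right n).eq, mul_inv_cancel_right]
        have hgv : π g * π v * (π g)⁻¹ = π w * π v := by
          rw [← map_inv, ← map_mul, ← map_mul, ← map_mul]
          congr 1
          simp [w, commutatorElement_def]
        calc π g ^ (n + 1) * π v * (π g ^ (n + 1))⁻¹
            = π g * (π g ^ n * π v * (π g ^ n)⁻¹) * (π g)⁻¹ := by rw [pow_succ']; group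
          _ = (π g * π w ^ n * (π g)⁻¹) * (π g * π v * (π g)⁻¹) := by rw [ih]; group
          _ = π w ^ (n + 1) * π v := by rw [hc, hgv, pow_succ]; group
    have h3 := h2 (orderOf g)
    rw [← map_pow, pow_orderOf_eq_one, map_one] at h3
    simp only [one_mul, inv_one, mul_one] at h3
    have h4 : π (w ^ orderOf g) = 1 := by rw [map_pow]; exact right_eq_mul.1 h3
    have h5 : (w ^ orderOf g) ∈ D := (QuotientGroup.eq_one_iff _).1 h4
    obtain ⟨k, hk⟩ := hVp ⟨w, hUV hw⟩
    have hwk : w ^ p ^ k = 1 := congrArg Subtype.val hk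
    have h6 : w ∈ D := by
      have hc2 : (orderOf g).Coprime (p ^ k) := hco.pow_right k
      have h7 := Int.gcd_eq_gcd_ab (orderOf g : ℤ) ((p ^ k : ℕ) : ℤ)
      rw [show ((Int.gcd (orderOf g : ℤ) ((p ^ k : ℕ) : ℤ) : ℕ) : ℤ) = 1 by exact_mod_cast hc2] at h7
      rw [← zpow_one w, h7, zpow_add, zpow_mul, zpow_mul, zpow_natCast, zpow_natCast, hwk, one_zpow, mul_one]
      exact zpow_mem h5 _
    exact h6
  have hcent : zpowers g ≤ centralizer (V : Set G) := by
    refine Coprime.le_centralizer_of_frattini (by rw [normalizer_eq_top]; exact le_top) ?_ ?_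
    · obtain ⟨i, hi⟩ := IsPGroup.iff_card.1 (hVp.to_subgroup (frattini ↥V))
      rw [hi, Nat.card_zpowers]
      exact hco.pow_right _
    · intro b hb v hv
      rw [hD]
      obtain ⟨k, rfl⟩ := hb
      show g ^ k * v * (g ^ k)⁻¹ * v⁻¹ ∈ D
      have hc : π g * π v = π v * π g := by
        rw [← commutatorElement_eq_one_iff_mul_comm, ← map_commutatorElement]
        exact (QuotientGroup.eq_one_iff _).2 (hgD v hv)
      refine (QuotientGroup.eq_one_iff _).1 ?_
      show π (g ^ k * v * (g ^ k)⁻¹ * v⁻¹) = 1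
      rw [map_mul, map_mul, map_mul, map_inv, map_inv, map_zpow,
        ((show Commute (π g) (π v) from hc).zpow_left k).eq, mul_inv_cancel_right, mul_inv_cancel]
  have hgV' : g ∈ V := hV (hcent (mem_zpowers g))
  obtain ⟨k, hk⟩ := IsPGroup.iff_card.1 hVp
  exact orderOf_eq_one_iff.1 (Nat.eq_one_of_dvd_coprimes (hco.pow_right k) dvd_rfl
    (hk ▸ V.orderOf_dvd_natCard hgV'))


/-- `{g ∈ N(U) : [g, V] ⊆ U, [g, U] ⊆ D}`. -/
def stab (V U D : Subgroup G) [D.Normal] [V.Normal] : Subgroup G where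
  carrier := {g | g ∈ normalizer (U : Set G) ∧ (∀ v ∈ V, ⁅g, v⁆ ∈ U) ∧ ∀ u ∈ U, ⁅g, u⁆ ∈ D}
  one_mem' := ⟨one_mem _, fun v _ => by rw [commutatorElement_one_left]; exact one_mem _,
    fun u _ => by rw [commutatorElement_one_left]; exact one_mem _⟩
  mul_mem' := fun {a b} ha hb => ⟨mul_mem ha.1 hb.1, fun v hv => by
      rw [SchmidtSylow.comm_mul_left]
      exact mul_mem ((mem_normalizer_iff.1 ha.1 _).1 (hb.2.1 v hv)) (ha.2.1 v hv),
    fun u hu => by
      rw [SchmidtSylow.comm_mul_left]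
      exact mul_mem ((inferInstance : D.Normal).conj_mem _ (hb.2.2 u hu) a) (ha.2.2 u hu)⟩
  inv_mem' := fun {a} ha => by
    have e : ∀ v : G, ⁅a⁻¹, v⁆ = a⁻¹ * ⁅a, v⁆⁻¹ * a⁻¹⁻¹ := fun v => by
      simp only [commutatorElement_def]; group
    refine ⟨inv_mem ha.1, fun v hv => ?_, fun u hu => ?_⟩
    · rw [e]; exact (mem_normalizer_iff.1 (inv_mem ha.1) _).1 (inv_mem (ha.2.1 v hv))
    · rw [e]; exact (inferInstance : D.Normal).conj_mem _ (inv_mem (ha.2.2 u hu)) a⁻¹

theorem conj_mem_stab {V U D : Subgroup G} [D.Normal] [V.Normal] {k b : G}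
    (hk : k ∈ normalizer (U : Set G)) (hb : b ∈ stab V U D) : k * b * k⁻¹ ∈ stab V U D := by
  have e : ∀ v : G, ⁅k * b * k⁻¹, v⁆ = k * ⁅b, k⁻¹ * v * k⁆ * k⁻¹ := fun v => by
    simp only [commutatorElement_def]; group
  refine ⟨mul_mem (mul_mem hk hb.1) (inv_mem hk), fun v hv => ?_, fun u hu => ?_⟩
  · rw [e]
    refine (mem_normalizer_iff.1 hk _).1 (hb.2.1 _ ?_)
    simpa using (inferInstance : V.Normal).conj_mem v hv k⁻¹
  · rw [e]
    refine (inferInstance : D.Normal).conj_mem _ (hb.2.2 _ ?_) k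
    have := (mem_normalizer_iff.1 (inv_mem hk) u).1 hu
    simpa using this

/-- `{v ∈ V : [B, v] ⊆ D}`. -/
def fixMod (V D B : Subgroup G) [D.Normal] : Subgroup G :=
  V ⊓ (centralizer ((B.map (QuotientGroup.mk' D) : Subgroup (G ⧸ D)) : Set (G ⧸ D))).comap
    (QuotientGroup.mk' D)

theorem mem_fixMod {V D B : Subgroup G} [D.Normal] {v : G} :
    v ∈ fixMod V D B ↔ v ∈ V ∧ ∀ b ∈ B, ⁅b, v⁆ ∈ D := by
  simp only [fixMod, mem_inf, mem_comap, mem_centralizer_iff]
  refine and_congr_right fun _ => ⟨fun h b hb => ?_, fun h y hy => ?_⟩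
  · refine (QuotientGroup.eq_one_iff _).1 ?_
    show QuotientGroup.mk' D ⁅b, v⁆ = 1
    rw [map_commutatorElement, commutatorElement_eq_one_iff_mul_comm]
    exact h _ ⟨b, hb, rfl⟩
  · obtain ⟨b, hb, rfl⟩ := hy
    rw [← commutatorElement_eq_one_iff_mul_comm, ← map_commutatorElement]
    exact (QuotientGroup.eq_one_iff _).2 (h b hb)

theorem le_normalizer_of_forall {g : G} {U : Subgroup G} (h : ∀ u ∈ U, g * u * g⁻¹ ∈ U) :
    g ∈ normalizer (U : Set G) := by
  rw [mem_normalizer_iff_map_conj_eq]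
  refine eq_of_le_of_card_ge ?_ (card_map_of_injective (MulAut.conj g).injective).ge
  rintro _ ⟨u, hu, rfl⟩
  exact h u hu

theorem mem_normalizer_fixMod {V D B : Subgroup G} [D.Normal] [V.Normal] {g : G}
    (h : g ∈ normalizer (B : Set G)) : g ∈ normalizer (fixMod V D B : Set G) := by
  refine le_normalizer_of_forall fun v hv => ?_
  rw [mem_fixMod] at hv ⊢
  refine ⟨(inferInstance : V.Normal).conj_mem v hv.1 g, fun b hb => ?_⟩
  rw [show ⁅b, g * v * g⁻¹⁆ = g * ⁅g⁻¹ * b * g, v⁆ * g⁻¹ by simp only [commutatorElement_def]; group]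
  refine (inferInstance : D.Normal).conj_mem _ (hv.2 _ ?_) g
  have := (mem_normalizer_iff.1 (inv_mem h) b).1 hb
  simpa using this

/-- In two dimensions only `p = 2, 3` allow a faithful `p`-solvable group with trivial `p`-core
and order divisible by `p`. -/
theorem eq_two_or_three {H : Type*} [Group H] [Finite H] (hsol : Cfsg.IsPSolvable p H)
    (hO : Cfsg.pCore p H = ⊥) (τ : H →* Matrix (Fin 2) (Fin 2) (ZMod p))
    (hτ : Function.Injective τ) {a : H} (ha : a ^ p = 1) (ha1 : a ≠ 1) : p = 2 ∨ p = 3 := by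
  refine or_iff_not_imp_left.2 fun hp2 => ?_
  let S : Subgroup H :=
    { carrier := {g | (τ g).det = 1}
      one_mem' := by show (τ 1).det = 1; rw [map_one, Matrix.det_one]
      mul_mem' := fun {x y} hx hy => by
        show (τ (x * y)).det = 1
        rw [map_mul, Matrix.det_mul, show (τ x).det = 1 from hx, show (τ y).det = 1 from hy, one_mul]
      inv_mem' := fun {x} hx => by
        show (τ x⁻¹).det = 1
        have h := congrArg (fun m => (τ m).det) (inv_mul_cancel x)
        simp only [map_mul, map_one, Matrix.det_mul, Matrix.det_one,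
          show (τ x).det = 1 from hx, mul_one] at h
        exact h }
  have haS : a ∈ S := by
    show (τ a).det = 1
    have h : (τ a).det ^ p = 1 := by rw [← Matrix.det_pow, ← map_pow, ha, map_one, Matrix.det_one]
    rwa [ZMod.pow_card] at h
  set K := Cfsg.pPrimeCore p H
  set A := zpowers a
  have hAS : A ≤ S := zpowers_le.2 haS
  have hAK : A ≤ normalizer (K : Set H) := by rw [normalizer_eq_top]; exact le_top
  have hKc : (Nat.card K).Coprime p := PSolvable.card_pPrimeCore_coprime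
  have hcop : (Nat.card A).Coprime (Nat.card K) := by
    rw [Nat.card_zpowers, orderOf_eq_prime ha ha1]; exact hKc.symm
  set R := ⁅K, A⁆
  have hRK : R ≤ K := Coprime.commutator_le_of_le_normalizer hAK
  have hRS : R ≤ S := commutator_le.2 fun k _ x hx => by
    show (τ ⁅k, x⁆).det = 1
    rw [commutatorElement_def, map_mul, map_mul, map_mul, Matrix.det_mul, Matrix.det_mul, Matrix.det_mul,
      show (τ x).det = 1 from hAS hx, show (τ x⁻¹).det = 1 from hAS (inv_mem hx), mul_one, mul_one,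
      ← Matrix.det_mul, ← map_mul, mul_inv_cancel, map_one, Matrix.det_one]
  let φ : ↥S →* Matrix.SpecialLinearGroup (Fin 2) (ZMod p) :=
    MonoidHom.mk' (fun x => ⟨τ x, x.2⟩) fun x y => Subtype.ext (map_mul τ (x : H) y)
  have hφ : Function.Injective φ := fun x y h => Subtype.ext (hτ (congrArg Subtype.val h))
  refine PLocal.SLTwoNormalised.p_eq_three (K := ZMod p) hp2 (α := φ ⟨a, haS⟩) ?_ ((R.subgroupOf S).map φ) ?_ ?_ ?_
  · rw [← map_pow, show (⟨a, haS⟩ : ↥S) ^ p = 1 from Subtype.ext ha, map_one]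
  · rw [card_map_of_injective hφ, Nat.card_congr (subgroupOfEquivOfLe hRS).toEquiv]
    exact hKc.coprime_dvd_left (card_dvd_of_le hRK)
  · refine le_normalizer_map φ ⟨⟨a, haS⟩, ?_, rfl⟩
    refine le_normalizer_of_forall fun u hu => ?_
    exact (mem_normalizer_iff.1 (Coprime.right_le_normalizer_commutator K A (mem_zpowers a)) _).1 hu
  · by_contra hcon
    push Not at hcon
    have hRA : ⁅R, A⁆ = ⊥ := by
      rw [commutator_eq_bot_iff_le_centralizer]
      intro x hx
      rw [mem_centralizer_iff]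
      rintro _ ⟨i, rfl⟩
      have h : Commute (⟨a, haS⟩ : ↥S) ⟨x, hRS hx⟩ := hφ (by
        rw [map_mul, map_mul]; exact hcon _ ⟨⟨x, hRS hx⟩, hx, rfl⟩)
      exact congrArg Subtype.val (h.zpow_left i).eq
    have hKA : ⁅K, A⁆ = ⊥ := by
      rw [← Coprime.commutator_commutator_eq hAK hcop (Or.inl (Coprime.isSolvable_zpowers a)), hRA]
    have haC : a ∈ centralizer (K : Set H) := by
      rw [commutator_comm, commutator_eq_bot_iff_le_centralizer] at hKA
      exact hKA (mem_zpowers a)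
    have h1 := K.orderOf_dvd_natCard (PLocal.centralizer_pPrimeCore_le hsol hO haC)
    rw [orderOf_eq_prime ha ha1] at h1
    exact hp.out.ne_one (Nat.eq_one_of_dvd_coprimes hKc h1 dvd_rfl)

set_option maxHeartbeats 1000000 in
/-- A Sylow subgroup of Schmidt type of a `p`-solvable group with `O_{p'} = 1` is normal. -/
theorem sylow_le_pCore (hsol : Cfsg.IsPSolvable p G) (h1 : Cfsg.pPrimeCore p G = ⊥) (P : Sylow p G)
    {Φ : Subgroup ↥(P : Subgroup G)} (hΦ : SchmidtSylow.IsSchmidtType p Φ) :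
    (P : Subgroup G) ≤ Cfsg.pCore p G := by
  obtain ⟨hΦZ, hΦpow, hΦcom, hΦnd, hΦsmall⟩ := hΦ
  set V := Cfsg.pCore p G with hVdef
  have hVp : IsPGroup p V := PSolvable.isPGroup_pCore
  have hVP : V ≤ (P : Subgroup G) := by
    obtain ⟨R, hR⟩ := hVp.exists_le_sylow
    obtain ⟨g, rfl⟩ := MulAction.exists_smul_eq G R P
    intro v hv
    rw [Sylow.coe_subgroup_smul, mem_pointwise_smul_iff_inv_smul_mem]
    refine hR ?_
    rw [MulAut.smul_def, ← map_inv, MulAut.conj_apply]
    exact (inferInstance : V.Normal).conj_mem v hv g⁻¹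
  have hCV : centralizer (V : Set G) ≤ V := PSolvable.centralizer_pCore_le hsol h1
  set F := Φ.map (P : Subgroup G).subtype with hF
  have hFP : F ≤ (P : Subgroup G) := map_subtype_le _
  have hFZ : ∀ g ∈ (P : Subgroup G), ∀ y ∈ F, g * y * g⁻¹ = y := by
    rintro g hg _ ⟨y, hy, rfl⟩
    have h : (⟨g, hg⟩ : ↥(P : Subgroup G)) * y = y * ⟨g, hg⟩ := mem_center_iff.1 (hΦZ hy) _
    have h' : g * (y : G) = y * g := congrArg Subtype.val h
    show g * (y : G) * g⁻¹ = y
    rw [h', mul_inv_cancel_right]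
  have hcom : ∀ x ∈ (P : Subgroup G), ∀ y ∈ (P : Subgroup G), ⁅x, y⁆ ∈ F := fun x hx y hy =>
    ⟨⁅(⟨x, hx⟩ : ↥(P : Subgroup G)), ⟨y, hy⟩⁆, hΦcom _ _, rfl⟩
  have hpow : ∀ x ∈ (P : Subgroup G), x ^ p ∈ F := fun x hx => ⟨⟨x, hx⟩ ^ p, hΦpow _, rfl⟩
  have hnd : ∀ x ∈ (P : Subgroup G), ∀ M : Subgroup G, M < F →
      (∀ y ∈ (P : Subgroup G), ⁅x, y⁆ ∈ M) → x ∈ F := by
    intro x hx M hM h
    refine ⟨⟨x, hx⟩, hΦnd (M.subgroupOf P) (lt_of_le_of_ne ?_ fun he => hM.ne ?_) _ (fun y => h y y.2), rfl⟩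
    · intro z hz
      obtain ⟨w, hw, hwz⟩ := hM.le hz
      rwa [← Subtype.ext (a1 := w) (a2 := z) hwz]
    · rw [hF, ← he, map_subgroupOf_eq_of_le (hM.le.trans hFP)]
  have hFV : F ≤ V := fun y hy => hCV (mem_centralizer_iff.2 fun v hv =>
    mul_inv_eq_iff_eq_mul.1 (hFZ v (hVP hv) y hy))
  have hFcomm : ∀ g ∈ (P : Subgroup G), ∀ y ∈ F, ⁅g, y⁆ = 1 := fun g hg y hy => by
    rw [commutatorElement_def, hFZ g hg y hy, mul_inv_cancel]
  have hPF : ∀ g ∈ (P : Subgroup G), g ∈ normalizer (F : Set G) := fun g hg =>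
    le_normalizer_of_forall fun y hy => (hFZ g hg y hy).symm ▸ hy
  set D := (frattini ↥V).map V.subtype with hD
  haveI hDn : D.Normal := ConjAct.normal_of_characteristic_of_normal
  have hDF : D ≤ F := by
    haveI : (F.subgroupOf V).Normal := ⟨fun n hn g => by
      show (g : G) * n * (g : G)⁻¹ ∈ F
      rw [hFZ g (hVP g.2) n hn]; exact hn⟩
    have h : frattini ↥V ≤ F.subgroupOf V := PGroups.frattini_le_of_pow_commutator (p := p) _
      (fun x => hpow x (hVP x.2))
      (by rw [commutator_def, commutator_le]; exact fun x _ y _ => hcom x (hVP x.2) y (hVP y.2))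
    rintro _ ⟨z, hz, rfl⟩
    exact h hz
  have hDV : D ≤ V := hDF.trans hFV
  have hVD : ∀ x ∈ V, ∀ y ∈ V, ⁅x, y⁆ ∈ D := fun x hx y hy =>
    ⟨⁅(⟨x, hx⟩ : ↥V), ⟨y, hy⟩⁆, PGroups.commutatorElement_mem_frattini hVp _ _, rfl⟩
  set π := QuotientGroup.mk' V with hπ
  have hπV : ∀ x, π x = 1 ↔ x ∈ V := fun x => QuotientGroup.eq_one_iff x
  set Kb := Cfsg.pPrimeCore p (G ⧸ V) with hKb
  have hKc : (Nat.card Kb).Coprime p := PSolvable.card_pPrimeCore_coprime
  have hOq : Cfsg.pCore p (G ⧸ V) = ⊥ := PSolvable.pCore_quotient_eq_bot V rfl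
  have hsq : Cfsg.IsPSolvable p (G ⧸ V) := PSolvable.isPSolvable_quotient hsol V
  have hpel : ∀ y ∈ Kb, ∀ i : ℕ, y ^ p ^ i = 1 → y = 1 := fun y hy i hi =>
    orderOf_eq_one_iff.1 (Nat.eq_one_of_dvd_coprimes (hKc.pow_right i) (Kb.orderOf_dvd_natCard hy)
      (orderOf_dvd_of_pow_eq_one hi))
  have hC : ∀ b ∈ (P : Subgroup G), (∀ k, π k ∈ Kb → ⁅k, b⁆ ∈ V) → b ∈ V := by
    intro b hb h
    refine (hπV b).1 ?_
    obtain ⟨i, hi⟩ := P.isPGroup' ⟨b, hb⟩
    refine hpel _ (PLocal.centralizer_pPrimeCore_le hsq hOq (mem_centralizer_iff.2 fun y hy => ?_)) i ?_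
    · obtain ⟨k, rfl⟩ := QuotientGroup.mk'_surjective V y
      rw [← commutatorElement_eq_one_iff_mul_comm, ← map_commutatorElement]
      exact (hπV _).2 (h k hy)
    · rw [← map_pow, show b ^ p ^ i = 1 from congrArg Subtype.val hi, map_one]
  -- the stabiliser argument
  have hkey : ∀ U : Subgroup G, D ≤ U → U ≤ V → ∀ k, π k ∈ Kb → k ∈ normalizer (U : Set G) →
      ∀ b ∈ stab V U D, ⁅k, b⁆ ∈ V := by
    intro U hDU hUV k hk hkU b hb
    set c := ⁅k, b⁆ with hc
    have hcS : c ∈ stab V U D := mul_mem (conj_mem_stab hkU hb) (inv_mem hb)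
    have hcK : π c ∈ Kb := by
      rw [hc, map_commutatorElement, commutatorElement_def, mul_assoc, mul_assoc, ← mul_assoc (π b)]
      exact mul_mem hk ((inferInstance : Kb.Normal).conj_mem _ (inv_mem hk) _)
    set i := (orderOf c).factorization p
    have h2 : c ^ p ^ i = 1 := by
      have hS2 := pow_mem hcS (p ^ i)
      refine mem_pCore_of_stab (p := p) V U D hVp hDU hUV hD.symm hCV _ hS2.2.1 hS2.2.2 ?_
      rw [orderOf_pow' _ (pow_ne_zero _ hp.out.ne_zero), Nat.gcd_eq_right (Nat.ordProj_dvd _ p)]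
      exact (Nat.coprime_ordCompl hp.out (orderOf_pos c).ne').symm
    refine (hπV c).1 (hpel _ hcK i ?_)
    rw [← map_pow, h2, map_one]
  -- it suffices that `O_{p,p'}(G)` normalises `F`
  by_contra hPV
  apply hPV
  suffices hgoal : ∀ k, π k ∈ Kb → k ∈ normalizer (F : Set G) by
    intro b hb
    refine hC b hb fun k hk => hkey F hDF hFV k hk (hgoal k hk) b
      ⟨hPF b hb, fun v hv => hcom b hb v (hVP hv), fun u hu => by
        rw [hFcomm b hb u hu]; exact one_mem _⟩
  rcases eq_or_lt_of_le hDF with hDeq | hDlt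
  · intro k _
    rw [← hDeq, normalizer_eq_top]; trivial
  by_contra hcon
  have hiso : ∀ W : Subgroup G, F ≤ W → W ≤ (P : Subgroup G) → ∀ M < F,
      (∀ x ∈ W, ∀ y ∈ W, ⁅x, y⁆ ∈ M) → F.relIndex W ≤ W.relIndex (P : Subgroup G) :=
    fun W h3 h4 M hM hW => relIndex_le_of_isotropic hFP h3 h4 hFZ hcom hnd hM hW
  -- `|P : V| ≤ |V : F|`
  have hFF : ∀ B : Subgroup G, V ≤ B → B ≤ (P : Subgroup G) →
      V.relIndex B * Nat.card (fixMod V D B) ≤ Nat.card V := by
    intro B
    induction hn : Nat.card B using Nat.strong_induction_on generalizing B with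
    | _ n ih =>
      intro hVB hBP
      subst hn
      rcases eq_or_lt_of_le hVB with rfl | hlt
      · rw [relIndex_self, one_mul]
        exact Nat.card_le_card_of_injective _ (inclusion_injective (inf_le_left : fixMod V D V ≤ V))
      set Bb := B.map π with hBb
      haveI : IsMulCommutative ↥Bb := ⟨⟨by
        rintro ⟨_, x, hx, rfl⟩ ⟨_, y, hy, rfl⟩
        refine Subtype.ext ?_
        show π x * π y = π y * π x
        rw [← commutatorElement_eq_one_iff_mul_comm, ← map_commutatorElement]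
        exact (hπV _).2 (hFV (hcom x (hBP hx) y (hBP hy)))⟩⟩
      have hBbK : Bb ≤ normalizer (Kb : Set (G ⧸ V)) := by rw [normalizer_eq_top]; exact le_top
      have hBbp : IsPGroup p Bb := (P.isPGroup'.to_le hBP).map π
      have hcop : (Nat.card Bb).Coprime (Nat.card Kb) := by
        obtain ⟨i, hi⟩ := IsPGroup.iff_card.1 hBbp
        rw [hi]; exact (hKc.pow_right i).symm
      obtain ⟨B₁, hB₁, ab, hab, hsup, k, hk, hk1, b, hb, hkb⟩ : ∃ B₁ ≤ Bb, ∃ ab ∈ Bb,
          B₁ ⊔ zpowers ab = Bb ∧ ∃ k, π k ∈ Kb ∧ π k ∈ centralizer (B₁ : Set (G ⧸ V)) ∧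
            ∃ b ∈ B, ⁅k, b⁆ ∉ V := by
        by_contra hno
        push Not at hno
        refine hlt.not_ge fun b hb => hC b (hBP hb) fun k hk => ?_
        have hle : Kb ≤ centralizer {π b} := by
          rw [← Coprime.iSup_centralizer_cyclic_quotient_eq hBbK hcop]
          refine iSup₂_le fun B₁ hB₁ => ?_
          obtain ⟨hle1, ab, hab, hsup⟩ := hB₁
          intro y hy
          obtain ⟨k', rfl⟩ := QuotientGroup.mk'_surjective V y
          have h5 := hno B₁ hle1 ab hab hsup k' hy.1 hy.2 b hb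
          rw [mem_centralizer_singleton_iff, ← commutatorElement_eq_one_iff_mul_comm, ← map_commutatorElement]
          exact (hπV _).2 h5
        refine (hπV _).1 ?_
        rw [map_commutatorElement, commutatorElement_eq_one_iff_mul_comm]
        exact mem_centralizer_singleton_iff.1 (hle hk)
      set B' := B₁.comap π with hB'
      have hVB' : V ≤ B' := fun v hv => by
        show π v ∈ B₁
        rw [(hπV v).2 hv]; exact one_mem _
      have hB'B : B' ≤ B := by
        refine (comap_mono hB₁).trans ?_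
        rw [hBb, comap_map_eq_self (by rw [hπ, QuotientGroup.ker_mk']; exact hVB)]
      have hne : B' ≠ B := by
        intro he
        apply hkb
        refine (hπV _).1 ?_
        rw [map_commutatorElement, commutatorElement_eq_one_iff_mul_comm]
        have hbB : π b ∈ B₁ := (show b ∈ B' by rw [he]; exact hb)
        exact (mem_centralizer_iff.1 hk1 _ hbB).symm
      have hltc : Nat.card B' < Nat.card B := by
        by_contra hge
        exact hne (eq_of_le_of_card_ge hB'B (not_lt.1 hge))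
      have hih := ih _ hltc B' rfl hVB' (hB'B.trans hBP)
      -- indices
      have hmapB' : B'.map π = B₁ := map_comap_eq_self_of_surjective (QuotientGroup.mk'_surjective V) B₁
      have hrel : ∀ C : Subgroup G, V.relIndex C = Nat.card (C.map π) := fun C => by
        rw [← relIndex_ker, hπ, QuotientGroup.ker_mk']
      have hindex : V.relIndex B ≤ V.relIndex B' * p := by
        rw [hrel, hrel, hmapB', ← hBb]
        obtain ⟨x, hx, hxab⟩ := hab
        have hap : ab ^ p = 1 := by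
          rw [← hxab, ← map_pow]; exact (hπV _).2 (hFV (hpow x (hBP hx)))
        haveI : (B₁.subgroupOf Bb).Normal := ⟨fun m hm g => by
          rwa [IsMulCommutative.is_comm.comm g m, mul_inv_cancel_right]⟩
        have habB : ab ∈ Bb := ⟨x, hx, hxab⟩
        have hs : zpowers (⟨ab, habB⟩ : ↥Bb) ⊔ B₁.subgroupOf Bb = ⊤ := by
          refine map_injective Bb.subtype_injective ?_
          rw [Subgroup.map_sup, MonoidHom.map_zpowers, map_subgroupOf_eq_of_le hB₁,
            ← MonoidHom.range_eq_map, range_subtype, sup_comm]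
          exact hsup
        have h5 := Cores.card_sup_dvd_mul (zpowers (⟨ab, habB⟩ : ↥Bb)) (B₁.subgroupOf Bb)
        rw [hs, card_top, Nat.card_congr (subgroupOfEquivOfLe hB₁).toEquiv, Nat.card_zpowers,
          orderOf_mk, mul_comm] at h5
        exact Nat.le_of_dvd (Nat.mul_pos Nat.card_pos hp.out.pos)
          (h5.trans (Nat.mul_dvd_mul_left _ (orderOf_dvd_of_pow_eq_one hap)))
      -- the fixed points drop
      have hfle : fixMod V D B ≤ fixMod V D B' := fun v hv => by
        rw [mem_fixMod] at hv ⊢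
        exact ⟨hv.1, fun y hy => hv.2 y (hB'B hy)⟩
      have hfne : fixMod V D B ≠ fixMod V D B' := by
        intro he
        apply hkb
        refine hkey (fixMod V D B) ?_ inf_le_left k hk ?_ b ⟨?_, ?_, ?_⟩
        · intro d hd
          exact mem_fixMod.2 ⟨hDV hd, fun y _ => mul_mem (hDn.conj_mem d hd y) (inv_mem hd)⟩
        · rw [he]
          refine mem_normalizer_fixMod (le_normalizer_of_forall fun y hy => ?_)
          show π (k * y * k⁻¹) ∈ B₁
          rw [map_mul, map_mul, map_inv, ← mem_centralizer_iff.1 hk1 _ hy, mul_inv_cancel_right]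
          exact hy
        · exact mem_normalizer_fixMod (le_normalizer hb)
        · intro v hv
          exact mem_fixMod.2 ⟨hFV (hcom b (hBP hb) v (hVP hv)), fun y hy => by
            rw [hFcomm y (hBP hy) _ (hcom b (hBP hb) v (hVP hv))]; exact one_mem _⟩
        · exact fun u hu => (mem_fixMod.1 hu).2 b hb
      have hdrop : p * Nat.card (fixMod V D B) ≤ Nat.card (fixMod V D B') := by
        have h6 := relIndex_mul_relIndex ⊥ _ _ bot_le hfle
        rw [relIndex_bot_left, relIndex_bot_left] at h6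
        obtain ⟨i, hi⟩ := (IsPGroup.iff_card.1 (hVp.to_le (inf_le_left : fixMod V D B' ≤ V)))
        have h7 : (fixMod V D B).relIndex (fixMod V D B') ∣ p ^ i := hi ▸ Dvd.intro_left _ h6
        obtain ⟨j, -, hj⟩ := (Nat.dvd_prime_pow hp.out).1 h7
        rw [hj] at h6
        rcases j with _ | j
        · exact absurd (relIndex_eq_one.1 (by rw [hj, pow_zero])) fun h => hfne (le_antisymm hfle h)
        · rw [← h6, mul_comm p]
          exact Nat.mul_le_mul_left _ (Nat.le_self_pow (by omega) p)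
      calc V.relIndex B * Nat.card (fixMod V D B)
          ≤ V.relIndex B' * p * Nat.card (fixMod V D B) := Nat.mul_le_mul_right _ hindex
        _ ≤ V.relIndex B' * Nat.card (fixMod V D B') := by
            rw [mul_assoc]; exact Nat.mul_le_mul_left _ hdrop
        _ ≤ _ := hih
  have hVPle : V.relIndex (P : Subgroup G) ≤ F.relIndex V := by
    have h5 := hFF P hVP le_rfl
    have hle : F ≤ fixMod V D (P : Subgroup G) := fun y hy => mem_fixMod.2 ⟨hFV hy, fun g hg => by
      rw [hFcomm g hg y hy]; exact one_mem _⟩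
    have h6 := relIndex_mul_relIndex ⊥ F V bot_le hFV
    rw [relIndex_bot_left, relIndex_bot_left] at h6
    refine Nat.le_of_mul_le_mul_left ?_ (Nat.card_pos (α := F))
    rw [h6, mul_comm]
    exact le_trans (Nat.mul_le_mul_left _ (Nat.le_of_dvd Nat.card_pos (card_dvd_of_le hle))) h5
  -- `V ⊔ ⟨a⟩` is not isotropic
  have hnoiso : ∀ a ∈ (P : Subgroup G), a ∉ V → ∀ M < F, (∀ x ∈ V, ∀ y ∈ V, ⁅x, y⁆ ∈ M) →
      (∀ v ∈ V, ⁅a, v⁆ ∈ M) → False := by
    intro a haP haV M hMF hVM haM
    set B := V ⊔ zpowers a with hB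
    have hBP : B ≤ (P : Subgroup G) := sup_le hVP (zpowers_le.2 haP)
    have hMz : ∀ g ∈ (P : Subgroup G), ∀ m ∈ M, g * m * g⁻¹ = m := fun g hg m hm => hFZ g hg m (hMF.le hm)
    have hswap : ∀ x y : G, ⁅x, y⁆ ∈ M → ⁅y, x⁆ ∈ M := fun x y h => commutatorElement_inv x y ▸ inv_mem h
    have haa : ∀ y ∈ B, ⁅a, y⁆ ∈ M := by
      have : B ≤ perp (P : Subgroup G) M hMz {a} := sup_le
        (fun v hv => ⟨hVP hv, fun x hx => by rw [Set.mem_singleton_iff.1 hx]; exact haM v hv⟩)
        (zpowers_le.2 ⟨haP, fun x hx => by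
          rw [Set.mem_singleton_iff.1 hx, commutatorElement_self]; exact one_mem _⟩)
      exact fun y hy => (this hy).2 a rfl
    have hVy : ∀ v ∈ V, ∀ y ∈ B, ⁅v, y⁆ ∈ M := by
      intro v hv
      have : B ≤ perp (P : Subgroup G) M hMz {v} := sup_le
        (fun w hw => ⟨hVP hw, fun x hx => by rw [Set.mem_singleton_iff.1 hx]; exact hVM v hv w hw⟩)
        (zpowers_le.2 ⟨haP, fun x hx => by
          rw [Set.mem_singleton_iff.1 hx]; exact hswap _ _ (haM v hv)⟩)
      exact fun y hy => (this hy).2 v rfl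
    have hW : ∀ x ∈ B, ∀ y ∈ B, ⁅x, y⁆ ∈ M := by
      intro x hx
      have : B ≤ perp (P : Subgroup G) M hMz {x} := sup_le
        (fun w hw => ⟨hVP hw, fun z hz => by rw [Set.mem_singleton_iff.1 hz]; exact hswap _ _ (hVy w hw x hx)⟩)
        (zpowers_le.2 ⟨haP, fun z hz => by
          rw [Set.mem_singleton_iff.1 hz]; exact hswap _ _ (haa x hx)⟩)
      exact fun y hy => (this hy).2 x rfl
    have h5 := hiso B (hFV.trans le_sup_left) hBP M hMF hW
    have h6 := relIndex_mul_relIndex F V B hFV le_sup_left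
    have h7 := relIndex_mul_relIndex V B P le_sup_left hBP
    have h8 : V.relIndex B ≠ 1 := fun h =>
      haV (relIndex_eq_one.1 h (mem_sup_right (mem_zpowers a)))
    have h9 : 0 < F.relIndex V := Nat.pos_of_ne_zero index_ne_zero_of_finite
    have h10 : 0 < V.relIndex B := Nat.pos_of_ne_zero index_ne_zero_of_finite
    have h11 : F.relIndex V * 2 ≤ F.relIndex B := by
      rw [← h6]; exact Nat.mul_le_mul_left _ (by omega)
    have h12 : B.relIndex (P : Subgroup G) ≤ V.relIndex (P : Subgroup G) := by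
      rw [← h7]; exact Nat.le_mul_of_pos_left _ h10
    omega
  set Pb := (P : Subgroup G).map π with hPb
  haveI hPbc : IsMulCommutative ↥Pb := ⟨⟨by
    rintro ⟨_, x, hx, rfl⟩ ⟨_, y, hy, rfl⟩
    refine Subtype.ext ?_
    show π x * π y = π y * π x
    rw [← commutatorElement_eq_one_iff_mul_comm, ← map_commutatorElement]
    exact (hπV _).2 (hFV (hcom x hx y hy))⟩⟩
  by_cases hcyc : IsCyclic ↥Pb
  · -- `|P : V| = p`
    obtain ⟨⟨_, a, haP, rfl⟩, hgen⟩ := hcyc.exists_generator
    have hgenP : (P : Subgroup G) ≤ V ⊔ zpowers a := by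
      intro x hx
      obtain ⟨i, hi⟩ := hgen ⟨π x, x, hx, rfl⟩
      have h5 : π a ^ i = π x := by simpa using congrArg Subtype.val hi
      have h6 : x * (a ^ i)⁻¹ ∈ V := (hπV _).1 (by rw [map_mul, map_inv, map_zpow, h5, mul_inv_cancel])
      rw [← inv_mul_cancel_right x (a ^ i)]
      exact mul_mem (mem_sup_left h6) (mem_sup_right (zpow_mem (mem_zpowers a) i))
    have haV : a ∉ V := fun h => hPV (hgenP.trans (sup_le le_rfl (zpowers_le.2 h)))
    have hap : (π a) ^ p = 1 := by rw [← map_pow]; exact (hπV _).2 (hFV (hpow a haP))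
    have hVP' : V.relIndex (P : Subgroup G) = p := by
      rw [show V.relIndex (P : Subgroup G) = Nat.card Pb by rw [hPb, ← relIndex_ker, hπ, QuotientGroup.ker_mk'],
        ← orderOf_eq_card_of_forall_mem_zpowers hgen]
      refine (Subgroup.orderOf_mk _ _).trans ?_
      exact orderOf_eq_prime hap fun h => haV ((hπV a).1 h)
    obtain ⟨v, hvV, hvF⟩ : ∃ v ∈ V, v ∉ F := by
      by_contra hall
      push Not at hall
      refine hPV fun g hg => hCV (mem_centralizer_iff.2 fun v hv =>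
        (mul_inv_eq_iff_eq_mul.1 (hFZ g hg v (hall v hv))).symm)
    have hFVp : F.relIndex V = p := by
      have h5 := hiso V hFV hVP D hDlt hVD
      rw [hVP'] at h5
      obtain ⟨i, hi⟩ := IsPGroup.iff_card.1 hVp
      obtain ⟨j, -, hj⟩ := (Nat.dvd_prime_pow hp.out).1 (hi ▸ F.relIndex_dvd_card (K := V))
      rcases j with _ | _ | j
      · exact absurd (relIndex_eq_one.1 (by rw [hj, pow_zero]) hvV) hvF
      · rw [hj, pow_one]
      · rw [hj] at h5
        have : p ^ 2 ≤ p ^ (j + 2) := Nat.pow_le_pow_right hp.out.pos (by omega)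
        nlinarith [hp.out.two_le]
    -- `V` is abelian
    have hVgen : V ≤ F ⊔ zpowers v := by
      have h5 := relIndex_mul_relIndex F (F ⊔ zpowers v) V le_sup_left
        (sup_le hFV (zpowers_le.2 hvV))
      rw [hFVp] at h5
      rcases hp.out.eq_one_or_self_of_dvd _ (Dvd.intro _ h5) with h | h
      · exact absurd (relIndex_eq_one.1 h (mem_sup_right (mem_zpowers v))) hvF
      · rw [h] at h5
        exact relIndex_eq_one.1 (Nat.eq_of_mul_eq_mul_left hp.out.pos (h5.trans (mul_one p).symm))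
    have hVab : ∀ x ∈ V, ∀ y ∈ V, ⁅x, y⁆ = 1 := by
      have hv' : ∀ y ∈ V, v * y = y * v := by
        intro y hy
        have : V ≤ centralizer {v} := hVgen.trans (sup_le (fun f hf => by
            rw [mem_centralizer_singleton_iff]
            exact (mul_inv_eq_iff_eq_mul.1 (hFZ v (hVP hvV) f hf)).symm)
          (zpowers_le.2 (mem_centralizer_singleton_iff.2 rfl)))
        exact (mem_centralizer_singleton_iff.1 (this hy)).symm
      intro x hx y hy
      rw [commutatorElement_eq_one_iff_mul_comm]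
      have : V ≤ centralizer {y} := hVgen.trans (sup_le (fun f hf => by
          rw [mem_centralizer_singleton_iff]
          exact (mul_inv_eq_iff_eq_mul.1 (hFZ y (hVP hy) f hf)).symm)
        (zpowers_le.2 (mem_centralizer_singleton_iff.2 (hv' y hy))))
      exact mem_centralizer_singleton_iff.1 (this hx)
    -- `F = ⟨[a, v]⟩` has order `p`
    set c := ⁅a, v⁆ with hc
    have hcF : c ∈ F := hcom a haP v (hVP hvV)
    have hFc : F = zpowers c := by
      by_contra hne
      refine hnoiso a haP haV (zpowers c) (lt_of_le_of_ne (zpowers_le.2 hcF) (Ne.symm hne))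
        (fun x hx y hy => by rw [hVab x hx y hy]; exact one_mem _) fun w hw => ?_
      have hle : V ≤ perp (P : Subgroup G) (zpowers c)
          (fun g hg m hm => hFZ g hg m (zpowers_le.2 hcF hm)) {a} :=
        hVgen.trans (sup_le (fun f hf => ⟨hFP hf, fun z hz => by
            rw [Set.mem_singleton_iff.1 hz, hFcomm a haP f hf]; exact one_mem _⟩)
          (zpowers_le.2 ⟨hVP hvV, fun z hz => by rw [Set.mem_singleton_iff.1 hz]; exact mem_zpowers c⟩))
      exact (hle hw).2 a rfl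
    have hcp : c ^ p = 1 := by
      have hpw : ∀ i : ℕ, ⁅a, v ^ i⁆ = c ^ i := by
        intro i
        induction i with
        | zero => simp
        | succ i ih =>
          rw [pow_succ, SchmidtSylow.comm_mul_right, ih,
            hFZ (v ^ i) (pow_mem (hVP hvV) i) c hcF, pow_succ]
      rw [← hpw, hFcomm a haP _ (hpow v (hVP hvV))]
    have hFcard : Nat.card F = p := by
      rw [hFc, Nat.card_zpowers]
      refine orderOf_eq_prime hcp fun h => hDlt.ne (le_antisymm hDF ?_)
      rw [hFc, h, zpowers_one_eq_bot]; exact bot_le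
    have hD1 : D = ⊥ := by
      rcases hp.out.eq_one_or_self_of_dvd _ (hFcard ▸ card_dvd_of_le hDF) with h | h
      · exact card_eq_one.1 h
      · exact absurd (eq_of_le_of_card_ge hDF (by rw [h, hFcard])) hDlt.ne
    have hfr : frattini ↥V = ⊥ := by
      rwa [hD, map_eq_bot_iff_of_injective _ V.subtype_injective] at hD1
    have hVcard : Nat.card V = p ^ 2 := by
      have h5 := relIndex_mul_relIndex ⊥ F V bot_le hFV
      rw [relIndex_bot_left, relIndex_bot_left, hFcard, hFVp] at h5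
      rw [← h5, pow_two]
    -- the action of `G / V`
    obtain ⟨U, _, _, _, q, f, hqs, hqm, hq0, hfi, -⟩ := PSolvable.exists_module hsol h1
    have hqi : Function.Injective q := fun x y hxy => by
      have h5 : q (x * y⁻¹) + q y = q x := by rw [← hqm, inv_mul_cancel_right]
      rw [hxy, add_eq_right, hq0] at h5
      have h6 : x * y⁻¹ ∈ (⊥ : Subgroup ↥V) := hfr ▸ h5
      exact mul_inv_eq_one.1 (mem_bot.1 h6)
    have hU : Module.finrank (ZMod p) U = 2 := by
      have h5 : Nat.card U = p ^ 2 := by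
        rw [← Nat.card_congr (Equiv.ofBijective q ⟨hqi, hqs⟩)]; exact hVcard
      rw [Module.natCard_eq_pow_finrank (K := ZMod p), Nat.card_zmod] at h5
      exact Nat.pow_right_injective hp.out.two_le h5
    let bU := Module.finBasisOfFinrankEq (ZMod p) U hU
    let τ : (G ⧸ V) →* Matrix (Fin 2) (Fin 2) (ZMod p) :=
      (LinearMap.toMatrixAlgEquiv bU).toMonoidHom.comp f
    have hp23 := eq_two_or_three hsq hOq τ ((LinearMap.toMatrixAlgEquiv bU).injective.comp hfi) hap
      fun h => haV ((hπV a).1 h)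
    -- contradiction with the smallest case
    refine hΦsmall hp23 ?_ ?_ (V.subgroupOf P) ?_ ?_ ?_
    · intro h
      rw [hF, h, Subgroup.map_bot] at hFcard
      simp at hFcard
      exact hp.out.ne_one hFcard.symm
    · have h5 := relIndex_mul_relIndex F V P hFV hVP
      rw [hFVp, hVP', ← pow_two] at h5
      rw [h5, relIndex, hF, subgroupOf, comap_map_eq_self_of_injective (P : Subgroup G).subtype_injective]
    · refine lt_of_le_of_ne (fun x hx => hFV ⟨x, hx, rfl⟩) fun he => hvF ?_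
      have : (⟨v, hVP hvV⟩ : ↥(P : Subgroup G)) ∈ Φ := he ▸ hvV
      exact ⟨_, this, rfl⟩
    · intro he
      exact hPV fun g hg => (he ▸ mem_top _ : (⟨g, hg⟩ : ↥(P : Subgroup G)) ∈ V.subgroupOf P)
    · intro w hw
      refine Subtype.ext ?_
      have h5 : (⟨w, hw⟩ : ↥V) ^ p ∈ frattini ↥V := PGroups.pow_mem_frattini hVp _
      rw [hfr, mem_bot] at h5
      simpa using congrArg Subtype.val h5
  · -- `P / V` is not cyclic
    apply hcon
    intro k hk
    have hcop : (Nat.card Pb).Coprime (Nat.card Kb) := by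
      obtain ⟨i, hi⟩ := IsPGroup.iff_card.1 (P.isPGroup'.map π)
      rw [hi]; exact (hKc.pow_right i).symm
    have hle : Kb ≤ (normalizer (F : Set G)).map π := by
      rw [← Coprime.iSup_centralizer_eq hcyc (by rw [normalizer_eq_top]; exact le_top) hcop]
      refine iSup₂_le fun ab hab => ?_
      obtain ⟨⟨a, haP, rfl⟩, ha1⟩ := hab
      intro y hy
      obtain ⟨j, rfl⟩ := QuotientGroup.mk'_surjective V y
      refine ⟨j, ?_, rfl⟩
      have haV : a ∉ V := fun h => ha1 ((hπV a).2 h)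
      set B := (zpowers (π a)).comap π with hB
      have hVB : V ≤ B := fun w hw => by
        show π w ∈ zpowers (π a)
        rw [(hπV w).2 hw]; exact one_mem _
      have hjB : j ∈ normalizer (B : Set G) := by
        refine le_normalizer_of_forall fun w hw => ?_
        obtain ⟨i, hi⟩ : π w ∈ zpowers (π a) := hw
        refine ⟨i, ?_⟩
        show π a ^ i = π (j * w * j⁻¹)
        have hi' : π a ^ i = π w := hi
        have hc : Commute (π j) (π a) := mem_centralizer_singleton_iff.1 hy.2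
        rw [map_mul, map_mul, map_inv, ← hi', (hc.zpow_right i).eq, mul_inv_cancel_right]
      have hBP : B ≤ (P : Subgroup G) := by
        intro w hw
        obtain ⟨i, hi⟩ : π w ∈ zpowers (π a) := hw
        have h5 : w * (a ^ i)⁻¹ ∈ V := (hπV _).1 (by
          rw [map_mul, map_inv, map_zpow, show π a ^ i = π w from hi, mul_inv_cancel])
        simpa using mul_mem (hVP h5) (zpow_mem haP i)
      have hE : ⁅V, B⁆ ⊔ D = F := by
        refine le_antisymm (sup_le (commutator_le.2 fun x hx y hy => hcom x (hVP hx) y (hBP hy)) hDF) ?_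
        by_contra hnot
        refine hnoiso a haP haV _ (lt_of_le_not_ge
          (sup_le (commutator_le.2 fun x hx y hy => hcom x (hVP hx) y (hBP hy)) hDF) hnot)
          (fun x hx y hy => mem_sup_right (hVD x hx y hy)) fun w hw => ?_
        rw [← commutatorElement_inv]
        exact inv_mem (mem_sup_left (commutator_mem_commutator hw (show a ∈ B from mem_zpowers (π a))))
      show j ∈ normalizer (F : Set G)
      rw [← hE, mem_normalizer_iff_map_conj_eq, Subgroup.map_sup, map_commutator,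
        mem_normalizer_iff_map_conj_eq.1 hjB,
        mem_normalizer_iff_map_conj_eq.1 (show j ∈ normalizer (V : Set G) by rw [normalizer_eq_top]; trivial),
        mem_normalizer_iff_map_conj_eq.1 (show j ∈ normalizer (D : Set G) by rw [normalizer_eq_top]; trivial)]
    obtain ⟨j, hj, hjk⟩ := hle hk
    have h5 : j⁻¹ * k ∈ normalizer (F : Set G) :=
      hPF _ (hVP (QuotientGroup.eq.1 hjk))
    simpa using mul_mem hj h5


end Cfsg.Agent.Lib.Fg6.SpecialSylowLength
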