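/-
An abelian Sylow 3-subgroup with small normaliser and TI centraliser: local structure and the
count of pairs of involutions with a given product.
-/
import Cfsg.Prelude.Def_OddOrderLocal
import Mathlib.GroupTheory.Sylow
import Mathlib.GroupTheory.Transfer
import Mathlib.GroupTheory.Index
import Mathlib.GroupTheory.OrderOfElement
import Mathlib.GroupTheory.GroupAction.Quotient
import Mathlib.Data.Complex.Basic
import Mathlib.Algebra.Group.Subgroup.Finite
import Mathlib.Tactic.LinearCombination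

set_option autoImplicit false
set_option linter.unusedSectionVars false
set_option linter.style.haveILetI false

namespace Cfsg.Agent.Lib.Fg6.ThreeLocal

open Subgroup

variable {G : Type*} [Group G] [Finite G]

/-- The hypotheses. -/
structure Hyp (P : Sylow 3 G) : Prop where
  comm : IsMulCommutative P
  cardN : Nat.card (normalizer ((P : Subgroup G) : Set G)) = 4 * Nat.card P
  cardC : Nat.card (centralizer (P : Set G)) = 2 * Nat.card P
  ti : Cfsg.IsTISubset (centralizer (P : Set G) : Set G)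
  even : ∀ H : Subgroup G, H ≠ ⊤ → 2 ∣ Nat.card H → Nat.card H ∣ 4 * Nat.card P
  simple : IsSimpleGroup G

theorem mem_cent_singleton {a g : G} : g ∈ centralizer ({a} : Set G) ↔ g * a * g⁻¹ = a := by
  rw [mem_centralizer_singleton_iff, mul_inv_eq_iff_eq_mul, eq_comm]

variable {P : Sylow 3 G}

local notation "P₀" => (P : Subgroup G)
local notation "T₀" => centralizer (P : Set G)
local notation "N₀" => normalizer ((P : Subgroup G) : Set G)

theorem card_P_odd (P : Sylow 3 G) : Odd (Nat.card P) := by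
  haveI : Fact (Nat.Prime 3) := ⟨by norm_num⟩
  rw [Sylow.card_eq_multiplicity]
  exact Odd.pow (by decide)

theorem P_le_T (h : Hyp P) : P₀ ≤ T₀ := by
  intro x hx
  rw [mem_centralizer_iff]
  intro y hy
  haveI := h.comm
  exact congrArg Subtype.val (mul_comm' (⟨y, hy⟩ : P₀) ⟨x, hx⟩)

theorem T_le_N (_h : Hyp P) : T₀ ≤ N₀ := centralizer_le_normalizer _

theorem two_dvd_card (h : Hyp P) : 4 ∣ Nat.card G := by
  refine dvd_trans ?_ (card_subgroup_dvd_card N₀)
  rw [h.cardN]
  exact dvd_mul_right 4 _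

theorem card_P_gt (h : Hyp P) : 1 < Nat.card P := by
  by_contra hc
  have hb : P₀ = ⊥ := eq_bot_of_card_le _ (not_lt.1 hc)
  have h1 : T₀ = ⊤ := by
    rw [eq_top_iff]
    intro g _
    rw [mem_centralizer_iff]
    intro y hy
    have : y = 1 := by
      have : y ∈ P₀ := hy
      rwa [hb, mem_bot] at this
    rw [this, one_mul, mul_one]
  have h2 : N₀ = ⊤ := top_unique (h1 ▸ T_le_N h)
  have h3 := h.cardC
  have h4 := h.cardN
  have hP : Nat.card P = 1 := le_antisymm (not_lt.1 hc) Nat.card_pos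
  rw [h1, card_top, hP] at h3
  rw [h2, card_top, hP] at h4
  omega

theorem P_ne_bot (h : Hyp P) : P₀ ≠ ⊥ := fun hb => by
  have := card_P_gt h
  rw [show Nat.card P = Nat.card P₀ from rfl, hb, card_bot] at this
  omega

theorem eq_top_of_normal (h : Hyp P) (H : Subgroup G) (hH : H.Normal) (hb : H ≠ ⊥) : H = ⊤ :=
  (h.simple.eq_bot_or_eq_top_of_normal H hH).resolve_left hb

theorem N_ne_top (h : Hyp P) : N₀ ≠ ⊤ := by
  intro ht
  have := eq_top_of_normal h P₀ (normalizer_eq_top_iff.1 ht) (P_ne_bot h)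
  have h4 := h.cardN
  have hc := card_P_gt h
  rw [ht, show Nat.card P = Nat.card P₀ from rfl, this, card_top] at h4
  rw [show Nat.card P = Nat.card P₀ from rfl, this, card_top] at hc
  omega

theorem not_abelian (h : Hyp P) : ¬ ∀ a b : G, a * b = b * a := by
  intro hab
  refine N_ne_top h (normalizer_eq_top_iff.2 ⟨fun x hx g => ?_⟩)
  rwa [hab g x, mul_inv_cancel_right]

theorem cent_ne_top (h : Hyp P) {x : G} (hx : x ≠ 1) : centralizer ({x} : Set G) ≠ ⊤ := by
  intro ht
  have hz : ∀ g : G, g * x = x * g := fun g =>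
    mul_inv_eq_iff_eq_mul.1 (mem_cent_singleton.1 (ht ▸ mem_top g))
  have hn : (zpowers x).Normal := ⟨fun y hy g => by
    obtain ⟨k, rfl⟩ := mem_zpowers_iff.1 hy
    rw [(Commute.zpow_right (hz g) k : Commute g (x ^ k)).eq, mul_inv_cancel_right]
    exact hy⟩
  have := eq_top_of_normal h _ hn (by simpa [zpowers_eq_bot] using hx)
  refine not_abelian h fun a b => ?_
  obtain ⟨i, rfl⟩ := mem_zpowers_iff.1 (this ▸ mem_top a : a ∈ zpowers x)
  exact ((Commute.zpow_right (hz b) i : Commute b (x ^ i))).symm.eq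

theorem exists_t (h : Hyp P) : ∃ t ∈ T₀, orderOf t = 2 := by
  haveI : Fact (Nat.Prime 2) := ⟨Nat.prime_two⟩
  obtain ⟨t, ht⟩ := exists_prime_orderOf_dvd_card' (G := T₀) 2 (by rw [h.cardC]; exact dvd_mul_right 2 _)
  exact ⟨t, t.2, by rw [orderOf_coe, ht]⟩

/-- The involution of `T`. -/
noncomputable def tInv (h : Hyp P) : G := (exists_t h).choose

theorem tInv_mem (h : Hyp P) : tInv h ∈ T₀ := (exists_t h).choose_spec.1

theorem tInv_order (h : Hyp P) : orderOf (tInv h) = 2 := (exists_t h).choose_spec.2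

theorem tInv_ne (h : Hyp P) : tInv h ≠ 1 := fun he => by
  have := tInv_order h
  rw [he, orderOf_one] at this
  omega

theorem tInv_sq (h : Hyp P) : tInv h * tInv h = 1 := by
  rw [← pow_two, ← tInv_order h, pow_orderOf_eq_one]

theorem sq_of_mem_P {x : G} (hx : x ∈ P₀) (h2 : x * x = 1) : x = 1 := by
  have h1 : orderOf x ∣ 2 := orderOf_dvd_of_pow_eq_one (by rw [pow_two, h2])
  have h3 : orderOf x ∣ Nat.card P₀ := orderOf_dvd_natCard P₀ hx
  rw [← orderOf_eq_one_iff]
  have := Nat.dvd_gcd h1 h3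
  rwa [(Nat.coprime_two_left.2 (card_P_odd P) : Nat.gcd 2 (Nat.card P₀) = 1), Nat.dvd_one] at this

theorem tInv_notMem_P (h : Hyp P) : tInv h ∉ P₀ := fun hm =>
  tInv_ne h (sq_of_mem_P hm (tInv_sq h))

theorem relIndex_P_T (h : Hyp P) : (P₀).relIndex T₀ = 2 := by
  have := card_mul_index ((P₀).subgroupOf T₀)
  rw [Nat.card_congr (subgroupOfEquivOfLe (P_le_T h)).toEquiv, h.cardC] at this
  rw [relIndex]
  exact Nat.eq_of_mul_eq_mul_left (Nat.card_pos (α := P₀)) (by rw [this]; exact mul_comm 2 _)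

theorem mem_T_cases (h : Hyp P) {x : G} (hx : x ∈ T₀) : x ∈ P₀ ∨ x * tInv h ∈ P₀ := by
  by_cases hxP : x ∈ P₀
  · exact Or.inl hxP
  · refine Or.inr ?_
    have := relIndex_P_T h
    rw [relIndex] at this
    have := (mul_mem_iff_of_index_two this (a := ⟨x, hx⟩) (b := ⟨tInv h, tInv_mem h⟩)).2
    simp only [mem_subgroupOf] at this
    exact this ⟨fun h' => (hxP h').elim, fun h' => (tInv_notMem_P h h').elim⟩

theorem commute_P_tInv (h : Hyp P) {x : G} (hx : x ∈ P₀) : Commute x (tInv h) :=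
  mem_centralizer_iff.1 (tInv_mem h) x hx

theorem T_comm (h : Hyp P) {x y : G} (hx : x ∈ T₀) (hy : y ∈ T₀) : x * y = y * x := by
  have hPT : ∀ {a b : G}, a ∈ P₀ → b ∈ T₀ → Commute a b :=
    fun ha hb => mem_centralizer_iff.1 hb _ ha
  have htT : ∀ {b : G}, b ∈ T₀ → Commute (tInv h) b := by
    intro b hb
    rcases mem_T_cases h hb with hb' | hb'
    · exact (commute_P_tInv h hb').symm
    · have : b = b * tInv h * tInv h := by rw [mul_assoc, tInv_sq, mul_one]
      rw [this]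
      exact (commute_P_tInv h hb').symm.mul_right (Commute.refl _)
  rcases mem_T_cases h hx with hx' | hx'
  · exact (hPT hx' hy).eq
  · have : x = x * tInv h * tInv h := by rw [mul_assoc, tInv_sq, mul_one]
    rw [this]
    exact ((hPT hx' hy).mul_left (htT hy)).eq

theorem T_sq (h : Hyp P) {x : G} (hx : x ∈ T₀) (h2 : x * x = 1) : x = 1 ∨ x = tInv h := by
  rcases mem_T_cases h hx with hx' | hx'
  · exact Or.inl (sq_of_mem_P hx' h2)
  · right
    have h3 : x * tInv h * (x * tInv h) = 1 := by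
      have : Commute x (tInv h) := T_comm h hx (tInv_mem h)
      rw [this.symm.mul_mul_mul_comm, h2, tInv_sq, one_mul]
    have := sq_of_mem_P hx' h3
    rw [eq_inv_of_mul_eq_one_left this, inv_eq_of_mul_eq_one_left (tInv_sq h)]

theorem conj_mem_T (h : Hyp P) {g x : G} (hg : g ∈ N₀) (hx : x ∈ T₀) : g * x * g⁻¹ ∈ T₀ := by
  rw [mem_centralizer_iff]
  intro y hy
  have hy' : g⁻¹ * y * g ∈ P₀ := by
    have := (mem_normalizer_iff.1 (inv_mem hg) y).1 hy
    rwa [inv_inv] at this
  have := mem_centralizer_iff.1 hx _ hy'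
  calc y * (g * x * g⁻¹) = g * (g⁻¹ * y * g * x) * g⁻¹ := by group
    _ = g * (x * (g⁻¹ * y * g)) * g⁻¹ := by rw [this]
    _ = g * x * g⁻¹ * y := by group

theorem conj_sq (g : G) {x : G} (h2 : x * x = 1) : g * x * g⁻¹ * (g * x * g⁻¹) = 1 := by
  rw [mul_assoc (g * x), ← mul_assoc g⁻¹, ← mul_assoc g⁻¹, inv_mul_cancel, one_mul,
    ← mul_assoc, mul_assoc g, h2, mul_one, mul_inv_cancel]

theorem N_le_cent (h : Hyp P) : N₀ ≤ centralizer ({tInv h} : Set G) := by
  intro g hg
  rw [mem_cent_singleton]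
  refine (T_sq h (conj_mem_T h hg (tInv_mem h)) (conj_sq g (tInv_sq h))).resolve_left fun he => ?_
  exact tInv_ne h (conj_eq_one_iff.1 he)

theorem cent_eq_N (h : Hyp P) : centralizer ({tInv h} : Set G) = N₀ := by
  refine (eq_of_le_of_card_ge (N_le_cent h) ?_).symm
  rw [h.cardN]
  refine Nat.le_of_dvd (Nat.mul_pos (by norm_num) Nat.card_pos)
    (h.even _ (cent_ne_top h (tInv_ne h)) ?_)
  refine dvd_trans ?_ (card_dvd_of_le (N_le_cent h))
  rw [h.cardN]
  exact dvd_mul_of_dvd_left (by norm_num) _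

theorem mem_N_of_fix (h : Hyp P) {g : G} (hg : g * tInv h * g⁻¹ = tInv h) : g ∈ N₀ := by
  rw [← cent_eq_N h]; exact mem_cent_singleton.2 hg

theorem relIndex_T_N (h : Hyp P) : (T₀).relIndex N₀ = 2 := by
  have := card_mul_index ((T₀).subgroupOf N₀)
  rw [Nat.card_congr (subgroupOfEquivOfLe (T_le_N h)).toEquiv, h.cardC, h.cardN] at this
  rw [relIndex]
  exact Nat.eq_of_mul_eq_mul_left (show 0 < 2 * Nat.card P from Nat.mul_pos (by norm_num) Nat.card_pos)
    (by rw [this]; ring)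

theorem le_N_of_proper (h : Hyp P) {H : Subgroup G} (hT : T₀ ≤ H) (htop : H ≠ ⊤) : H ≤ N₀ := by
  have h2 : 2 ∣ Nat.card H := by
    refine dvd_trans ?_ (card_dvd_of_le hT)
    rw [h.cardC]; exact dvd_mul_right 2 _
  have hd := h.even H htop h2
  have hm := card_mul_index ((T₀).subgroupOf H)
  rw [Nat.card_congr (subgroupOfEquivOfLe hT).toEquiv, h.cardC] at hm
  rw [← hm] at hd
  have hidx : ((T₀).subgroupOf H).index ∣ 2 := by
    refine Nat.dvd_of_mul_dvd_mul_left (Nat.mul_pos (by norm_num : 0 < 2) (Nat.card_pos (α := P))) ?_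
    refine hd.trans (dvd_of_eq ?_)
    ring
  have hnorm : ((T₀).subgroupOf H).Normal := by
    rcases (Nat.dvd_prime Nat.prime_two).1 hidx with h1 | h1
    · rw [index_eq_one.1 h1]; infer_instance
    · exact normal_of_index_eq_two h1
  intro g hg
  refine mem_N_of_fix h ((T_sq h ?_ (conj_sq g (tInv_sq h))).resolve_left ?_)
  · have := hnorm.conj_mem ⟨tInv h, hT (tInv_mem h)⟩ (mem_subgroupOf.2 (tInv_mem h)) ⟨g, hg⟩
    simpa [mem_subgroupOf] using this
  · exact fun he => tInv_ne h (conj_eq_one_iff.1 he)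

theorem cent_le_N (h : Hyp P) {x : G} (hx : x ∈ T₀) (hx1 : x ≠ 1) :
    centralizer ({x} : Set G) ≤ N₀ :=
  le_N_of_proper h (fun y hy => mem_centralizer_singleton_iff.2 (T_comm h hy hx)) (cent_ne_top h hx1)

theorem mem_N_of_conj (h : Hyp P) {g x : G} (hx : x ∈ T₀) (hx1 : x ≠ 1)
    (hg : g * x * g⁻¹ ∈ T₀) : g ∈ N₀ := by
  by_contra hgN
  refine hx1 (h.ti g (fun hn => hgN ?_) x hx hg)
  have := (mem_normalizer_iff.1 hn (tInv h)).1 (tInv_mem h)
  exact mem_N_of_fix h ((T_sq h this (conj_sq g (tInv_sq h))).resolve_left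
    fun he => tInv_ne h (conj_eq_one_iff.1 he))

theorem mem_P_of_mem_N (_h : Hyp P) {y : G} (hy : y ∈ N₀) (hord : orderOf y ∣ Nat.card P) :
    y ∈ P₀ := by
  haveI : Fact (Nat.Prime 3) := ⟨by norm_num⟩
  obtain ⟨a, ha⟩ := IsPGroup.iff_card.1 P.2
  obtain ⟨b, -, hb⟩ := (Nat.dvd_prime_pow (by norm_num)).1 (hord.trans (dvd_of_eq ha))
  have hz : IsPGroup 3 (zpowers y) := IsPGroup.of_card (n := b) (by rw [Nat.card_zpowers, hb])
  have hsup := hz.to_sup_of_normal_right' P.2 (zpowers_le.2 hy)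
  have := P.3 hsup le_sup_right
  exact this ▸ (le_sup_left (a := zpowers y) (b := P₀)) (mem_zpowers y)

/-- A Sylow 2-subgroup containing `t`, all of whose elements square to one, with all of its
non-identity elements conjugate to `t`. -/
theorem exists_klein (h : Hyp P) : ∃ V : Sylow 2 G, Nat.card V = 4 ∧ tInv h ∈ V ∧
    (∀ v ∈ V, v * v = 1) ∧ (∀ v ∈ V, v ≠ 1 → ∃ g : G, g * tInv h * g⁻¹ = v) := by
  classical
  haveI : Fact (Nat.Prime 2) := ⟨Nat.prime_two⟩
  haveI : Fact (Nat.Prime 3) := ⟨by norm_num⟩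
  have hz : IsPGroup 2 (zpowers (tInv h)) :=
    IsPGroup.of_card (n := 1) (by rw [Nat.card_zpowers, tInv_order]; rfl)
  obtain ⟨V, hV⟩ := hz.exists_le_sylow
  have htV : tInv h ∈ V := hV (mem_zpowers _)
  have hodd := card_P_odd P
  have hVtop : (V : Subgroup G) ≠ ⊤ := by
    intro ht
    have h3 : 3 ∣ Nat.card G := by
      refine dvd_trans ?_ (card_subgroup_dvd_card P₀)
      obtain ⟨a, ha⟩ := IsPGroup.iff_card.1 P.2
      have := card_P_gt h
      rw [show Nat.card P = Nat.card P₀ from rfl, ha] at this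
      rw [ha]
      exact dvd_pow_self 3 (by rintro rfl; simp at this)
    obtain ⟨a, ha⟩ := IsPGroup.iff_card.1 V.2
    rw [ht, card_top] at ha
    have := (by norm_num : Nat.Prime 3).dvd_of_dvd_pow (ha ▸ h3)
    omega
  have h2V : 2 ∣ Nat.card V := by
    have := orderOf_dvd_natCard (V : Subgroup G) htV
    rwa [tInv_order] at this
  have hV4 : Nat.card V = 4 := by
    have hd : Nat.card V ∣ 4 * Nat.card P := h.even V hVtop h2V
    obtain ⟨a, ha⟩ := IsPGroup.iff_card.1 V.2
    have hco : Nat.Coprime (Nat.card V) (Nat.card P) := by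
      rw [show Nat.card V = Nat.card (V : Subgroup G) from rfl, ha]
      exact (Nat.coprime_two_left.2 hodd).pow_left a
    refine Nat.dvd_antisymm (hco.dvd_of_dvd_mul_right hd) ?_
    have := V.pow_dvd_card_of_pow_dvd_card (n := 2) (two_dvd_card h)
    simpa using this
  have hnotker : ∀ K : Subgroup G, K.Normal → ¬ K.IsComplement' (V : Subgroup G) := by
    intro K hK hc
    have hcm := hc.card_mul
    rw [hV4] at hcm
    rcases h.simple.eq_bot_or_eq_top_of_normal K hK with rfl | rfl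
    · rw [card_bot, one_mul] at hcm
      exact hVtop (eq_top_of_card_eq _ (by rw [hV4]; exact hcm))
    · rw [card_top] at hcm
      have : 0 < Nat.card G := Nat.card_pos
      omega
  have hexp : ∀ v ∈ V, v * v = 1 := by
    intro v hv
    by_contra hne
    have hd : orderOf v ∣ 2 ^ 2 := by
      have := orderOf_dvd_natCard (V : Subgroup G) hv
      rwa [hV4] at this
    obtain ⟨k, hk, hk'⟩ := (Nat.dvd_prime_pow Nat.prime_two).1 hd
    have hcyc : IsCyclic V := by
      refine isCyclic_of_orderOf_eq_card (⟨v, hv⟩ : (V : Subgroup G)) ?_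
      rw [← orderOf_coe, hV4]
      show orderOf v = 4
      interval_cases k
      · exact absurd (orderOf_eq_one_iff.1 (by simpa using hk')) (fun he => hne (by rw [he, mul_one]))
      · exact absurd (by rw [← pow_two, ← show orderOf v = 2 by simpa using hk', pow_orderOf_eq_one]) hne
      · simpa using hk'
    refine hnotker _ inferInstance (IsCyclic.isComplement' ?_ hcyc)
    exact (Nat.minFac_eq_two_iff _).2 (dvd_trans (by norm_num) (two_dvd_card h))
  have hVc : ∀ a ∈ V, ∀ b ∈ V, a * b = b * a := by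
    intro a ha b hb
    have h1 := hexp _ (mul_mem ha hb)
    have ia : a⁻¹ = a := inv_eq_of_mul_eq_one_left (hexp a ha)
    have ib : b⁻¹ = b := inv_eq_of_mul_eq_one_left (hexp b hb)
    rw [← inv_eq_of_mul_eq_one_left h1, mul_inv_rev, ia, ib]
  obtain ⟨g, hgN, hgC⟩ : ∃ g ∈ normalizer ((V : Subgroup G) : Set G),
      g ∉ centralizer ((V : Subgroup G) : Set G) := by
    by_contra hcon
    push Not at hcon
    exact hnotker _ inferInstance (MonoidHom.ker_transferSylow_isComplement' V hcon)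
  have hNVtop : normalizer ((V : Subgroup G) : Set G) ≠ ⊤ := by
    intro ht
    exact hVtop (eq_top_of_normal h _ (normalizer_eq_top_iff.1 ht)
      (fun hb => tInv_ne h (by
        have h' : tInv h ∈ (V : Subgroup G) := htV
        rwa [hb, mem_bot] at h')))
  have hgd : orderOf g ∣ 4 * Nat.card P := by
    refine (orderOf_dvd_natCard _ hgN).trans (h.even _ hNVtop ?_)
    exact h2V.trans (card_dvd_of_le le_normalizer)
  have hgn : g ^ Nat.card P ∈ V := by
    have hz : IsPGroup 2 (zpowers (g ^ Nat.card P)) := by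
      have : orderOf (g ^ Nat.card P) ∣ 2 ^ 2 := by
        rw [orderOf_dvd_iff_pow_eq_one, ← pow_mul]
        exact orderOf_dvd_iff_pow_eq_one.1 (hgd.trans (dvd_of_eq (mul_comm _ _)))
      obtain ⟨b, -, hb⟩ := (Nat.dvd_prime_pow Nat.prime_two).1 this
      exact IsPGroup.of_card (n := b) (by rw [Nat.card_zpowers, hb])
    have hsup := hz.to_sup_of_normal_right' V.2 (zpowers_le.2 (pow_mem hgN _))
    have := V.3 hsup le_sup_right
    have hm : g ^ Nat.card P ∈ zpowers (g ^ Nat.card P) ⊔ (V : Subgroup G) :=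
      mem_sup_left (mem_zpowers _)
    rw [this] at hm
    exact hm
  set w := g ^ 4 with hw
  have hwN : w ∈ normalizer ((V : Subgroup G) : Set G) := pow_mem hgN 4
  have hwodd : Odd (orderOf w) := by
    refine hodd.of_dvd_nat ?_
    rw [orderOf_dvd_iff_pow_eq_one, hw, ← pow_mul]
    exact orderOf_dvd_iff_pow_eq_one.1 hgd
  obtain ⟨v₀, hv₀, hmove⟩ : ∃ v ∈ V, w * v * w⁻¹ ≠ v := by
    by_contra hcon
    push Not at hcon
    refine hgC (mem_centralizer_iff.2 fun v hv => ?_)
    have h1 : Commute w v := mul_inv_eq_iff_eq_mul.1 (hcon v hv)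
    have h2 : Commute (g ^ Nat.card P) v := hVc _ hgn _ hv
    have hco : Nat.Coprime 4 (Nat.card P) := by
      have := (Nat.coprime_two_left.2 hodd).pow_left 2
      simpa using this
    have hbez : g = w ^ Nat.gcdA 4 (Nat.card P) * (g ^ Nat.card P) ^ Nat.gcdB 4 (Nat.card P) := by
      rw [hw, ← zpow_natCast g 4, ← zpow_natCast g (Nat.card P), ← zpow_mul, ← zpow_mul,
        ← zpow_add, ← Nat.gcd_eq_gcd_ab, hco, Nat.cast_one, zpow_one]
    rw [hbez]
    exact (((h1.zpow_left _).mul_left (h2.zpow_left _))).eq.symm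
  have hmem : ∀ v ∈ V, w * v * w⁻¹ ∈ V := fun v hv => (mem_normalizer_iff.1 hwN v).1 hv
  have hfix2 : ∀ v : G, w * (w * v * w⁻¹) * w⁻¹ = v → w * v * w⁻¹ = v := by
    intro v hv
    obtain ⟨k, hk⟩ := hwodd
    have h2 : Commute (w * w) v := by
      refine mul_inv_eq_iff_eq_mul.1 ?_
      rw [mul_inv_rev]
      simpa only [mul_assoc] using hv
    have : w = (w * w) ^ (-(k : ℤ)) := by
      rw [← pow_two, ← zpow_natCast w 2, ← zpow_mul]
      have h1 : w ^ ((2 * k + 1 : ℕ) : ℤ) = 1 := by rw [zpow_natCast, ← hk, pow_orderOf_eq_one]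
      calc w = w ^ ((2 * k + 1 : ℕ) : ℤ) * w ^ (((2 : ℕ) : ℤ) * -(k : ℤ)) := by
              rw [← zpow_add]
              conv_lhs => rw [← zpow_one w]
              congr 1
              push_cast; ring
        _ = _ := by rw [h1, one_mul]
    rw [this, (h2.zpow_left _).eq, mul_inv_cancel_right]
  haveI : Fintype (V : Subgroup G) := Fintype.ofFinite _
  have hfour : ∀ a b c d : (V : Subgroup G), a ≠ b → a ≠ c → a ≠ d → b ≠ c → b ≠ d → c ≠ d →
      ∀ e, e = a ∨ e = b ∨ e = c ∨ e = d := by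
    intro a b c d hab hac had hbc hbd hcd e
    have hcard : ({a, b, c, d} : Finset (V : Subgroup G)) = Finset.univ := by
      apply Finset.eq_univ_of_card
      rw [← Nat.card_eq_fintype_card, hV4, Finset.card_insert_of_notMem, Finset.card_insert_of_notMem,
        Finset.card_insert_of_notMem, Finset.card_singleton] <;> simp [*]
    have := Finset.mem_univ e
    rw [← hcard] at this
    simpa using this
  have hnofix : ∀ v ∈ V, v ≠ 1 → w * v * w⁻¹ ≠ v := by
    intro v hv hv1 hfix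
    have hz1 : v₀ ≠ 1 := by rintro rfl; simp at hmove
    have hz2 : w * v₀ * w⁻¹ ≠ 1 := fun he => hz1 (conj_eq_one_iff.1 he)
    have hne1 : v ≠ v₀ := by rintro rfl; exact hmove hfix
    have hne2 : v ≠ w * v₀ * w⁻¹ := fun he => by
      have h' : w * v * w⁻¹ = w * v₀ * w⁻¹ := by rw [hfix]; exact he
      exact hne1 (mul_left_cancel (mul_right_cancel h'))
    have hne3 : w * (w * v₀ * w⁻¹) * w⁻¹ ≠ w * v₀ * w⁻¹ := fun he =>
      hmove (mul_left_cancel (mul_right_cancel he))
    rcases hfour ⟨1, one_mem _⟩ ⟨v, hv⟩ ⟨v₀, hv₀⟩ ⟨_, hmem _ hv₀⟩ (by simp [Ne.symm hv1])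
      (by simp [Ne.symm hz1]) (by simp [Ne.symm hz2]) (by simp [hne1]) (by simp [hne2])
      (by simp [Ne.symm hmove]) ⟨_, hmem _ (hmem _ hv₀)⟩ with he | he | he | he
    all_goals replace he := congrArg Subtype.val he; simp only at he
    · exact hz2 (conj_eq_one_iff.1 he)
    · have h' : w * (w * v₀ * w⁻¹) * w⁻¹ = w * v * w⁻¹ := by rw [hfix]; exact he
      exact hne2 (mul_left_cancel (mul_right_cancel h')).symm
    · exact hmove (hfix2 _ he)
    · exact hne3 he
  refine ⟨V, hV4, htV, hexp, fun v hv hv1 => ?_⟩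
  have ht1 := tInv_ne h
  have ha := hnofix _ htV ht1
  have ha1 : w * tInv h * w⁻¹ ≠ 1 := fun he => ht1 (conj_eq_one_iff.1 he)
  have hb := hnofix _ (hmem _ htV) ha1
  have hb1 : w * (w * tInv h * w⁻¹) * w⁻¹ ≠ 1 := fun he => ha1 (conj_eq_one_iff.1 he)
  have hb2 : w * (w * tInv h * w⁻¹) * w⁻¹ ≠ tInv h := fun he => ha (hfix2 _ he)
  rcases hfour ⟨1, one_mem _⟩ ⟨_, htV⟩ ⟨_, hmem _ htV⟩ ⟨_, hmem _ (hmem _ htV)⟩
    (by simp [Ne.symm ht1]) (by simp [Ne.symm ha1]) (by simp [Ne.symm hb1]) (by simp [Ne.symm ha])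
    (by simp [Ne.symm hb2]) (by simp [Ne.symm hb]) ⟨v, hv⟩ with he | he | he | he
  all_goals replace he := congrArg Subtype.val he; simp only at he
  · exact absurd he hv1
  · exact ⟨1, by rw [he]; simp⟩
  · exact ⟨w, he.symm⟩
  · exact ⟨w * w, by rw [he]; group⟩

theorem isConj_tInv (h : Hyp P) {s : G} (hs : orderOf s = 2) :
    ∃ g : G, g * tInv h * g⁻¹ = s := by
  obtain ⟨V, -, -, -, hconj⟩ := exists_klein h
  haveI : Fact (Nat.Prime 2) := ⟨Nat.prime_two⟩
  have hz : IsPGroup 2 (zpowers s) :=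
    IsPGroup.of_card (n := 1) (by rw [Nat.card_zpowers, hs]; rfl)
  obtain ⟨W, hW⟩ := hz.exists_le_sylow
  obtain ⟨a, ha⟩ := MulAction.exists_smul_eq G V W
  have hsW : s ∈ ((a • V : Sylow 2 G) : Subgroup G) := by rw [ha]; exact hW (mem_zpowers s)
  rw [Sylow.coe_subgroup_smul, mem_pointwise_smul_iff_inv_smul_mem] at hsW
  simp only [← MulAut.inv_def, MulAut.smul_def] at hsW
  rw [← map_inv, MulAut.conj_apply, inv_inv] at hsW
  have hs1 : s ≠ 1 := fun he => by rw [he, orderOf_one] at hs; omega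
  obtain ⟨g, hg⟩ := hconj _ hsW (fun he => hs1 (by
    calc s = a * (a⁻¹ * s * a) * a⁻¹ := by group
      _ = 1 := by rw [he]; group))
  exact ⟨a * g, by
    calc a * g * tInv h * (a * g)⁻¹ = a * (g * tInv h * g⁻¹) * a⁻¹ := by group
      _ = s := by rw [hg]; group⟩

theorem exists_u (h : Hyp P) : ∃ u : G, u ∈ N₀ ∧ u ∉ T₀ ∧ u * u = 1 ∧
    ∀ x ∈ T₀, u * x * u⁻¹ = x⁻¹ := by
  obtain ⟨V, hV4, htV, hexp, hconj⟩ := exists_klein h
  obtain ⟨u, huV, huT⟩ : ∃ u ∈ V, u ∉ T₀ := by
    by_contra hcon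
    push Not at hcon
    have hle : (V : Subgroup G) ≤ zpowers (tInv h) := fun v hv => by
      rcases T_sq h (hcon v hv) (hexp v hv) with rfl | rfl
      · exact one_mem _
      · exact mem_zpowers _
    have := card_le_of_le hle
    rw [Nat.card_zpowers, tInv_order, hV4] at this
    omega
  have huN : u ∈ N₀ := by
    refine mem_N_of_fix h (mul_inv_eq_iff_eq_mul.2 ?_)
    have h1 := hexp _ (mul_mem huV htV)
    have iu : u⁻¹ = u := inv_eq_of_mul_eq_one_left (hexp u huV)
    have it : (tInv h)⁻¹ = tInv h := inv_eq_of_mul_eq_one_left (tInv_sq h)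
    rw [← inv_eq_of_mul_eq_one_left h1, mul_inv_rev, iu, it]
  have hu1 : u ≠ 1 := fun he => huT (he ▸ one_mem _)
  obtain ⟨g, hg⟩ := hconj u huV hu1
  have hfree : ∀ x ∈ P₀, u * x * u⁻¹ = x → x = 1 := by
    intro x hx hxu
    have hgx : g⁻¹ * x * g ∈ N₀ := by
      refine mem_N_of_fix h ?_
      have h' : Commute (g * tInv h * g⁻¹) x := by rw [hg]; exact mul_inv_eq_iff_eq_mul.1 hxu
      calc g⁻¹ * x * g * tInv h * (g⁻¹ * x * g)⁻¹
          = g⁻¹ * (x * (g * tInv h * g⁻¹)) * x⁻¹ * g := by group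
        _ = tInv h := by rw [← h'.eq]; group
    have hgP : g⁻¹ * x * g ∈ P₀ := by
      refine mem_P_of_mem_N h hgx ?_
      have : g⁻¹ * x * g = MulAut.conj g⁻¹ x := by rw [MulAut.conj_apply, inv_inv]
      rw [this, MulEquiv.orderOf_eq]
      exact orderOf_dvd_natCard P₀ hx
    by_contra hx1
    have hgN : g⁻¹ ∈ N₀ := mem_N_of_conj h (P_le_T h hx) hx1 (by rw [inv_inv]; exact P_le_T h hgP)
    have := mem_cent_singleton.1 (N_le_cent h (inv_mem hgN))
    rw [inv_inv, hg] at this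
    exact huT (this ▸ tInv_mem h)
  have hinvP : ∀ x ∈ P₀, u * x * u⁻¹ = x⁻¹ := by
    intro x hx
    have hy : u * x * u⁻¹ ∈ P₀ := (mem_normalizer_iff.1 huN x).1 hx
    refine eq_inv_of_mul_eq_one_left (hfree _ (mul_mem hy hx) ?_)
    have h2 : u * (u * x * u⁻¹) * u⁻¹ = x := by
      rw [inv_eq_of_mul_eq_one_left (hexp u huV), ← mul_assoc, ← mul_assoc, hexp u huV, one_mul,
        mul_assoc, hexp u huV, mul_one]
    rw [show u * (u * x * u⁻¹ * x) * u⁻¹ = (u * (u * x * u⁻¹) * u⁻¹) * (u * x * u⁻¹) by group, h2]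
    exact T_comm h (P_le_T h hx) (P_le_T h hy)
  refine ⟨u, huN, huT, hexp u huV, fun x hx => ?_⟩
  have hut : u * tInv h * u⁻¹ = tInv h := mem_cent_singleton.1 (N_le_cent h huN)
  rcases mem_T_cases h hx with hx' | hx'
  · exact hinvP x hx'
  · have hxe : x = x * tInv h * tInv h := by rw [mul_assoc, tInv_sq, mul_one]
    calc u * x * u⁻¹ = (u * (x * tInv h) * u⁻¹) * (u * tInv h * u⁻¹) := by
          conv_lhs => rw [hxe]
          group
      _ = (x * tInv h)⁻¹ * tInv h := by rw [hinvP _ hx', hut]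
      _ = x⁻¹ := by
          rw [mul_inv_rev, mul_assoc, T_comm h (inv_mem hx) (tInv_mem h), ← mul_assoc, inv_mul_cancel,
            one_mul]

theorem outside_T (h : Hyp P) {y : G} (hy : y ∈ N₀) (hyT : y ∉ T₀) :
    orderOf y = 2 ∧ ∀ x ∈ T₀, y * x * y⁻¹ = x⁻¹ := by
  obtain ⟨u, huN, huT, hu2, huinv⟩ := exists_u h
  have hyu : y * u ∈ T₀ := by
    have := relIndex_T_N h
    rw [relIndex] at this
    have := (mul_mem_iff_of_index_two this (a := ⟨y, hy⟩) (b := ⟨u, huN⟩)).2
    simp only [mem_subgroupOf] at this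
    exact this ⟨fun h' => (hyT h').elim, fun h' => (huT h').elim⟩
  have iu : u⁻¹ = u := inv_eq_of_mul_eq_one_left hu2
  have hye : y = y * u * u := by rw [mul_assoc, hu2, mul_one]
  constructor
  · refine orderOf_eq_prime ?_ (fun he => hyT (he ▸ one_mem _))
    have := huinv _ hyu
    calc y ^ 2 = y * u * (u * (y * u) * u⁻¹) := by
          rw [pow_two, iu]; conv_lhs => rw [hye]
          group
      _ = 1 := by rw [this, mul_inv_cancel]
  · intro x hx
    calc y * x * y⁻¹ = y * u * (u * x * u⁻¹) * (y * u)⁻¹ := by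
          conv_lhs => rw [hye]
          rw [mul_inv_rev, iu]; group
      _ = x⁻¹ := by rw [huinv x hx, T_comm h hyu (inv_mem hx), mul_inv_cancel_right]

theorem orderOf_conj (g x : G) : orderOf (g * x * g⁻¹) = orderOf x := by
  rw [← MulAut.conj_apply, MulEquiv.orderOf_eq]

theorem inverters_eq (h : Hyp P) {x : G} (hx : x ∈ T₀) (hx1 : x ≠ 1) (s : G) :
    orderOf s = 2 ∧ orderOf (s * x) = 2 ↔ s ∈ N₀ ∧ s ∉ T₀ := by
  constructor
  · rintro ⟨hs, hsx⟩
    have s2 : s * s = 1 := by rw [← pow_two, ← hs, pow_orderOf_eq_one]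
    have sx2 : s * x * (s * x) = 1 := by rw [← pow_two, ← hsx, pow_orderOf_eq_one]
    have hinv : s * x * s⁻¹ = x⁻¹ := by
      rw [inv_eq_of_mul_eq_one_left s2]
      exact eq_inv_of_mul_eq_one_left (by rw [mul_assoc (s * x)]; exact sx2)
    have hsN : s ∈ N₀ := by
      refine mem_N_of_conj h hx hx1 ?_
      rw [hinv]; exact inv_mem hx
    refine ⟨hsN, fun hsT => ?_⟩
    have hst : s = tInv h := (T_sq h hsT s2).resolve_left fun he => by
      rw [he, orderOf_one] at hs; omega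
    rw [T_comm h hsT hx, mul_inv_cancel_right, eq_inv_iff_mul_eq_one] at hinv
    have hxt : x = tInv h := (T_sq h hx hinv).resolve_left hx1
    rw [hst, hxt, tInv_sq, orderOf_one] at hsx
    omega
  · rintro ⟨hsN, hsT⟩
    refine ⟨(outside_T h hsN hsT).1, (outside_T h (mul_mem hsN (T_le_N h hx)) fun hm => hsT ?_).1⟩
    exact (mul_mem_cancel_right hx).1 hm

theorem real_conj_into_T (h : Hyp P) {x s : G} (hx1 : x ≠ 1) (hs : orderOf s = 2)
    (hsx : orderOf (s * x) = 2) : ∃ g : G, g * x * g⁻¹ ∈ T₀ := by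
  by_cases hx2 : x * x = 1
  · obtain ⟨g, hg⟩ := isConj_tInv h (orderOf_eq_prime (p := 2) (by rw [pow_two, hx2]) hx1)
    exact ⟨g⁻¹, by rw [← hg]; convert tInv_mem h using 1; group⟩
  have s2 : s * s = 1 := by rw [← pow_two, ← hs, pow_orderOf_eq_one]
  have sx2 : s * x * (s * x) = 1 := by rw [← pow_two, ← hsx, pow_orderOf_eq_one]
  have hinv : s * x * s⁻¹ = x⁻¹ := by
    rw [inv_eq_of_mul_eq_one_left s2]
    exact eq_inv_of_mul_eq_one_left (by rw [mul_assoc (s * x)]; exact sx2)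
  have hsn : s ∈ normalizer ((zpowers x : Subgroup G) : Set G) := by
    rw [mem_normalizer_iff_map_conj_eq, MonoidHom.map_zpowers]
    show zpowers (s * x * s⁻¹) = zpowers x
    rw [hinv, zpowers_inv]
  let H := zpowers x ⊔ zpowers s
  have hH : H ≠ ⊤ := by
    intro ht
    have hn : (zpowers x).Normal := by
      rw [← normalizer_eq_top_iff, eq_top_iff, ← ht]
      exact sup_le le_normalizer (zpowers_le.2 hsn)
    have := eq_top_of_normal h _ hn (by simpa [zpowers_eq_bot] using hx1)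
    refine not_abelian h fun a b => ?_
    obtain ⟨i, rfl⟩ := mem_zpowers_iff.1 (this ▸ mem_top a : a ∈ zpowers x)
    obtain ⟨j, rfl⟩ := mem_zpowers_iff.1 (this ▸ mem_top b : b ∈ zpowers x)
    exact ((Commute.refl x).zpow_zpow i j).eq
  have h2 : 2 ∣ Nat.card H :=
    hs ▸ orderOf_dvd_natCard H (mem_sup_right (mem_zpowers s))
  have hxd : orderOf x ∣ 4 * Nat.card P :=
    (orderOf_dvd_natCard H (mem_sup_left (mem_zpowers x))).trans (h.even H hH h2)
  rcases Nat.even_or_odd (orderOf x) with he | ho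
  · obtain ⟨k, hk⟩ := he
    have hw : orderOf (x ^ k) = 2 := by
      refine orderOf_eq_prime ?_ fun h1 => ?_
      · rw [← pow_mul, mul_two, ← hk, pow_orderOf_eq_one]
      · have hkp : 0 < k := by have := orderOf_pos x; omega
        have := Nat.le_of_dvd hkp (orderOf_dvd_of_pow_eq_one h1)
        omega
    obtain ⟨g, hg⟩ := isConj_tInv h hw
    refine ⟨g⁻¹, ?_⟩
    have hc : g⁻¹ * x * g⁻¹⁻¹ ∈ N₀ := by
      refine mem_N_of_fix h ?_
      have e : tInv h = g⁻¹ * x ^ k * g := by rw [← hg]; group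
      rw [e]; group
    by_contra hT
    have := (outside_T h hc hT).1
    rw [orderOf_conj] at this
    exact hx2 (by rw [← pow_two, ← this, pow_orderOf_eq_one])
  · haveI : Fact (Nat.Prime 3) := ⟨by norm_num⟩
    have hd : orderOf x ∣ Nat.card P := by
      refine Nat.Coprime.dvd_of_dvd_mul_left ?_ hxd
      have := (Nat.coprime_two_right.2 ho).pow_right 2
      simpa using this
    obtain ⟨a, ha⟩ := IsPGroup.iff_card.1 P.2
    obtain ⟨b, -, hb⟩ := (Nat.dvd_prime_pow (by norm_num)).1 (hd.trans (dvd_of_eq ha))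
    have hz : IsPGroup 3 (zpowers x) := IsPGroup.of_card (n := b) (by rw [Nat.card_zpowers, hb])
    obtain ⟨W, hW⟩ := hz.exists_le_sylow
    obtain ⟨g, hg⟩ := MulAction.exists_smul_eq G P W
    have hm : x ∈ ((g • P : Sylow 3 G) : Subgroup G) := by rw [hg]; exact hW (mem_zpowers x)
    rw [Sylow.coe_subgroup_smul, mem_pointwise_smul_iff_inv_smul_mem] at hm
    simp only [MulAut.smul_def] at hm
    rw [← map_inv, MulAut.conj_apply] at hm
    exact ⟨g⁻¹, P_le_T h hm⟩

end Cfsg.Agent.Lib.Fg6.ThreeLocal
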