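/-
Groups in which the numbers of elements of each order take three values.
-/
import Cfsg.Agent.Lib.Fg6.OrderCount
import Mathlib.GroupTheory.Sylow
import Mathlib.NumberTheory.Divisors
import Mathlib.Data.ZMod.Basic
import Mathlib.Tactic.LinearCombination

set_option autoImplicit false
set_option linter.style.haveILetI false

namespace Cfsg.Agent.Lib.Fg6.ThreeValues

open Lib.Fg6.OrderCount
open scoped Pointwise

theorem sum_divisors_coprime {M : Type*} [AddCommMonoid M] {m n : ℕ} (h : m.Coprime n)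
    (hm : m ≠ 0) (hn : n ≠ 0) (f : ℕ → M) :
    ∑ d ∈ (m * n).divisors, f d = ∑ i ∈ m.divisors, ∑ j ∈ n.divisors, f (i * j) := by
  rw [← Finset.sum_product']
  refine (Finset.sum_nbij (fun x : ℕ × ℕ => x.1 * x.2) ?_ ?_ ?_ fun _ _ => rfl).symm
  · intro x hx
    simp only [Finset.mem_product, Nat.mem_divisors] at hx
    exact Nat.mem_divisors.2 ⟨mul_dvd_mul hx.1.1 hx.2.1, mul_ne_zero hm hn⟩
  · intro x hx y hy hxy
    simp only [Finset.coe_product, Set.mem_prod, Finset.mem_coe, Nat.mem_divisors] at hx hy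
    simp only at hxy
    have key : ∀ z : ℕ × ℕ, z.1 ∣ m → z.2 ∣ n → Nat.gcd (z.1 * z.2) m = z.1 := by
      intro z h1 h2
      rw [Nat.Coprime.gcd_mul_right_cancel z.1 (h.symm.coprime_dvd_left h2)]
      exact Nat.gcd_eq_left h1
    have h1 : x.1 = y.1 := by rw [← key x hx.1.1 hx.2.1, hxy, key y hy.1.1 hy.2.1]
    refine Prod.ext h1 ?_
    rw [h1] at hxy
    exact Nat.eq_of_mul_eq_mul_left
      (Nat.pos_of_ne_zero fun e => hm (Nat.eq_zero_of_zero_dvd (e ▸ hy.1.1))) hxy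
  · intro d hd
    obtain ⟨i, j, hi, hj, rfl⟩ := Nat.dvd_mul.1 (Nat.mem_divisors.1 hd).1
    exact ⟨(i, j), by simp [hi, hj, hm, hn], rfl⟩

variable {G : Type*} [Group G] [Finite G]

/-- Frobenius' congruence read modulo a divisor. -/
theorem frobenius_mod {M p : ℕ} (hM : M ∣ Nat.card G) (hM0 : M ≠ 0) (hp : p ∣ M) :
    ∑ d ∈ M.divisors, (cnt G d : ZMod p) = 0 := by
  rw [← Nat.cast_sum, ZMod.natCast_eq_zero_iff]
  exact hp.trans (dvd_sum_cnt hM _ fun d => by simp [Nat.mem_divisors, hM0])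

theorem cnt_prime_mod {p : ℕ} (hp : p.Prime) (hpG : p ∣ Nat.card G) :
    (cnt G p : ZMod p) = -1 := by
  have h := frobenius_mod hpG hp.ne_zero dvd_rfl
  rw [hp.divisors, Finset.sum_pair hp.one_lt.ne, cnt_one, Nat.cast_one] at h
  exact eq_neg_of_add_eq_zero_right h

theorem frobenius_pair {p q r : ℕ} (hp : p.Prime) (hq : q.Prime) (hpq : p ≠ q)
    (hpG : p ∣ Nat.card G) (hqG : q ∣ Nat.card G) (hr : r ∣ p * q) :
    1 + (cnt G p : ZMod r) + cnt G q + cnt G (p * q) = 0 := by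
  have hc := (Nat.coprime_primes hp hq).2 hpq
  have h := frobenius_mod (hc.mul_dvd_of_dvd_of_dvd hpG hqG) (mul_ne_zero hp.ne_zero hq.ne_zero) hr
  rw [sum_divisors_coprime hc hp.ne_zero hq.ne_zero, hp.divisors, hq.divisors] at h
  simp only [Finset.sum_pair hp.one_lt.ne, Finset.sum_pair hq.one_lt.ne, mul_one, one_mul, cnt_one,
    Nat.cast_one] at h
  rw [← h]; ring

/-- An element of order `m` centralising a Sylow `r`-subgroup makes every element of order `r`
part of `φ m` elements of order `m * r`. -/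
theorem totient_mul_cnt_le {m r : ℕ} (hr : r.Prime) (hm : m.Coprime r) (h : ¬ r ∣ cnt G m) :
    m.totient * cnt G r ≤ cnt G (m * r) := by
  classical
  have := Fact.mk hr
  let R : Sylow r G := default
  let act : MulAction (R : Subgroup G) {g : G // orderOf g = m} :=
    { smul := fun a x => ⟨MulAut.conj (a : G) x.1, (MulEquiv.orderOf_eq _ _).trans x.2⟩
      one_smul := fun x => Subtype.ext (by
        show MulAut.conj ((1 : (R : Subgroup G)) : G) x.1 = x.1
        simp)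
      mul_smul := fun a b x => Subtype.ext (by
        show MulAut.conj ((a * b : (R : Subgroup G)) : G) x.1 = MulAut.conj (a : G) (MulAut.conj (b : G) x.1)
        simp [mul_assoc]) }
  obtain ⟨⟨v, hv⟩, hfix⟩ :=
    R.2.nonempty_fixed_point_of_prime_not_dvd_card {g : G // orderOf g = m} h
  have hcomm : ∀ a ∈ (R : Subgroup G), Commute v a := fun a ha => by
    have h1 : a * v * a⁻¹ = v := congrArg Subtype.val (hfix ⟨a, ha⟩)
    exact (mul_inv_eq_iff_eq_mul.1 h1).symm
  have hconj : ∀ u : {g : G // orderOf g = r}, ∃ g : G, g⁻¹ * u.1 * g ∈ (R : Subgroup G) := by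
    intro u
    obtain ⟨S, hS⟩ := (IsPGroup.of_card (p := r) (n := 1)
      (show Nat.card (Subgroup.zpowers u.1) = r ^ 1 by rw [Nat.card_zpowers, u.2, pow_one])).exists_le_sylow
    obtain ⟨g, hg⟩ := MulAction.exists_smul_eq G R S
    refine ⟨g, ?_⟩
    have h1 : u.1 ∈ (S : Subgroup G) := hS (Subgroup.mem_zpowers _)
    rw [← hg, Sylow.coe_subgroup_smul, Subgroup.mem_pointwise_smul_iff_inv_smul_mem] at h1
    simpa [MulAut.smul_def] using h1
  choose g hg using hconj
  have := Fintype.ofFinite (Subgroup.zpowers v)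
  have hW : Nat.card {w : Subgroup.zpowers v // orderOf w = m} = m.totient := by
    rw [Nat.card_eq_fintype_card, Fintype.card_subtype]
    exact IsCyclic.card_orderOf_eq_totient
      (by rw [← Nat.card_eq_fintype_card, Nat.card_zpowers, hv])
  have hdata : ∀ (u : {g : G // orderOf g = r}) (w : {w : Subgroup.zpowers v // orderOf w = m}),
      Commute (g u * (w.1 : G) * (g u)⁻¹) u.1 ∧ orderOf (g u * (w.1 : G) * (g u)⁻¹) = m := by
    intro u w
    refine ⟨?_, (MulEquiv.orderOf_eq (MulAut.conj (g u)) (w.1 : G)).trans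
      ((Subgroup.orderOf_coe _).trans w.2)⟩
    obtain ⟨i, hi⟩ := Subgroup.mem_zpowers_iff.1 w.1.2
    have h1 : Commute (w.1 : G) ((g u)⁻¹ * u.1 * g u) := hi ▸ (hcomm _ (hg u)).zpow_left i
    have h2 := (Commute.conj_iff (g u)).2 h1
    simpa [mul_assoc] using h2
  let F : {g : G // orderOf g = r} × {w : Subgroup.zpowers v // orderOf w = m} →
      {x : G // orderOf x = m * r} := fun x =>
    ⟨g x.1 * (x.2.1 : G) * (g x.1)⁻¹ * x.1.1, by
      obtain ⟨h1, h2⟩ := hdata x.1 x.2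
      rw [h1.orderOf_mul_eq_mul_orderOf_of_coprime (by rw [h2, x.1.2]; exact hm), h2, x.1.2]⟩
  have hF : Function.Injective F := by
    rintro ⟨u, w⟩ ⟨u', w'⟩ hxy
    have h0 : g u * (w.1 : G) * (g u)⁻¹ * u.1 = g u' * (w'.1 : G) * (g u')⁻¹ * u'.1 :=
      congrArg Subtype.val hxy
    have key : ∀ (u : {g : G // orderOf g = r}) (w : {w : Subgroup.zpowers v // orderOf w = m}),
        (g u * (w.1 : G) * (g u)⁻¹ * u.1) ^ m = u.1 ^ m := by
      intro u w
      obtain ⟨h1, h2⟩ := hdata u w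
      rw [h1.mul_pow, orderOf_dvd_iff_pow_eq_one.1 (dvd_of_eq h2), one_mul]
    have h1 : u.1 ^ m = u'.1 ^ m := by rw [← key u w, h0, key u' w']
    have h2 : u = u' := Subtype.ext (by
      obtain ⟨k, hk⟩ : ∃ k, m * k ≡ 1 [MOD r] := by
        obtain ⟨k, hk⟩ := Nat.exists_mul_mod_eq_one_of_coprime hm hr.one_lt
        exact ⟨k, by rw [Nat.ModEq, Nat.mod_eq_of_lt hr.one_lt]; exact hk.2⟩
      have key2 : ∀ x : {g : G // orderOf g = r}, (x.1 ^ m) ^ k = x.1 := fun x => by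
        rw [← pow_mul]
        conv_rhs => rw [← pow_one x.1]
        exact pow_eq_pow_iff_modEq.2 (x.2.symm ▸ hk)
      rw [← key2 u, h1, key2 u'])
    subst h2
    refine Prod.ext rfl (Subtype.ext (Subtype.ext ?_))
    exact mul_left_cancel (mul_right_cancel (mul_right_cancel h0))
  have hle := Nat.card_le_card_of_injective F hF
  rw [Nat.card_prod, hW, mul_comm] at hle
  exact hle

variable {a b : ℕ}

/-- All counts but two lie in `{0, a, b}`. -/
def Vals (G : Type*) [Group G] (a b : ℕ) : Prop :=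
  0 < a ∧ ∀ d, 2 < d → cnt G d = 0 ∨ cnt G d = a ∨ cnt G d = b

theorem not_dvd_of_cast {p n : ℕ} {z : ZMod p} (h : (n : ZMod p) = z) (hz : z ≠ 0) : ¬ p ∣ n :=
  fun hd => hz (h.symm.trans ((ZMod.natCast_eq_zero_iff _ _).2 hd))

theorem two_ne_zero' {p : ℕ} (hp : p.Prime) (h2 : p ≠ 2) : (2 : ZMod p) ≠ 0 := fun h => h2 (by
  have h' : p ∣ 2 := (ZMod.natCast_eq_zero_iff 2 p).1 (by exact_mod_cast h)
  exact (Nat.prime_dvd_prime_iff_eq hp Nat.prime_two).1 h')

/-- A big count is the other value. -/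
theorem eq_other (hab : Vals G a b) {m r : ℕ} (hr : r.Prime) (hm : m.Coprime r)
    (hd : 2 < m * r) (hφ : 2 ≤ m.totient) (h : ¬ r ∣ cnt G m) (ha : cnt G r = a) :
    cnt G (m * r) = b := by
  have h1 := totient_mul_cnt_le hr hm h
  rw [ha] at h1
  have h2 : 2 * a ≤ cnt G (m * r) := (Nat.mul_le_mul_right a hφ).trans h1
  have h3 := hab.1
  rcases hab.2 _ hd with e | e | e <;> omega

theorem two_le_totient {p : ℕ} (hp : p.Prime) (h2 : p ≠ 2) : 2 ≤ p.totient := by
  rw [Nat.totient_prime hp]; have := hp.two_le; omega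

theorem two_lt_mul {p q : ℕ} (hp : p.Prime) (hq : q.Prime) : 2 < p * q := by
  have := Nat.mul_le_mul hp.two_le hq.two_le; omega

/-- Two odd primes with equal counts. -/
theorem pair_same (hab : Vals G a b) {p q : ℕ} (hp : p.Prime) (hq : q.Prime) (hpq : p ≠ q)
    (hp2 : p ≠ 2) (hq2 : q ≠ 2) (hpG : p ∣ Nat.card G) (hqG : q ∣ Nat.card G)
    (hpa : cnt G p = a) (hqa : cnt G q = a) :
    cnt G (p * q) = b ∧ (b : ZMod p) = 1 ∧ (b : ZMod q) = 1 := by
  have := Fact.mk hp
  have := Fact.mk hq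
  have e1 := cnt_prime_mod hp hpG
  have e2 := cnt_prime_mod hq hqG
  have hx : cnt G (p * q) = b := eq_other hab hq ((Nat.coprime_primes hp hq).2 hpq)
    (two_lt_mul hp hq) (two_le_totient hp hp2)
    (by rw [hpa, ← hqa]; exact not_dvd_of_cast e2 (neg_ne_zero.2 one_ne_zero)) hqa
  have f1 := frobenius_pair (r := p) hp hq hpq hpG hqG (dvd_mul_right _ _)
  have f2 := frobenius_pair (r := q) hp hq hpq hpG hqG (dvd_mul_left _ _)
  rw [hpa] at e1 f1 f2
  rw [hqa] at e2 f1 f2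
  rw [hx, e1] at f1
  rw [hx, e2] at f2
  exact ⟨hx, eq_of_sub_eq_zero (by rw [← f1]; ring), eq_of_sub_eq_zero (by rw [← f2]; ring)⟩

theorem not_three_aux (hab : Vals G a b) {p q r : ℕ} (hp : p.Prime) (hq : q.Prime) (hr : r.Prime)
    (hpq : p ≠ q) (hpr : p ≠ r) (hqr : q ≠ r) (hp2 : p ≠ 2) (hq2 : q ≠ 2) (hr2 : r ≠ 2)
    (hpG : p ∣ Nat.card G) (hqG : q ∣ Nat.card G) (hrG : r ∣ Nat.card G)
    (hpa : cnt G p = a) (hqa : cnt G q = a) (hrv : cnt G r = a ∨ cnt G r = b) : False := by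
  have := Fact.mk hp
  have := Fact.mk hr
  have e1 := cnt_prime_mod hp hpG
  rw [hpa] at e1
  obtain ⟨hx, hbp, -⟩ := pair_same hab hp hq hpq hp2 hq2 hpG hqG hpa hqa
  rcases hrv with hra | hrb
  · obtain ⟨hy, -, hbr⟩ := pair_same hab hp hr hpr hp2 hr2 hpG hrG hpa hra
    obtain ⟨hz, -, -⟩ := pair_same hab hq hr hqr hq2 hr2 hqG hrG hqa hra
    have hc : (p * q).Coprime r := Nat.Coprime.mul_left ((Nat.coprime_primes hp hr).2 hpr)
      ((Nat.coprime_primes hq hr).2 hqr)
    have hw : cnt G (p * q * r) = b := eq_other hab hr hc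
      (lt_of_lt_of_le (two_lt_mul hp hq) (Nat.le_mul_of_pos_right _ hr.pos))
      (by
        rw [Nat.totient_mul ((Nat.coprime_primes hp hq).2 hpq)]
        have := two_le_totient hp hp2
        have := two_le_totient hq hq2
        nlinarith)
      (by rw [hx]; exact not_dvd_of_cast hbr one_ne_zero) hra
    have h := frobenius_mod (p := p) (hc.mul_dvd_of_dvd_of_dvd
      (((Nat.coprime_primes hp hq).2 hpq).mul_dvd_of_dvd_of_dvd hpG hqG) hrG)
      (mul_ne_zero (mul_ne_zero hp.ne_zero hq.ne_zero) hr.ne_zero) (Dvd.intro _ (mul_assoc p q r).symm)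
    rw [sum_divisors_coprime hc (mul_ne_zero hp.ne_zero hq.ne_zero) hr.ne_zero,
      sum_divisors_coprime ((Nat.coprime_primes hp hq).2 hpq) hp.ne_zero hq.ne_zero, hp.divisors,
      hq.divisors, hr.divisors] at h
    simp only [Finset.sum_pair hp.one_lt.ne, Finset.sum_pair hq.one_lt.ne,
      Finset.sum_pair hr.one_lt.ne, mul_one, one_mul, cnt_one, Nat.cast_one, hpa, hqa, hra, hx,
      hy, hz, hw, e1, hbp] at h
    exact two_ne_zero' hp hp2 (by rw [← h]; ring)
  · have hy : cnt G (r * p) = b := eq_other hab hp ((Nat.coprime_primes hr hp).2 hpr.symm)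
      (two_lt_mul hr hp) (two_le_totient hr hr2)
      (by rw [hrb]; exact not_dvd_of_cast hbp one_ne_zero) hpa
    have h := frobenius_pair (r := p) hr hp hpr.symm hrG hpG (dvd_mul_left _ _)
    rw [hrb, hy, hpa, e1, hbp] at h
    exact two_ne_zero' hp hp2 (by rw [← h]; ring)

theorem vals_comm (hb : 0 < b) (hab : Vals G a b) : Vals G b a :=
  ⟨hb, fun d hd => (hab.2 d hd).imp_right Or.symm⟩

theorem prime_value (hab : Vals G a b) {p : ℕ} (hp : p.Prime) (hp2 : p ≠ 2) (hpG : p ∣ Nat.card G) :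
    cnt G p = a ∨ cnt G p = b := by
  have := Fact.mk hp
  refine (hab.2 p (lt_of_le_of_ne hp.two_le (Ne.symm hp2))).resolve_left fun h => ?_
  have e := cnt_prime_mod hp hpG
  rw [h, Nat.cast_zero, eq_comm, neg_eq_zero] at e
  exact one_ne_zero e

/-- At most two odd primes divide the order. -/
theorem card_odd_primes_le_two (hb : 0 < b) (hab : Vals G a b) :
    ((Nat.card G).primeFactors.filter (· ≠ 2)).card ≤ 2 := by
  by_contra! hlt
  obtain ⟨p, q, r, hp, hq, hr, hpq, hpr, hqr⟩ := Finset.two_lt_card_iff.1 hlt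
  simp only [Finset.mem_filter, Nat.mem_primeFactors] at hp hq hr
  obtain ⟨⟨hp, hpG, -⟩, hp2⟩ := hp
  obtain ⟨⟨hq, hqG, -⟩, hq2⟩ := hq
  obtain ⟨⟨hr, hrG, -⟩, hr2⟩ := hr
  have hab' := vals_comm hb hab
  rcases prime_value hab hp hp2 hpG with p1 | p1 <;> rcases prime_value hab hq hq2 hqG with q1 | q1 <;>
    rcases prime_value hab hr hr2 hrG with r1 | r1
  · exact not_three_aux hab hp hq hr hpq hpr hqr hp2 hq2 hr2 hpG hqG hrG p1 q1 (Or.inl r1)
  · exact not_three_aux hab hp hq hr hpq hpr hqr hp2 hq2 hr2 hpG hqG hrG p1 q1 (Or.inr r1)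
  · exact not_three_aux hab hp hr hq hpr hpq hqr.symm hp2 hr2 hq2 hpG hrG hqG p1 r1 (Or.inr q1)
  · exact not_three_aux hab' hq hr hp hqr hpq.symm hpr.symm hq2 hr2 hp2 hqG hrG hpG q1 r1 (Or.inr p1)
  · exact not_three_aux hab hq hr hp hqr hpq.symm hpr.symm hq2 hr2 hp2 hqG hrG hpG q1 r1 (Or.inr p1)
  · exact not_three_aux hab' hp hr hq hpr hpq hqr.symm hp2 hr2 hq2 hpG hrG hqG p1 r1 (Or.inr q1)
  · exact not_three_aux hab' hp hq hr hpq hpr hqr hp2 hq2 hr2 hpG hqG hrG p1 q1 (Or.inr r1)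
  · exact not_three_aux hab' hp hq hr hpq hpr hqr hp2 hq2 hr2 hpG hqG hrG p1 q1 (Or.inl r1)

/-- A single involution: doubling odd orders keeps the counts. -/
theorem cnt_two_mul (h2 : cnt G 2 = 1) {m : ℕ} (hm : Odd m) : cnt G (2 * m) = cnt G m := by
  obtain ⟨hs, ⟨⟨z, hz⟩⟩⟩ := Nat.card_eq_one_iff_unique.1 h2
  have huniq : ∀ w : G, orderOf w = 2 → w = z := fun w hw =>
    congrArg Subtype.val (@Subsingleton.elim _ hs ⟨w, hw⟩ ⟨z, hz⟩)
  have hcen : ∀ g : G, Commute g z := fun g => by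
    have h1 := huniq (g * z * g⁻¹) ((MulEquiv.orderOf_eq (MulAut.conj g) z).trans hz)
    exact mul_inv_eq_iff_eq_mul.1 h1
  have hzz : z * z = 1 := by rw [← sq]; exact orderOf_dvd_iff_pow_eq_one.1 (dvd_of_eq hz)
  refine (Nat.card_congr ((Equiv.mulRight z).subtypeEquiv fun g => ?_)).symm
  show orderOf g = m ↔ orderOf (g * z) = 2 * m
  have back : ∀ x : G, orderOf x = 2 * m → orderOf (x * z) = m := ?back
  refine ⟨fun h => ?fwd, fun h => by
    have h' := back _ h
    rwa [mul_assoc, hzz, mul_one] at h'⟩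
  case fwd =>
    rw [(hcen g).orderOf_mul_eq_mul_orderOf_of_coprime (by
      rw [h, hz]; exact Nat.coprime_two_right.2 hm), h, hz, mul_comm]
  case back =>
    intro x hx
    obtain ⟨k, rfl⟩ := hm
    have hg : orderOf (x ^ (2 * k + 1)) = 2 := by
      rw [orderOf_pow_of_dvd (by omega) (by rw [hx]; exact dvd_mul_left _ _), hx]
      exact Nat.mul_div_cancel _ (by omega)
    have h1 := huniq _ hg
    have hg' : orderOf (x ^ 2) = 2 * k + 1 := by
      rw [orderOf_pow_of_dvd (by omega) (by rw [hx]; exact dvd_mul_right _ _), hx]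
      exact Nat.mul_div_cancel_left _ (by omega)
    have h2 : x * z = (x ^ 2) ^ (k + 1) := by
      rw [← h1, ← pow_succ', ← pow_mul]; congr 1
    rw [h2, Nat.Coprime.orderOf_pow (by
      rw [hg']
      exact Nat.Coprime.symm (by
        rw [Nat.coprime_iff_gcd_eq_one, show 2 * k + 1 = k + (k + 1) by omega]
        simp [Nat.gcd_add_self_right, Nat.gcd_comm])), hg']

theorem no_four_same (h2 : cnt G 2 = 1) (hab : Vals G a b) {p q : ℕ} (hp : p.Prime)
    (hq : q.Prime) (hpq : p ≠ q) (hp2 : p ≠ 2) (hq2 : q ≠ 2) (hpG : p ∣ Nat.card G)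
    (hqG : q ∣ Nat.card G) (hpa : cnt G p = a) (hqa : cnt G q = a) : cnt G 4 = 0 := by
  by_contra h4
  have := Fact.mk hp
  have := Fact.mk hq
  have h4G : 4 ∣ Nat.card G := by
    obtain ⟨g, hg⟩ := (Nat.card_ne_zero.1 h4).1
    exact hg ▸ orderOf_dvd_natCard g
  obtain ⟨hx, hbp, hbq⟩ := pair_same hab hp hq hpq hp2 hq2 hpG hqG hpa hqa
  have e1 := cnt_prime_mod hp hpG
  have e2 := cnt_prime_mod hq hqG
  rw [hpa] at e1
  rw [hqa] at e2
  have hc4p : Nat.Coprime 4 p := Nat.Coprime.pow_left 2 ((Nat.coprime_primes Nat.prime_two hp).2 hp2.symm)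
  have hc4q : Nat.Coprime 4 q := Nat.Coprime.pow_left 2 ((Nat.coprime_primes Nat.prime_two hq).2 hq2.symm)
  have hcpq : Nat.Coprime p q := (Nat.coprime_primes hp hq).2 hpq
  have hφ : 2 ≤ Nat.totient 4 := by decide
  have hv : cnt G 4 = a ∨ cnt G 4 = b := (hab.2 4 (by norm_num)).resolve_left h4
  have hn : ∀ r : ℕ, [Fact r.Prime] → (a : ZMod r) = -1 → (b : ZMod r) = 1 → ¬ r ∣ cnt G 4 := by
    intro r _ ea eb
    rcases hv with e | e <;> rw [e]
    · exact not_dvd_of_cast ea (neg_ne_zero.2 one_ne_zero)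
    · exact not_dvd_of_cast eb one_ne_zero
  have hp4 : cnt G (4 * p) = b :=
    eq_other hab hp hc4p (by have := hp.two_le; omega) hφ (hn p e1 hbp) hpa
  have hq4 : cnt G (4 * q) = b :=
    eq_other hab hq hc4q (by have := hq.two_le; omega) hφ (hn q e2 hbq) hqa
  have hodd : ∀ r : ℕ, r.Prime → r ≠ 2 → cnt G (2 * r) = cnt G r := fun r hr hr2 =>
    cnt_two_mul h2 (hr.odd_of_ne_two hr2)
  have hdiv4 : (4 : ℕ).divisors = {1, 2, 4} := by decide
  have h := frobenius_mod (p := p) (hc4p.mul_dvd_of_dvd_of_dvd h4G hpG)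
    (mul_ne_zero (by norm_num) hp.ne_zero) (dvd_mul_left _ _)
  rw [sum_divisors_coprime hc4p (by norm_num) hp.ne_zero, hdiv4, hp.divisors] at h
  simp only [Finset.sum_pair hp.one_lt.ne, Finset.sum_insert, Finset.mem_insert,
    Finset.mem_singleton, Finset.sum_singleton, mul_one, one_mul, cnt_one, h2, hpa, hp4,
    hodd p hp hp2, e1, hbp, Nat.cast_one, show ¬ ((1 : ℕ) = 2 ∨ (1 : ℕ) = 4) by norm_num,
    show ¬ (2 : ℕ) = 4 by norm_num, not_false_eq_true] at h
  have h4v : (cnt G 4 : ZMod p) = -1 := eq_neg_of_add_eq_zero_left (by rw [← h]; ring)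
  have h4a : cnt G 4 = a := hv.resolve_right fun e => two_ne_zero' hp hp2 (by
    rw [e, hbp] at h4v
    rw [show (2 : ZMod p) = 1 + 1 by ring]
    nth_rewrite 1 [h4v]
    ring)
  have hpq4 : cnt G (4 * p * q) = b := eq_other hab hq (hc4q.mul_left hcpq)
    (by have := two_lt_mul hp hq; rw [mul_assoc]; omega)
    (by
      rw [Nat.totient_mul hc4p]
      have := two_le_totient hp hp2
      nlinarith)
    (by rw [hp4]; exact not_dvd_of_cast hbq one_ne_zero) hqa
  have hc : Nat.Coprime 4 (p * q) := hc4p.mul_right hc4q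
  have h' := frobenius_mod (p := p) (hc.mul_dvd_of_dvd_of_dvd h4G
    (hcpq.mul_dvd_of_dvd_of_dvd hpG hqG))
    (mul_ne_zero (by norm_num) (mul_ne_zero hp.ne_zero hq.ne_zero))
    ((dvd_mul_right p q).trans (dvd_mul_left _ _))
  rw [sum_divisors_coprime hc (by norm_num) (mul_ne_zero hp.ne_zero hq.ne_zero), hdiv4] at h'
  simp only [sum_divisors_coprime hcpq hp.ne_zero hq.ne_zero, hp.divisors, hq.divisors,
    Finset.sum_pair hp.one_lt.ne, Finset.sum_pair hq.one_lt.ne, Finset.sum_insert,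
    Finset.mem_insert, Finset.mem_singleton, Finset.sum_singleton, mul_one, one_mul, ← mul_assoc,
    cnt_one, h2, hpa, hqa, hp4, hq4, hpq4, hx, h4a, hodd p hp hp2, hodd q hq hq2,
    show cnt G (2 * p * q) = b by
      rw [mul_assoc, cnt_two_mul h2 ((hp.odd_of_ne_two hp2).mul (hq.odd_of_ne_two hq2))]; exact hx,
    e1, hbp, Nat.cast_one, show ¬ ((1 : ℕ) = 2 ∨ (1 : ℕ) = 4) by norm_num,
    show ¬ (2 : ℕ) = 4 by norm_num, not_false_eq_true] at h'
  exact two_ne_zero' hp hp2 (by rw [← h']; ring)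

/-- Two odd primes with different counts give no mixed elements. -/
theorem pair_diff (hb : 0 < b) (hab : Vals G a b) (hne : a ≠ b) {p q : ℕ} (hp : p.Prime)
    (hq : q.Prime) (hpq : p ≠ q) (hp2 : p ≠ 2) (hq2 : q ≠ 2) (hpG : p ∣ Nat.card G)
    (hqG : q ∣ Nat.card G) (hpa : cnt G p = a) (hqb : cnt G q = b) :
    cnt G (p * q) = 0 ∧ (b : ZMod p) = 0 ∧ (a : ZMod q) = 0 := by
  have := Fact.mk hp
  have := Fact.mk hq
  have e1 := cnt_prime_mod hp hpG
  have e2 := cnt_prime_mod hq hqG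
  have f1 := frobenius_pair (r := p) hp hq hpq hpG hqG (dvd_mul_right _ _)
  have f2 := frobenius_pair (r := q) hp hq hpq hpG hqG (dvd_mul_left _ _)
  rw [hpa] at e1 f1 f2
  rw [hqb] at e2 f1 f2
  have hx : cnt G (p * q) = 0 := by
    rcases hab.2 _ (two_lt_mul hp hq) with e | e | e
    · exact e
    · exfalso
      rw [e, e1] at f1
      have h := eq_other hab hp ((Nat.coprime_primes hq hp).2 hpq.symm) (two_lt_mul hq hp)
        (two_le_totient hq hq2) (by
          rw [hqb]; exact not_dvd_of_cast (z := 1) (eq_of_sub_eq_zero (by rw [← f1]; ring)) one_ne_zero)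
        hpa
      rw [mul_comm, e] at h
      exact hne h
    · exfalso
      rw [e, e2] at f2
      have h := eq_other (vals_comm hb hab) hq ((Nat.coprime_primes hp hq).2 hpq) (two_lt_mul hp hq)
        (two_le_totient hp hp2) (by
          rw [hpa]; exact not_dvd_of_cast (z := 1) (eq_of_sub_eq_zero (by rw [← f2]; ring)) one_ne_zero)
        hqb
      rw [e] at h
      exact hne h.symm
  rw [hx, Nat.cast_zero, add_zero, e1] at f1
  rw [hx, Nat.cast_zero, add_zero, e2] at f2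
  exact ⟨hx, by rw [← f1]; ring, by rw [← f2]; ring⟩

theorem no_four_diff (h2 : cnt G 2 = 1) (hab : Vals G a b) {p : ℕ} (hp : p.Prime) (hp2 : p ≠ 2)
    (hpG : p ∣ Nat.card G) (hpa : cnt G p = a) (hbp : (b : ZMod p) = 0) : cnt G 4 ≠ a := by
  intro h4
  have := Fact.mk hp
  have e1 := cnt_prime_mod hp hpG
  rw [hpa] at e1
  have ha := hab.1
  have h4G : 4 ∣ Nat.card G := by
    have h : Nat.card {g : G // orderOf g = 4} ≠ 0 := by
      show cnt G 4 ≠ 0
      omega
    obtain ⟨g, hg⟩ := (Nat.card_ne_zero.1 h).1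
    exact hg ▸ orderOf_dvd_natCard g
  have hc4p : Nat.Coprime 4 p := Nat.Coprime.pow_left 2 ((Nat.coprime_primes Nat.prime_two hp).2 hp2.symm)
  have hp4 : cnt G (4 * p) = b := eq_other hab hp hc4p (by have := hp.two_le; omega) (by decide)
    (by rw [h4]; exact not_dvd_of_cast e1 (neg_ne_zero.2 one_ne_zero)) hpa
  have h := frobenius_mod (p := p) (hc4p.mul_dvd_of_dvd_of_dvd h4G hpG)
    (mul_ne_zero (by norm_num) hp.ne_zero) (dvd_mul_left _ _)
  rw [sum_divisors_coprime hc4p (by norm_num) hp.ne_zero,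
    show (4 : ℕ).divisors = {1, 2, 4} by decide, hp.divisors] at h
  simp only [Finset.sum_pair hp.one_lt.ne, Finset.sum_insert, Finset.mem_insert,
    Finset.mem_singleton, Finset.sum_singleton, mul_one, one_mul, cnt_one, h2, h4, hpa, hp4,
    cnt_two_mul h2 (hp.odd_of_ne_two hp2), e1, hbp, Nat.cast_one,
    show ¬ ((1 : ℕ) = 2 ∨ (1 : ℕ) = 4) by norm_num,
    show ¬ (2 : ℕ) = 4 by norm_num, not_false_eq_true] at h
  exact one_ne_zero (α := ZMod p) (by linear_combination (-1 : ZMod p) * h)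

end Cfsg.Agent.Lib.Fg6.ThreeValues

namespace Cfsg.Agent.Lib.Fg6.ThreeValues

open Lib.Fg6.OrderCount

variable {G : Type*} [Group G] [Finite G]

/-- The three values are `1`, `a`, `b`. -/
theorem exists_values
    (h : (((fun m : ℕ => Nat.card {g : G // orderOf g = m}) '' Set.range (orderOf : G → ℕ))).ncard = 3) :
    ∃ a b : ℕ, a ≠ b ∧ 1 < a ∧ 1 < b ∧
      (∀ d, d ∈ Set.range (orderOf : G → ℕ) → cnt G d = 1 ∨ cnt G d = a ∨ cnt G d = b) ∧
      (∃ d, cnt G d = a) ∧ ∃ d, cnt G d = b := by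
  set S := (fun m : ℕ => Nat.card {g : G // orderOf g = m}) '' Set.range (orderOf : G → ℕ) with hS
  have h1 : 1 ∈ S := ⟨1, ⟨1, orderOf_one⟩, cnt_one⟩
  have h2 : (S \ {1}).ncard = 2 := by
    rw [Set.ncard_sdiff_singleton_of_mem h1, h]
  obtain ⟨a, b, hab, he⟩ := Set.ncard_eq_two.1 h2
  have hmem : ∀ x, x = a ∨ x = b → x ∈ S ∧ x ≠ 1 := fun x hx => by
    have : x ∈ S \ {1} := by rw [he]; exact hx
    exact ⟨this.1, fun e => this.2 e⟩
  have hpos : ∀ x ∈ S, 0 < x := by
    rintro x ⟨d, hd, rfl⟩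
    exact cnt_pos hd
  refine ⟨a, b, hab, ?_, ?_, fun d hd => ?_, ?_, ?_⟩
  · have := hpos a (hmem a (Or.inl rfl)).1; have := (hmem a (Or.inl rfl)).2; omega
  · have := hpos b (hmem b (Or.inr rfl)).1; have := (hmem b (Or.inr rfl)).2; omega
  · by_cases h' : cnt G d = 1
    · exact Or.inl h'
    · have : cnt G d ∈ S \ {1} := ⟨⟨d, hd, rfl⟩, h'⟩
      rw [he] at this
      exact Or.inr this
  · obtain ⟨d, -, hd⟩ := (hmem a (Or.inl rfl)).1; exact ⟨d, hd⟩
  · obtain ⟨d, -, hd⟩ := (hmem b (Or.inr rfl)).1; exact ⟨d, hd⟩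

theorem two_dvd_cnt {d : ℕ} (hd : 2 < d) : 2 ∣ cnt G d :=
  (even_iff_two_dvd.1 (Nat.totient_even hd)).trans (totient_dvd_cnt d)

/-- Orders above two have counts among the non-trivial values. -/
theorem vals_of_values {a b : ℕ} (ha : 1 < a)
    (hv : ∀ d, d ∈ Set.range (orderOf : G → ℕ) → cnt G d = 1 ∨ cnt G d = a ∨ cnt G d = b) :
    Vals G a b := by
  refine ⟨by omega, fun d hd => ?_⟩
  by_cases hm : d ∈ Set.range (orderOf : G → ℕ)
  · refine Or.inr ((hv d hm).resolve_left fun h => ?_)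
    have := two_dvd_cnt (G := G) hd
    omega
  · exact Or.inl (cnt_eq_zero hm)

end Cfsg.Agent.Lib.Fg6.ThreeValues
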